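/-
Tools for actions on abelian groups of coprime order, used for Fitting height bounds.
-/
import Mathlib
import Cfsg.Agent.Lib.Coprime
import Cfsg.Agent.Lib.CoprimeGen
import Cfsg.Agent.Lib.CoprimeAbelian

set_option autoImplicit false

open scoped commutatorElement Pointwise
open Finset

namespace CfsgLib.FittingHeight

universe u

variable {Γ : Type u} [Group Γ]

theorem nsmul_eq_zero_coprime {M : Type*} [AddCommGroup M] [Finite M] {n : ℕ}
    (h : n.Coprime (Nat.card M)) {v : M} (hv : n • v = 0) : v = 0 := by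
  rw [← AddMonoid.addOrderOf_eq_one_iff]
  exact Nat.eq_one_of_dvd_coprimes h (addOrderOf_dvd_of_nsmul_eq_zero hv) (addOrderOf_dvd_natCard v)

/-- The sum over a subgroup. -/
noncomputable def avg {M : Type*} [AddCommGroup M] [DistribMulAction Γ M] [Finite Γ] (B : Subgroup Γ) (v : M) : M :=
  letI := Fintype.ofFinite B
  ∑ b : B, (b : Γ) • v

variable {M : Type*} [AddCommGroup M] [DistribMulAction Γ M] [Finite Γ]

theorem avg_eq (B : Subgroup Γ) [Fintype B] (v : M) : avg B v = ∑ b : B, (b : Γ) • v := by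
  unfold avg
  congr
  exact Subsingleton.elim _ _

theorem avg_smul (B : Subgroup Γ) {g : Γ} (hg : g ∈ B) (v : M) : avg B (g • v) = avg B v := by
  have := Fintype.ofFinite B
  rw [avg_eq, avg_eq]
  refine Fintype.sum_equiv (Equiv.mulRight ⟨g, hg⟩) _ _ fun b => ?_
  simp [mul_smul]

theorem smul_avg (B : Subgroup Γ) {g : Γ} (hg : g ∈ B) (v : M) : g • avg B v = avg B v := by
  have := Fintype.ofFinite B
  rw [avg_eq, Finset.smul_sum]
  refine Fintype.sum_equiv (Equiv.mulLeft ⟨g, hg⟩) _ _ fun b => ?_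
  simp [mul_smul]

theorem avg_fixed (B : Subgroup Γ) {v : M} (hv : ∀ b ∈ B, b • v = v) : avg B v = Nat.card B • v := by
  have := Fintype.ofFinite B
  rw [avg_eq, Finset.sum_congr rfl (fun (b : B) _ => hv b b.2), Finset.sum_const, Finset.card_univ,
    Nat.card_eq_fintype_card]

theorem avg_add (B : Subgroup Γ) (v w : M) : avg B (v + w) = avg B v + avg B w := by
  have := Fintype.ofFinite B
  simp [avg_eq, smul_add, Finset.sum_add_distrib]

theorem avg_sub (B : Subgroup Γ) (v w : M) : avg B (v - w) = avg B v - avg B w := by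
  have := Fintype.ofFinite B
  simp [avg_eq, smul_sub, Finset.sum_sub_distrib]

theorem avg_conj (B : Subgroup Γ) {g : Γ} (hg : g ∈ Subgroup.normalizer (B : Set Γ)) (v : M) :
    avg B (g • v) = g • avg B v := by
  have := Fintype.ofFinite B
  rw [avg_eq, avg_eq, Finset.smul_sum]
  refine Finset.sum_nbij' (fun b => ⟨g⁻¹ * b * g, by
      simpa using (Subgroup.mem_normalizer_iff.mp (inv_mem hg) _).mp b.2⟩)
    (fun b => ⟨g * b * g⁻¹, (Subgroup.mem_normalizer_iff.mp hg _).mp b.2⟩) (by simp) (by simp)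
    (fun b _ => Subtype.ext (by simp [mul_assoc])) (fun b _ => Subtype.ext (by simp [mul_assoc])) fun b _ => ?_
  simp [mul_smul]

theorem avg_avg_of_le {B H : Subgroup Γ} (h : H ≤ B) (v : M) :
    avg B (avg H v) = Nat.card H • avg B v := by
  have := Fintype.ofFinite H
  have := Fintype.ofFinite B
  rw [avg_eq (B := H), avg_eq B, avg_eq B]
  simp only [Finset.smul_sum]
  rw [Finset.sum_comm, Finset.sum_congr rfl (fun (x : H) _ => show ∑ b : B, (b : Γ) • (x : Γ) • v = ∑ b : B, (b : Γ) • v by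
    rw [← avg_eq B, ← avg_eq B, avg_smul B (h x.2)]), Finset.sum_const, Finset.card_univ, Nat.card_eq_fintype_card, Finset.smul_sum]

/-- The key identity for a fixed-point-free element of prime order normalising a subgroup. -/
theorem card_smul_eq (Z : Subgroup Γ) {b : Γ} {p : ℕ} (hp : p.Prime) (hb : orderOf b = p)
    (hbZ : b ∈ Subgroup.normalizer (Z : Set Γ)) (hfpf : ∀ z ∈ Z, b * z * b⁻¹ = z → z = 1) [Fintype Z]
    {v : M} (hv : avg Z v = 0) :
    Nat.card Z • v = ∑ z : Z, (z : Γ) • avg (Subgroup.zpowers b) ((z : Γ)⁻¹ • v) := by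
  classical
  have : NeZero p := ⟨hp.ne_zero⟩
  have hN : ∀ u : M, avg (Subgroup.zpowers b) u = ∑ i : Fin p, (b ^ (i : ℕ)) • u := by
    intro u
    have := Fintype.ofFinite (Subgroup.zpowers b)
    rw [avg_eq]
    refine (Fintype.sum_equiv ((finCongr hb.symm).trans (finEquivZPowers (isOfFinOrder_of_finite b))) _ _ fun i => ?_).symm
    simp [finEquivZPowers_apply]
  simp only [hN, Finset.smul_sum]
  rw [Finset.sum_comm, Finset.sum_eq_single (0 : Fin p)]
  · rw [Finset.sum_congr rfl (fun (z : Z) _ => show (z : Γ) • (b ^ ((0 : Fin p) : ℕ)) • (z : Γ)⁻¹ • v = v by simp),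
      Finset.sum_const, Finset.card_univ, Nat.card_eq_fintype_card]
  · intro i _ hi
    have hiN : b ^ (i : ℕ) ∈ Subgroup.normalizer (Z : Set Γ) := pow_mem hbZ _
    have hfix : ∀ z ∈ Z, b ^ (i : ℕ) * z * (b ^ (i : ℕ))⁻¹ = z → z = 1 := by
      intro z hz h
      refine hfpf z hz ?_
      have hc : Commute (b ^ (i : ℕ)) z := mul_inv_eq_iff_eq_mul.mp h
      obtain ⟨c, hc'⟩ := exists_pow_eq_self_of_coprime (x := b) (n := (i : ℕ)) (by
        rw [hb]
        exact ((hp.coprime_iff_not_dvd).mpr fun hd => by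
          have h1 := Nat.le_of_dvd (Nat.pos_of_ne_zero (fun h0 => hi (Fin.ext (by simpa using h0)))) hd
          have := i.2; omega).symm)
      have := hc.pow_left c
      rw [hc'] at this
      rw [mul_inv_eq_iff_eq_mul]
      exact this
    let ψ : Z → Z := fun z => ⟨(z : Γ) * (b ^ (i : ℕ) * (z : Γ)⁻¹ * (b ^ (i : ℕ))⁻¹),
      Z.mul_mem z.2 ((Subgroup.mem_normalizer_iff.mp hiN _).mp (Z.inv_mem z.2))⟩
    have hψ : Function.Bijective ψ := by
      refine Finite.injective_iff_bijective.mp fun z w h => ?_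
      have h' := congrArg Subtype.val h
      simp only [ψ] at h'
      have h2 : b ^ (i : ℕ) * ((w : Γ)⁻¹ * z) * (b ^ (i : ℕ))⁻¹ = (w : Γ)⁻¹ * z := by
        have h3 : (z : Γ) * (b ^ (i : ℕ)) * (z : Γ)⁻¹ = w * (b ^ (i : ℕ)) * (w : Γ)⁻¹ := by
          have := congrArg (fun x => x * b ^ (i : ℕ)) h'
          simpa [mul_assoc] using this
        calc b ^ (i : ℕ) * ((w : Γ)⁻¹ * z) * (b ^ (i : ℕ))⁻¹
            = (w : Γ)⁻¹ * (w * b ^ (i : ℕ) * (w : Γ)⁻¹) * z * (b ^ (i : ℕ))⁻¹ := by group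
          _ = _ := by rw [← h3]; group
      have := hfix _ (Z.mul_mem (Z.inv_mem w.2) z.2) h2
      exact Subtype.ext (inv_mul_eq_one.mp this).symm
    have key : ∀ z : Z, (z : Γ) • b ^ (i : ℕ) • (z : Γ)⁻¹ • v = ((ψ z : Z) : Γ) • (b ^ (i : ℕ)) • v := fun z => by
      simp only [ψ, ← mul_smul]
      congr 1
      group
    rw [Finset.sum_congr rfl (fun z _ => key z), hψ.sum_comp (fun y : Z => (y : Γ) • b ^ (i : ℕ) • v),
      ← avg_eq, avg_conj Z hiN, hv, smul_zero]
  · simp

/-- An element commuting with `Z` that fixes the fixed points of `b` fixes every vector with zero `Z`-average. -/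
theorem smul_eq_of_span (Z : Subgroup Γ) {b : Γ} {p : ℕ} (hp : p.Prime) (hb : orderOf b = p)
    (hbZ : b ∈ Subgroup.normalizer (Z : Set Γ)) (hfpf : ∀ z ∈ Z, b * z * b⁻¹ = z → z = 1)
    [Finite M] (hcop : (Nat.card Z).Coprime (Nat.card M))
    {x : Γ} (hxZ : ∀ z ∈ Z, x * z = z * x) (hx : ∀ w : M, b • w = w → x • w = w)
    {v : M} (hv : avg Z v = 0) : x • v = v := by
  have := Fintype.ofFinite Z
  have h := card_smul_eq Z hp hb hbZ hfpf hv
  have h2 : x • (Nat.card Z • v) = Nat.card Z • v := by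
    rw [h, Finset.smul_sum]
    refine Finset.sum_congr rfl fun z _ => ?_
    rw [← mul_smul, hxZ z z.2, mul_smul, hx _ (smul_avg _ (Subgroup.mem_zpowers b) _)]
  refine sub_eq_zero.mp (nsmul_eq_zero_coprime hcop ?_)
  rw [nsmul_sub, ← smul_comm x (Nat.card Z) v, h2, sub_self]

/-- Elements of `X` moving `Q` only inside `N`. -/
def modCent (Q N X : Subgroup Γ) (hXQ : X ≤ Subgroup.normalizer (Q : Set Γ)) : Subgroup Γ where
  carrier := {g | g ∈ X ∧ ∀ x ∈ Q, g * x * g⁻¹ * x⁻¹ ∈ N}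
  one_mem' := ⟨X.one_mem, fun x _ => by simp⟩
  mul_mem' := by
    rintro g h ⟨hg, hg'⟩ ⟨hh, hh'⟩
    refine ⟨X.mul_mem hg hh, fun x hx => ?_⟩
    have hy : h * x * h⁻¹ ∈ Q := (Subgroup.mem_normalizer_iff.mp (hXQ hh) _).mp hx
    have := N.mul_mem (hg' _ hy) (hh' x hx)
    convert this using 1
    group
  inv_mem' := by
    rintro g ⟨hg, hg'⟩
    refine ⟨X.inv_mem hg, fun x hx => ?_⟩
    have hy : g⁻¹ * x * g ∈ Q := by
      simpa using (Subgroup.mem_normalizer_iff.mp (hXQ (X.inv_mem hg)) _).mp hx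
    have := N.inv_mem (hg' _ hy)
    convert this using 1
    group

omit [Finite Γ] in
theorem mem_modCent {Q N X : Subgroup Γ} {hXQ : X ≤ Subgroup.normalizer (Q : Set Γ)} {g : Γ} :
    g ∈ modCent Q N X hXQ ↔ g ∈ X ∧ ∀ x ∈ Q, g * x * g⁻¹ * x⁻¹ ∈ N := Iff.rfl

/-- Generation by the centralisers of non-identity elements, in elementwise form. -/
theorem gen_centralizers {A K D : Subgroup Γ} [IsMulCommutative A] (hA : ¬ IsCyclic A)
    (hAK : A ≤ Subgroup.normalizer (K : Set Γ)) (hcop : (Nat.card A).Coprime (Nat.card K))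
    (h : ∀ a ∈ A, a ≠ 1 → ∀ x ∈ K, a * x = x * a → x ∈ D) : K ≤ D := by
  rw [← coprime_generated_by_centralizers hA hAK hcop]
  exact iSup₂_le fun a ha x hx =>
    h a ha.1 ha.2 x hx.1 (Subgroup.mem_centralizer_singleton_iff.mp hx.2).symm

end CfsgLib.FittingHeight
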