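/-
Isometries of a nondegenerate alternating pairing commuting with a fixed-point-free isometry of large prime order.
-/
import Mathlib

set_option autoImplicit false

open Finset

namespace CfsgLib.FittingHeight

universe u

variable {U : Type u} [AddCommGroup U] [Finite U]

/-- A permutation of prime period with one fixed point moves at least that many points. -/
theorem card_gt_of_one_fixed {T : Type*} [Finite T] {q : ℕ} (hq : q.Prime) (f : T → T) (z : T)
    (hf : ∀ x, f^[q] x = x) (hfix : ∀ x, f x = x ↔ x = z) (hne : ∃ x, x ≠ z) : q + 1 ≤ Nat.card T := by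
  classical
  have := Fact.mk hq
  have := Fintype.ofFinite T
  let F : Function.End T := f
  have hp : ∀ n : ℕ, F ^ n = f^[n] := by
    intro n
    induction n with
    | zero => rfl
    | succ n ih => rw [pow_succ', ih, Function.iterate_succ']; rfl
  have h := Equiv.Perm.card_fixedPoints_modEq (f := F) (p := q) (n := 1) (by
    rw [pow_one, hp]; exact funext hf)
  rw [← Nat.card_eq_fintype_card, ← Nat.card_eq_fintype_card,
    (Nat.card_eq_one_iff_unique.mpr
      ⟨⟨fun x y => Subtype.ext (((hfix x).mp x.2).trans ((hfix y).mp y.2).symm)⟩, ⟨⟨z, (hfix z).mpr rfl⟩⟩⟩ :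
      Nat.card (Function.fixedPoints f) = 1)] at h
  obtain ⟨x, hx⟩ := hne
  have h1 : 1 < Nat.card T := Finite.one_lt_card_iff_nontrivial.mpr ⟨x, z, hx⟩
  have h3 := Nat.le_of_dvd (by omega) ((Nat.modEq_iff_dvd' h1.le).mp h.symm)
  omega

/-- An invariant subgroup for a fixed-point-free operator of prime order on a small group is trivial or everything. -/
theorem invariant_trivial {q : ℕ} (hq : q.Prime) (σ : AddMonoid.End U) (hσq : σ ^ q = 1) (hσ0 : ∀ u, σ u = u → u = 0)
    (hcard : Nat.card U ≤ (q - 1) ^ 2) (Y : AddSubgroup U) (hY : ∀ y ∈ Y, σ y ∈ Y) : Y = ⊥ ∨ Y = ⊤ := by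
  classical
  have hpow : ∀ (n : ℕ), ∀ y ∈ Y, (σ ^ n) y ∈ Y := by
    intro n
    induction n with
    | zero => exact fun y hy => hy
    | succ n ih => intro y hy; rw [pow_succ']; exact hY _ (ih y hy)
  by_contra hno
  push Not at hno
  obtain ⟨h0, h1⟩ := hno
  have hsurj : Function.Surjective (fun y : Y => (⟨σ y - y, Y.sub_mem (hY y y.2) y.2⟩ : Y)) :=
    Finite.injective_iff_surjective.mp fun y y' h => by
      have h' : σ (y : U) - y = σ y' - y' := congrArg Subtype.val h
      have h2 : σ ((y : U) - y') = y - y' := by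
        rw [map_sub, sub_eq_sub_iff_sub_eq_sub]; exact h'
      exact Subtype.ext (sub_eq_zero.mp (hσ0 _ h2))
  have hYc : q + 1 ≤ Nat.card Y := by
    refine card_gt_of_one_fixed hq (fun y : Y => (⟨σ y, hY y y.2⟩ : Y)) 0 ?_ ?_ ?_
    · have key : ∀ (n : ℕ) (y : Y), (((fun y : Y => (⟨σ y, hY y y.2⟩ : Y))^[n] y : Y) : U) = (σ ^ n) y := by
        intro n
        induction n with
        | zero => exact fun y => rfl
        | succ n ih =>
          intro y
          rw [Function.iterate_succ_apply', pow_succ']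
          show σ _ = σ _
          rw [ih]
          rfl
      intro y
      exact Subtype.ext (by rw [key, hσq]; rfl)
    · exact fun y => ⟨fun h => Subtype.ext (hσ0 _ (congrArg Subtype.val h)), fun h => h ▸ Subtype.ext (map_zero σ)⟩
    · by_contra h
      push Not at h
      exact h0 ((AddSubgroup.eq_bot_iff_forall Y).mpr fun y hy => congrArg Subtype.val (h ⟨y, hy⟩))
  have hQc : q + 1 ≤ Nat.card (U ⧸ Y) := by
    refine card_gt_of_one_fixed hq (fun x => QuotientAddGroup.map Y Y σ (fun y hy => hY y hy) x) 0 ?_ ?_ ?_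
    · have key : ∀ (n : ℕ) (u : U), (fun x => QuotientAddGroup.map Y Y σ (fun y hy => hY y hy) x)^[n]
          (u : U ⧸ Y) = ((σ ^ n) u : U) := by
        intro n
        induction n with
        | zero => exact fun u => rfl
        | succ n ih =>
          intro u
          rw [Function.iterate_succ_apply', pow_succ', ih]
          rfl
      intro x
      obtain ⟨u, rfl⟩ := QuotientAddGroup.mk_surjective x
      rw [key, hσq]; rfl
    · intro x
      refine ⟨fun h => ?_, fun h => by rw [h, map_zero]⟩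
      obtain ⟨u, rfl⟩ := QuotientAddGroup.mk_surjective x
      have h2 : -u + σ u ∈ Y := QuotientAddGroup.eq.mp h.symm
      obtain ⟨y, hy⟩ := hsurj ⟨_, h2⟩
      have hy' : σ (y : U) - y = -u + σ u := congrArg Subtype.val hy
      have h3 : u = y := sub_eq_zero.mp (hσ0 _ (by
        rw [map_sub, sub_eq_sub_iff_sub_eq_sub, hy']; abel))
      rw [h3]
      exact (QuotientAddGroup.eq_zero_iff _).mpr y.2
    · by_contra h
      push Not at h
      exact h1 (eq_top_iff.mpr fun u _ => (QuotientAddGroup.eq_zero_iff u).mp (h _))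
  have h2 : Nat.card U = Nat.card (U ⧸ Y) * Nat.card Y := AddSubgroup.card_eq_card_quotient_mul_card_addSubgroup Y
  have h3 := Nat.mul_le_mul hQc hYc
  have h4 : (q - 1) * (q - 1) ≤ q * q := Nat.mul_le_mul (Nat.sub_le _ _) (Nat.sub_le _ _)
  rw [← h2] at h3
  rw [pow_two] at hcard
  have := hq.pos
  nlinarith

set_option maxHeartbeats 1000000 in
/-- Such an isometry of order prime to `q` is the identity. -/
theorem no_isometry {L : Type*} [Field L] [IsAlgClosed L] {r q : ℕ} (hq : q.Prime) (hrL : (r : L) ≠ 0)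
    (hr : ∀ u : U, r • u = 0) (B : U → U → Lˣ) (hB : ∀ x x' y, B (x + x') y = B x y * B x' y)
    (hskew : ∀ x y, B y x = (B x y)⁻¹) (hnd : ∀ x, (∀ y, B x y = 1) → x = 0)
    (σ s : AddMonoid.End U) (hσq : σ ^ q = 1) (hσ0 : ∀ u, σ u = u → u = 0)
    (hσB : ∀ x y, B (σ x) (σ y) = B x y) (hsB : ∀ x y, B (s x) (s y) = B x y) (hcomm : s * σ = σ * s)
    {n : ℕ} (hsn : s ^ n = 1) (hcop : n.Coprime q) (hcard : Nat.card U ≤ (q - 1) ^ 2) : s = 1 := by
  classical
  rcases subsingleton_or_nontrivial U with hU | hU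
  · exact AddMonoidHom.ext fun u => Subsingleton.elim _ _
  have hB' : ∀ x y y', B x (y + y') = B x y * B x y' := fun x y y' => by
    rw [hskew (y + y') x, hB, mul_inv, ← hskew, ← hskew]
  have hB0 : ∀ y, B 0 y = 1 := fun y => by
    have := hB 0 0 y
    rw [add_zero] at this
    exact left_eq_mul.mp this
  -- representing functionals
  let X := Multiplicative U
  have := Fintype.ofFinite X
  have hexp : Monoid.exponent X ∣ r := Monoid.exponent_dvd_of_forall_pow_eq_one fun g => hr g.toAdd
  have : NeZero ((Monoid.exponent X : ℕ) : L) := ⟨fun h => hrL (by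
    obtain ⟨k, hk⟩ := hexp; rw [hk, Nat.cast_mul, h, zero_mul])⟩
  have : Finite (X →* Lˣ) := inferInstance
  let D : U → (X →* Lˣ) := fun y =>
    { toFun := fun x => B x.toAdd y
      map_one' := hB0 y
      map_mul' := fun x x' => hB _ _ y }
  have hDinj : Function.Injective D := fun z z' h => sub_eq_zero.mp (hnd _ fun x => by
    have h1 : B z x * (B z' x)⁻¹ = 1 := by
      rw [hskew x z, hskew x z', show B x z = B x z' from DFunLike.congr_fun h (Multiplicative.ofAdd x), inv_inv,
        inv_mul_cancel]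
    have h2 : B (z - z') x * B z' x = B z x := by rw [← hB, sub_add_cancel]
    rwa [← h2, mul_inv_cancel_right] at h1)
  have hDsurj : Function.Surjective D :=
    ((Nat.bijective_iff_injective_and_card D).mpr ⟨hDinj, by
      rw [CommGroup.card_monoidHom_of_hasEnoughRootsOfUnity X L]; rfl⟩).2
  have hex : ∀ (c : AddMonoid.End U) (y : U), ∃ z, ∀ x, B (c x) y = B x z := by
    intro c y
    obtain ⟨z, hz⟩ := hDsurj
      { toFun := fun x : X => B (c x.toAdd) y
        map_one' := by rw [toAdd_one, map_zero, hB0]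
        map_mul' := fun x x' => by rw [toAdd_mul, map_add, hB] }
    exact ⟨z, fun x => (DFunLike.congr_fun hz (Multiplicative.ofAdd x)).symm⟩
  choose st hst using hex
  have huniq : ∀ {z z' : U}, (∀ x, B x z = B x z') → z = z' := fun h => hDinj (MonoidHom.ext fun x => h x.toAdd)
  have hpapp : ∀ (c : AddMonoid.End U) (m : ℕ) (y : U), c ((c ^ m) y) = (c ^ (m + 1)) y := fun c m y => by
    rw [pow_succ']; rfl
  let adj : AddMonoid.End U → AddMonoid.End U := fun c =>
    { toFun := st c
      map_zero' := huniq fun x => by rw [← hst, hskew 0, hskew 0 x, hB0, hB0]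
      map_add' := fun y y' => huniq fun x => by rw [← hst, hB', hB', hst, hst] }
  have hadj : ∀ c x y, B (c x) y = B x (adj c y) := fun c x y => hst c y x
  have adj_eq : ∀ c d : AddMonoid.End U, (∀ x y, B (c x) y = B x (d y)) → adj c = d := fun c d h =>
    AddMonoidHom.ext fun y => huniq fun x => (hadj c x y).symm.trans (h x y)
  have hadd : ∀ c d, adj (c + d) = adj c + adj d := fun c d => adj_eq _ _ fun x y => by
    show B (c x + d x) y = B x (adj c y + adj d y)
    rw [hB, hB', hadj, hadj]
  have hneg : ∀ c, adj (-c) = -adj c := fun c => by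
    have h0 : adj 0 = 0 := adj_eq _ _ fun x y => by
      show B 0 y = B x 0
      rw [hB0, hskew 0 x, hB0, inv_one]
    exact eq_neg_of_add_eq_zero_left (by rw [← hadd, neg_add_cancel, h0])
  have hmul : ∀ c d, adj (c * d) = adj d * adj c := fun c d => adj_eq _ _ fun x y => by
    show B (c (d x)) y = B x (adj d (adj c y))
    rw [hadj, hadj]
  have hone : adj 1 = 1 := adj_eq _ _ fun x y => rfl
  have hinv : ∀ c, adj (adj c) = c := fun c => adj_eq _ _ fun x y => by
    rw [hskew y, ← hadj c y x, ← hskew]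
  have hσadj : σ * adj σ = 1 ∧ adj σ * σ = 1 := by
    have h1 : adj σ = σ ^ (q - 1) := adj_eq _ _ fun x y => by
      conv_lhs => rw [show y = σ ((σ ^ (q - 1)) y) by
        rw [hpapp, Nat.sub_add_cancel hq.one_le, hσq]; rfl]
      exact hσB _ _
    rw [h1, ← pow_succ, ← pow_succ', Nat.sub_add_cancel hq.one_le, hσq]
    exact ⟨rfl, rfl⟩
  -- the centraliser field
  set C := Subring.centralizer ({σ} : Set (AddMonoid.End U)) with hC
  have hmemC : ∀ c, c ∈ C ↔ σ * c = c * σ := fun c => by
    rw [hC, Subring.mem_centralizer_iff]; exact ⟨fun h => h σ rfl, fun h g hg => by rw [Set.mem_singleton_iff.mp hg]; exact h⟩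
  have hinjC : ∀ c ∈ C, c ≠ 0 → ∀ u, c u = 0 → u = 0 := by
    intro c hc hc0 u hu
    have hinvk : ∀ y ∈ AddMonoidHom.ker (c : U →+ U), σ y ∈ AddMonoidHom.ker (c : U →+ U) := fun y hy => by
      show c (σ y) = 0
      have := DFunLike.congr_fun ((hmemC c).mp hc) y
      simp only [AddMonoid.End.coe_mul, Function.comp_apply] at this
      rw [← this, show c y = 0 from hy, map_zero]
    rcases invariant_trivial hq σ hσq hσ0 hcard _ hinvk with h | h
    · exact AddSubgroup.mem_bot.mp (h ▸ (hu : u ∈ AddMonoidHom.ker (c : U →+ U)))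
    · exact absurd (AddMonoidHom.ext fun v => AddMonoidHom.mem_ker.mp (h.ge (AddSubgroup.mem_top v))) hc0
  have : Finite (AddMonoid.End U) := Finite.of_injective (fun f => (f : U → U)) DFunLike.coe_injective
  have : Finite C := Subtype.finite
  have : Nontrivial C := ⟨0, 1, fun h => by
    obtain ⟨u, hu⟩ := exists_ne (0 : U)
    exact hu (DFunLike.congr_fun (congrArg Subtype.val h) u).symm⟩
  have : NoZeroDivisors C := ⟨fun {a b} h => or_iff_not_imp_left.mpr fun ha => Subtype.ext (AddMonoidHom.ext fun u =>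
    hinjC a a.2 (fun h0 => ha (Subtype.ext h0)) _ (DFunLike.congr_fun (congrArg Subtype.val h) u))⟩
  have : IsDomain C := NoZeroDivisors.to_isDomain C
  let : Field C := (Finite.isDomain_to_isField C).toField
  have hadjC : ∀ c ∈ C, adj c ∈ C := fun c hc => by
    rw [hmemC]
    have h1 : adj σ * adj c = adj c * adj σ := by rw [← hmul, ← hmul, (hmemC c).mp hc]
    calc σ * adj c = σ * (adj c * adj σ) * σ := by rw [mul_assoc, mul_assoc, hσadj.2, mul_one]
      _ = σ * (adj σ * adj c) * σ := by rw [h1]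
      _ = adj c * σ := by rw [← mul_assoc σ, hσadj.1, one_mul]
  let S : C → C := fun c => ⟨adj c, hadjC c c.2⟩
  have hS2 : ∀ c, S (S c) = c := fun c => Subtype.ext (hinv c)
  have hSadd : ∀ c d, S (c + d) = S c + S d := fun c d => Subtype.ext (hadd c d)
  have hSmul : ∀ c d, S (c * d) = S c * S d := fun c d => by
    rw [mul_comm c d]; exact Subtype.ext (hmul d c)
  have hSneg : ∀ c, S (-c) = -S c := fun c => Subtype.ext (hneg c)
  have hSsub : ∀ c d, S (c - d) = S c - S d := fun c d => by rw [sub_eq_add_neg, hSadd, hSneg, ← sub_eq_add_neg]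
  have hS0 : ∀ c, S c = 0 → c = 0 := fun c h => by
    rw [← hS2 c, h, ← sub_self (1 : C), hSsub]
    simp
  have hS1 : S 1 = 1 := Subtype.ext hone
  have hσC : σ ∈ C := (hmemC σ).mpr rfl
  have hsC : s ∈ C := (hmemC s).mpr hcomm.symm
  set θ : C := ⟨σ, hσC⟩ with hθ
  have hθ1 : θ * S θ = 1 := Subtype.ext hσadj.1
  have hθq : θ ^ q = 1 := Subtype.ext hσq
  have hθne : θ ≠ 1 := fun h => by
    obtain ⟨u, hu⟩ := exists_ne (0 : U)
    exact hu (hσ0 u (by rw [show σ = 1 from congrArg Subtype.val h]; rfl))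
  have hθord : orderOf θ = q := by
    have := Fact.mk hq
    exact orderOf_eq_prime hθq hθne
  have hUc : q + 1 ≤ Nat.card U := by
    refine card_gt_of_one_fixed hq (fun u => σ u) 0 (fun u => ?_)
      (fun u => ⟨hσ0 u, fun h => h ▸ map_zero σ⟩) (exists_ne 0)
    have key : ∀ m : ℕ, (fun u => σ u)^[m] u = (σ ^ m) u := by
      intro m
      induction m with
      | zero => rfl
      | succ m ih => rw [Function.iterate_succ_apply', ih, hpapp]
    rw [key, hσq]; rfl
  have hθS : θ ≠ S θ := fun h => by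
    rw [← h, ← pow_two] at hθ1
    have h2 : orderOf θ ∣ 2 := orderOf_dvd_of_pow_eq_one hθ1
    rw [hθord] at h2
    obtain rfl : q = 2 := (Nat.prime_dvd_prime_iff_eq hq Nat.prime_two).mp h2
    omega
  -- the fixed field
  let F₀ := {c : C // S c = c}
  have hsplit : ∀ x : C, ∃ a b : F₀, x = a + b * θ := by
    intro x
    have hd : θ - S θ ≠ 0 := sub_ne_zero.mpr hθS
    obtain ⟨b, hb⟩ : ∃ b, x - S x = b * (θ - S θ) := ⟨(x - S x) / (θ - S θ), (div_mul_cancel₀ _ hd).symm⟩
    have hbf : S b = b := by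
      have := congrArg S hb
      rw [hSsub, hS2, hSmul, hSsub, hS2] at this
      refine mul_right_cancel₀ hd ?_
      rw [← hb]
      linear_combination this
    refine ⟨⟨x - b * θ, ?_⟩, ⟨b, hbf⟩, (sub_add_cancel _ _).symm⟩
    rw [hSsub, hSmul, hbf]
    linear_combination -hb
  have hind : ∀ a b a' b' : F₀, (a : C) + b * θ = a' + b' * θ → a = a' ∧ b = b' := by
    intro a b a' b' h
    have h' := congrArg S h
    rw [hSadd, hSadd, hSmul, hSmul, a.2, b.2, a'.2, b'.2] at h'
    have h3 : ((b : C) - b') * (θ - S θ) = 0 := by linear_combination h - h'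
    have hbb : (b : C) = b' := sub_eq_zero.mp ((mul_eq_zero.mp h3).resolve_right (sub_ne_zero.mpr hθS))
    rw [hbb] at h
    exact ⟨Subtype.ext (add_right_cancel h), Subtype.ext hbb⟩
  have hcC : Nat.card F₀ * Nat.card F₀ = Nat.card C := by
    rw [← Nat.card_prod]
    refine Nat.card_eq_of_bijective (fun p : F₀ × F₀ => (p.1 : C) + p.2 * θ) ⟨fun p p' h => ?_, fun x => ?_⟩
    · obtain ⟨h1, h2⟩ := hind _ _ _ _ h
      exact Prod.ext h1 h2
    · obtain ⟨a, b, h⟩ := hsplit x
      exact ⟨(a, b), h.symm⟩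
  have hF₀ : Nat.card F₀ + 1 ≤ q := by
    obtain ⟨u₀, hu₀⟩ := exists_ne (0 : U)
    have h1 : Nat.card C ≤ Nat.card U := Nat.card_le_card_of_injective (fun c : C => (c : AddMonoid.End U) u₀)
      fun c d h => sub_eq_zero.mp (by
        by_contra hne
        refine hu₀ (hinjC _ (c - d).2 (fun h0 => hne (Subtype.ext h0)) u₀ ?_)
        show (c : AddMonoid.End U) u₀ - (d : AddMonoid.End U) u₀ = 0
        exact sub_eq_zero.mpr h)
    have h2 := (hcC ▸ h1).trans hcard
    rw [pow_two] at h2
    have := Nat.mul_self_le_mul_self_iff.mp h2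
    have := hq.two_le
    omega
  -- the norm one group
  set N : Finset C := (Set.toFinite {x : C | x * S x = 1}).toFinset with hN
  have hmemN : ∀ x, x ∈ N ↔ x * S x = 1 := fun x => Set.Finite.mem_toFinset _
  have hN' : N.card ≤ q := by
    have := Fintype.ofFinite F₀
    let g : Option F₀ → C := fun o => o.elim 1 fun a => ((a : C) + θ) / ((a : C) + S θ)
    refine le_trans (le_trans (Finset.card_le_card (t := (Finset.univ : Finset (Option F₀)).image g)
      (fun x hx => ?_)) Finset.card_image_le)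
      ((show (Finset.univ : Finset (Option F₀)).card ≤ q by
        rw [Finset.card_univ, Fintype.card_option, ← Nat.card_eq_fintype_card]; exact hF₀))
    rw [hmemN] at hx
    rw [Finset.mem_image]
    obtain ⟨u, hu0, hu⟩ : ∃ u, u ≠ 0 ∧ x * S u = u := by
      by_cases h : 1 + x = 0
      · refine ⟨θ - S θ, sub_ne_zero.mpr hθS, ?_⟩
        rw [hSsub, hS2, eq_neg_of_add_eq_zero_right h]
        ring
      · exact ⟨1 + x, h, by rw [hSadd, hS1, mul_add, mul_one, hx, add_comm]⟩
    obtain ⟨a, b, hab⟩ := hsplit u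
    by_cases hb0 : (b : C) = 0
    · refine ⟨none, Finset.mem_univ _, ?_⟩
      rw [hab, hb0, zero_mul, add_zero] at hu hu0
      rw [a.2] at hu
      exact (mul_right_cancel₀ hu0 (hu.trans (one_mul _).symm)).symm
    · have hba : S ((a : C) / b) = a / b := by
        have h1 : S ((a : C) / b) * S b = S a := by rw [← hSmul, div_mul_cancel₀ _ hb0]
        rw [b.2, a.2] at h1
        exact eq_div_of_mul_eq hb0 h1
      refine ⟨some ⟨a / b, hba⟩, Finset.mem_univ _, ?_⟩
      have hne : (a : C) / b + S θ ≠ 0 := fun h => by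
        have h1 : S ((a : C) / b + S θ) = 0 := by rw [h, ← sub_self (1 : C), hSsub, hS1]
        rw [hSadd, hba, hS2, ← h, add_right_inj] at h1
        exact hθS h1
      show ((a : C) / b + θ) / ((a : C) / b + S θ) = x
      rw [div_eq_iff hne]
      rw [hab, hSadd, hSmul, a.2, b.2] at hu
      field_simp
      linear_combination -hu
  have hsS : s ∈ C := hsC
  set sC : C := ⟨s, hsS⟩
  have hpowN : (Finset.range q).image (fun i => θ ^ i) ⊆ N := by
    intro x hx
    obtain ⟨i, -, rfl⟩ := Finset.mem_image.mp hx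
    rw [hmemN]
    clear hx
    induction i with
    | zero => rw [pow_zero, hS1, one_mul]
    | succ i ih => rw [pow_succ, hSmul, mul_mul_mul_comm, ih, hθ1, one_mul]
  have heq : (Finset.range q).image (fun i => θ ^ i) = N := by
    refine Finset.eq_of_subset_of_card_le hpowN ?_
    rw [Finset.card_image_of_injOn, Finset.card_range]
    · exact hN'
    · intro i hi j hj h
      exact pow_injOn_Iio_orderOf (by rw [hθord]; exact Finset.mem_range.mp hi) (by rw [hθord]; exact Finset.mem_range.mp hj) h
  have hsN : sC ∈ N := by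
    rw [hmemN]
    refine Subtype.ext ?_
    show s * adj s = 1
    obtain ⟨m, rfl⟩ : ∃ m, n = m + 1 := ⟨n - 1, by
      rcases Nat.eq_zero_or_pos n with rfl | h
      · rw [Nat.coprime_zero_left] at hcop; exact absurd hcop hq.one_lt.ne'
      · omega⟩
    have : adj s = s ^ m := adj_eq _ _ fun x y => by
      conv_lhs => rw [show y = s ((s ^ m) y) by rw [hpapp, hsn]; rfl]
      exact hsB _ _
    rw [this, ← pow_succ', hsn]
  rw [← heq, Finset.mem_image] at hsN
  obtain ⟨i, -, hi⟩ := hsN
  have h1 : sC ^ q = 1 := by rw [← hi, ← pow_mul, mul_comm, pow_mul, hθq, one_pow]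
  have h2 : sC ^ n = 1 := Subtype.ext hsn
  have h3 := pow_gcd_eq_one.mpr ⟨h2, h1⟩
  rw [hcop, pow_one] at h3
  exact congrArg Subtype.val h3

end CfsgLib.FittingHeight
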