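/-
Weight spaces of a finite abelian group acting on a vector space, permuted by an operator of prime order.
-/
import Mathlib

set_option autoImplicit false

open Finset

namespace CfsgLib.FittingHeight.Grading

variable {K : Type*} [Field K] {W : Type*} [AddCommGroup W] [Module K W]
variable {X : Type*} [CommGroup X]

/-- The weight space of a character. -/
def weight (φ : X →* Module.End K W) (χ : X →* Kˣ) : Submodule K W where
  carrier := {w | ∀ x, φ x w = (χ x : K) • w}
  zero_mem' := fun x => by simp
  add_mem' := fun {u v} hu hv x => by rw [map_add, hu x, hv x, smul_add]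
  smul_mem' := fun c w hw x => by rw [map_smul, hw x, smul_comm]

theorem mem_weight {φ : X →* Module.End K W} {χ : X →* Kˣ} {w : W} :
    w ∈ weight φ χ ↔ ∀ x, φ x w = (χ x : K) • w := Iff.rfl

variable [Fintype X]

/-- The projection to a weight space. -/
noncomputable def proj (φ : X →* Module.End K W) (χ : X →* Kˣ) : Module.End K W :=
  ((Fintype.card X : K))⁻¹ • ∑ x : X, ((χ x⁻¹ : Kˣ) : K) • φ x

theorem proj_apply (φ : X →* Module.End K W) (χ : X →* Kˣ) (w : W) :
    proj φ χ w = ((Fintype.card X : K))⁻¹ • ∑ x : X, ((χ x⁻¹ : Kˣ) : K) • φ x w := by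
  simp [proj, LinearMap.smul_apply]

theorem proj_mem (φ : X →* Module.End K W) (χ : X →* Kˣ) (w : W) : proj φ χ w ∈ weight φ χ := by
  intro y
  rw [proj_apply, map_smul, map_sum, smul_comm ((χ y : K))]
  congr 1
  rw [Finset.smul_sum]
  refine Fintype.sum_equiv (Equiv.mulLeft y) _ _ fun x => ?_
  simp only [Equiv.coe_mulLeft, map_smul, map_mul, Module.End.mul_apply, smul_smul, mul_inv_rev, ← Units.val_mul]
  congr 1
  rw [← map_mul χ, ← map_mul χ, show y * (x⁻¹ * y⁻¹) = x⁻¹ by rw [mul_left_comm, mul_inv_cancel, mul_one]]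

variable (hX : ((Fintype.card X : ℕ) : K) ≠ 0)
include hX

theorem proj_eq (φ : X →* Module.End K W) {χ : X →* Kˣ} {w : W} (hw : w ∈ weight φ χ) : proj φ χ w = w := by
  rw [proj_apply, Finset.sum_congr rfl (fun x _ => show ((χ x⁻¹ : Kˣ) : K) • φ x w = w by
    rw [hw x, smul_smul, ← Units.val_mul, ← map_mul, inv_mul_cancel, map_one, Units.val_one, one_smul]),
    Finset.sum_const, Finset.card_univ, ← Nat.cast_smul_eq_nsmul K, smul_smul, inv_mul_cancel₀ hX, one_smul]

theorem proj_eq_zero (φ : X →* Module.End K W) {χ ψ : X →* Kˣ} (hne : χ ≠ ψ) {w : W} (hw : w ∈ weight φ ψ) :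
    proj φ χ w = 0 := by
  rw [proj_apply, Finset.sum_congr rfl (fun x _ => show ((χ x⁻¹ : Kˣ) : K) • φ x w =
      (((χ⁻¹ * ψ) x : Kˣ) : K) • w by rw [hw x, smul_smul, ← Units.val_mul]; simp [MonoidHom.inv_apply]),
    ← Finset.sum_smul]
  have h := sum_hom_units_eq_zero ((Units.coeHom K).comp (χ⁻¹ * ψ)) (fun h => hne (by
    rw [← inv_mul_eq_one]
    exact MonoidHom.ext fun x => Units.ext (DFunLike.congr_fun h x)))
  rw [show ∑ x : X, (((χ⁻¹ * ψ) x : Kˣ) : K) = 0 from h, zero_smul, smul_zero]

variable [HasEnoughRootsOfUnity K (Monoid.exponent X)] [Fintype (X →* Kˣ)]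

theorem sum_proj (φ : X →* Module.End K W) (w : W) : ∑ χ : X →* Kˣ, proj φ χ w = w := by
  classical
  have horth : ∀ x : X, ∑ χ : X →* Kˣ, ((χ x⁻¹ : Kˣ) : K) = if x = 1 then (Fintype.card X : K) else 0 := by
    intro x
    split_ifs with h
    · subst h
      rw [Finset.sum_congr rfl (fun (χ : X →* Kˣ) _ => show ((χ (1 : X)⁻¹ : Kˣ) : K) = 1 by rw [inv_one, map_one, Units.val_one]),
        Finset.sum_const, Finset.card_univ, nsmul_one]
      congr 1
      rw [← Nat.card_eq_fintype_card, ← Nat.card_eq_fintype_card]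
      exact CommGroup.card_monoidHom_of_hasEnoughRootsOfUnity X K
    · obtain ⟨ψ, hψ⟩ := CommGroup.exists_apply_ne_one_of_hasEnoughRootsOfUnity X K (inv_ne_one.mpr h)
      let f : (X →* Kˣ) →* K := (Units.coeHom K).comp (MonoidHom.eval (x⁻¹))
      exact sum_hom_units_eq_zero f (fun hf => hψ (Units.ext (DFunLike.congr_fun hf ψ)))
  simp only [proj_apply]
  rw [← Finset.smul_sum, Finset.sum_comm,
    Finset.sum_congr rfl (fun (x : X) _ => show ∑ χ : X →* Kˣ, ((χ x⁻¹ : Kˣ) : K) • φ x w =
      (if x = 1 then (Fintype.card X : K) else 0) • φ x w by rw [← Finset.sum_smul, horth])]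
  simp only [ite_smul, zero_smul, Finset.sum_ite_eq', Finset.mem_univ, if_true, map_one, Module.End.one_apply]
  rw [smul_smul, inv_mul_cancel₀ hX, one_smul]

variable [FiniteDimensional K W]

/-- The decomposition into weight spaces, on dimensions. -/
theorem finrank_eq (φ : X →* Module.End K W) :
    Module.finrank K W = ∑ χ : X →* Kˣ, Module.finrank K (weight φ χ) := by
  classical
  rw [← Module.finrank_pi_fintype]
  refine LinearEquiv.finrank_eq
    { toFun := fun w χ => ⟨proj φ χ w, proj_mem φ χ w⟩
      map_add' := fun u v => funext fun χ => Subtype.ext (map_add _ u v)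
      map_smul' := fun c v => funext fun χ => Subtype.ext (map_smul _ c v)
      invFun := fun f => ∑ χ, (f χ : W)
      left_inv := fun w => sum_proj hX φ w
      right_inv := fun f => funext fun χ => Subtype.ext (by
        show proj φ χ (∑ ψ, (f ψ : W)) = f χ
        rw [map_sum, Finset.sum_eq_single χ (fun ψ _ hne => proj_eq_zero hX φ (Ne.symm hne) (f ψ).2) (by simp),
          proj_eq hX φ (f χ).2]) }

/-- The fixed space of an operator of prime order permuting the weight spaces. -/
theorem fixed_finrank_le (φ : X →* Module.End K W) (β : W ≃ₗ[K] W) (γ : MulAut X) {p : ℕ} (hp : p.Prime)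
    (hγ : γ ^ p = 1) (hcompat : ∀ x w, β (φ x w) = φ (γ x) (β w)) :
    p * Module.finrank K (LinearMap.eqLocus β.toLinearMap LinearMap.id) ≤
      Module.finrank K W + (p - 1) * ∑ χ : X →* Kˣ,
        (open Classical in if ∀ x, χ (γ x) = χ x then Module.finrank K (weight φ χ) else 0) := by
  classical
  let s : (X →* Kˣ) → (X →* Kˣ) := fun χ => χ.comp γ.symm.toMonoidHom
  have hs : ∀ χ x, s χ (γ x) = χ x := fun χ x => by simp [s]
  have hsit : ∀ n χ x, (s^[n] χ) ((γ ^ n) x) = χ x := by
    intro n
    induction n with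
    | zero => intro χ x; rfl
    | succ n ih =>
      intro χ x
      rw [Function.iterate_succ_apply', pow_succ', MulAut.mul_apply, hs]
      exact ih χ x
  have hp1 : ∀ χ, s^[p] χ = χ := fun χ => MonoidHom.ext fun x => by
    have := hsit p χ x
    rwa [hγ, MulAut.one_apply] at this
  have hsinj : Function.Injective s := fun χ ψ h => MonoidHom.ext fun x => by rw [← hs χ x, ← hs ψ x, h]
  let Fixed : (X →* Kˣ) → Prop := fun χ => ∀ x, χ (γ x) = χ x
  have hfix : ∀ χ, Fixed χ ↔ s χ = χ := fun χ => by
    constructor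
    · intro h
      refine MonoidHom.ext fun x => ?_
      rw [show s χ x = χ (γ.symm x) from rfl, ← h (γ.symm x), MulEquiv.apply_symm_apply]
    · intro h x
      conv_lhs => rw [← h]
      exact hs χ x
  -- the periods
  have hper : ∀ χ, ¬ Fixed χ → ∀ i j, i < p → j < p → s^[i] χ = s^[j] χ → i = j := by
    intro χ hχ i j hi hj h
    suffices key : ∀ a b, a < b → b < p → s^[a] χ ≠ s^[b] χ by
      rcases lt_trichotomy i j with h' | h' | h'
      · exact absurd h (key i j h' hj)
      · exact h'
      · exact absurd h.symm (key j i h' hi)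
    intro a b hab hb heq
    obtain ⟨k, rfl⟩ := Nat.exists_eq_add_of_le hab.le
    rw [Function.iterate_add_apply] at heq
    have hk : Function.IsPeriodicPt s k χ := ((hsinj.iterate a) heq).symm
    have h1 := (hk.gcd (show Function.IsPeriodicPt s p χ from hp1 χ))
    have : Nat.gcd k p = 1 := ((hp.coprime_iff_not_dvd).mpr fun hd => by
      have := Nat.le_of_dvd (by omega) hd; omega).symm
    rw [this] at h1
    exact hχ ((hfix χ).mpr h1)
  -- weight spaces correspond
  have hmove : ∀ χ w, w ∈ weight φ χ → β w ∈ weight φ (s χ) := by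
    intro χ w hw x
    obtain ⟨y, rfl⟩ := γ.surjective x
    rw [← hcompat, hw y, map_smul, hs]
  have hproj : ∀ χ w, β (proj φ χ w) = proj φ (s χ) (β w) := by
    intro χ w
    rw [proj_apply, proj_apply, map_smul, map_sum]
    congr 1
    refine Fintype.sum_equiv γ.toEquiv _ _ fun x => ?_
    show β (((χ x⁻¹ : Kˣ) : K) • φ x w) = ((s χ (γ x)⁻¹ : Kˣ) : K) • φ (γ x) (β w)
    rw [map_smul, hcompat, ← map_inv γ, hs]
  have hdim : ∀ χ, Module.finrank K (weight φ χ) ≤ Module.finrank K (weight φ (s χ)) := fun χ =>
    LinearMap.finrank_le_finrank_of_injective (f :=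
      ({ toFun := fun w => ⟨β w, hmove χ w w.2⟩
         map_add' := fun u v => Subtype.ext (map_add β (u : W) v)
         map_smul' := fun c v => Subtype.ext (map_smul β c (v : W)) } : weight φ χ →ₗ[K] weight φ (s χ)))
      (fun u v h => Subtype.ext (β.injective (congrArg Subtype.val h)))
  have hdim' : ∀ i χ, Module.finrank K (weight φ χ) ≤ Module.finrank K (weight φ (s^[i] χ)) := by
    intro i
    induction i with
    | zero => intro χ; rfl
    | succ i ih =>
      intro χ
      rw [Function.iterate_succ_apply']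
      exact (ih χ).trans (hdim _)
  -- representatives
  let e := Fintype.equivFin (X →* Kˣ)
  set T := (Finset.univ : Finset (X →* Kˣ)).filter fun χ => ¬ Fixed χ ∧ ∀ i < p, e χ ≤ e (s^[i] χ) with hT
  set F := (Finset.univ : Finset (X →* Kˣ)).filter fun χ => Fixed χ with hF
  have hrep : ∀ χ, ∃ i < p, s^[i] χ ∈ T ∪ F := by
    intro χ
    by_cases hχ : Fixed χ
    · exact ⟨0, hp.pos, Finset.mem_union_right _ (by simpa [hF] using hχ)⟩
    · obtain ⟨i, hi, hmin⟩ := Finset.exists_min_image (Finset.range p) (fun i => e (s^[i] χ))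
        ⟨0, Finset.mem_range.mpr hp.pos⟩
      rw [Finset.mem_range] at hi
      refine ⟨i, hi, Finset.mem_union_left _ ?_⟩
      simp only [hT, Finset.mem_filter, Finset.mem_univ, true_and]
      refine ⟨fun h => hχ ((hfix χ).mpr (hsinj.iterate i ?_)), fun j hj => ?_⟩
      · rw [← Function.iterate_succ_apply, Function.iterate_succ_apply']
        exact (hfix _).mp h
      · rw [← Function.iterate_add_apply]
        have hmod : s^[j + i] χ = s^[(j + i) % p] χ := by
          conv_lhs => rw [← Nat.mod_add_div (j + i) p]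
          rw [Function.iterate_add_apply, Function.iterate_mul]
          congr 1
          exact Function.iterate_fixed (hp1 χ) _
        rw [hmod]
        exact hmin _ (Finset.mem_range.mpr (Nat.mod_lt _ hp.pos))
  have hinjT : ∀ χ ∈ T, ∀ ψ ∈ T, ∀ i < p, ∀ j < p, s^[i] χ = s^[j] ψ → χ = ψ ∧ i = j := by
    intro χ hχ ψ hψ i hi j hj h
    simp only [hT, Finset.mem_filter, Finset.mem_univ, true_and] at hχ hψ
    have key : ∀ χ ψ i j, i ≤ j → s^[i] χ = s^[j] ψ → χ = s^[j - i] ψ := fun χ ψ i j hij h => by
      apply hsinj.iterate i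
      rw [h, ← Function.iterate_add_apply]
      congr 2
      omega
    have heq : χ = ψ := by
      rcases le_total i j with hij | hij
      · have h1 := key χ ψ i j hij h
        rcases Nat.eq_zero_or_pos (j - i) with h0 | h0
        · rw [h0] at h1; exact h1
        · have h2 : ψ = s^[p - (j - i)] χ := by
            rw [h1, ← Function.iterate_add_apply, show p - (j - i) + (j - i) = p by omega]
            exact (hp1 ψ).symm
          refine e.injective (le_antisymm ?_ ?_)
          · rw [h2]; exact hχ.2 _ (by omega)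
          · rw [h1]; exact hψ.2 _ (by omega)
      · have h1 := key ψ χ j i hij h.symm
        rcases Nat.eq_zero_or_pos (i - j) with h0 | h0
        · rw [h0] at h1; exact h1.symm
        · have h2 : χ = s^[p - (i - j)] ψ := by
            rw [h1, ← Function.iterate_add_apply, show p - (i - j) + (i - j) = p by omega]
            exact (hp1 χ).symm
          refine e.injective (le_antisymm ?_ ?_)
          · rw [h1]; exact hχ.2 _ (by omega)
          · rw [h2]; exact hψ.2 _ (by omega)
    exact ⟨heq, hper χ hχ.1 i j hi hj (by rw [h, heq])⟩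
  -- the fixed space embeds in the weight spaces at the representatives
  have h1 : Module.finrank K (LinearMap.eqLocus β.toLinearMap LinearMap.id) ≤
      ∑ χ ∈ T ∪ F, Module.finrank K (weight φ χ) := by
    rw [← Finset.sum_coe_sort (T ∪ F), ← Module.finrank_pi_fintype]
    refine LinearMap.finrank_le_finrank_of_injective (f :=
      LinearMap.pi fun χ : (T ∪ F : Finset (X →* Kˣ)) =>
        ((proj φ (χ : X →* Kˣ)).codRestrict (weight φ (χ : X →* Kˣ)) (proj_mem φ _)).comp
          (LinearMap.eqLocus β.toLinearMap LinearMap.id).subtype) ?_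
    rw [injective_iff_map_eq_zero]
    intro w hw
    have hwfix : β (w : W) = w := w.2
    apply Subtype.ext
    show (w : W) = 0
    rw [← sum_proj hX φ (w : W)]
    refine Finset.sum_eq_zero fun χ _ => ?_
    obtain ⟨i, -, hiT⟩ := hrep χ
    have h0 : proj φ (s^[i] χ) (w : W) = 0 := congrArg Subtype.val (congrFun hw ⟨_, hiT⟩)
    have key : ∀ i, proj φ (s^[i] χ) (w : W) = 0 → proj φ χ (w : W) = 0 := by
      intro i
      induction i with
      | zero => exact id
      | succ i ih =>
        intro h
        apply ih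
        apply β.injective
        rw [hproj, hwfix, map_zero, ← Function.iterate_succ_apply' s i χ]
        exact h
    exact key i h0
  have hsplit : Disjoint T F := by
    rw [Finset.disjoint_left]
    intro χ h1 h2
    simp only [hT, hF, Finset.mem_filter, Finset.mem_univ, true_and] at h1 h2
    exact h1.1 h2
  have h2 : p * ∑ χ ∈ T, Module.finrank K (weight φ χ) + ∑ χ ∈ F, Module.finrank K (weight φ χ) ≤
      Module.finrank K W := by
    rw [finrank_eq hX φ]
    calc p * ∑ χ ∈ T, Module.finrank K (weight φ χ) + ∑ χ ∈ F, Module.finrank K (weight φ χ)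
        ≤ ∑ χ ∈ ((T ×ˢ Finset.range p).image fun x => s^[x.2] x.1), Module.finrank K (weight φ χ) +
          ∑ χ ∈ F, Module.finrank K (weight φ χ) := by
          gcongr
          rw [Finset.sum_image, Finset.sum_product, Finset.mul_sum]
          · refine Finset.sum_le_sum fun χ _ => ?_
            refine le_trans ?_ (Finset.sum_le_sum fun i _ => hdim' i χ)
            simp
          · intro a ha b hb h
            simp only [Finset.coe_product, Set.mem_prod, Finset.mem_coe, Finset.mem_range] at ha hb
            obtain ⟨e1, e2⟩ := hinjT _ ha.1 _ hb.1 _ ha.2 _ hb.2 h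
            exact Prod.ext e1 e2
      _ ≤ ∑ χ, Module.finrank K (weight φ χ) := by
          rw [← Finset.sum_union]
          · exact Finset.sum_le_sum_of_subset (Finset.subset_univ _)
          · rw [Finset.disjoint_left]
            intro χ hχ hχF
            obtain ⟨⟨ψ, i⟩, hψ, rfl⟩ := Finset.mem_image.mp hχ
            simp only [Finset.mem_product, Finset.mem_range] at hψ
            simp only [hT, hF, Finset.mem_filter, Finset.mem_univ, true_and] at hψ hχF
            refine hψ.1.1 ((hfix ψ).mpr (hsinj.iterate i ?_))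
            rw [← Function.iterate_succ_apply, Function.iterate_succ_apply']
            exact (hfix _).mp hχF
  rw [Finset.sum_union hsplit] at h1
  have h3 : ∑ χ : X →* Kˣ, (if ∀ x, χ (γ x) = χ x then Module.finrank K (weight φ χ) else 0) =
      ∑ χ ∈ F, Module.finrank K (weight φ χ) := by
    rw [hF, Finset.sum_filter]
  rw [h3]
  obtain ⟨p, rfl⟩ := Nat.exists_eq_add_of_le' hp.one_le
  rw [Nat.add_sub_cancel]
  calc (p + 1) * Module.finrank K (LinearMap.eqLocus β.toLinearMap LinearMap.id)
      ≤ (p + 1) * (∑ χ ∈ T, Module.finrank K (weight φ χ) + ∑ χ ∈ F, Module.finrank K (weight φ χ)) :=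
        Nat.mul_le_mul_left _ h1
    _ = ((p + 1) * ∑ χ ∈ T, Module.finrank K (weight φ χ) + ∑ χ ∈ F, Module.finrank K (weight φ χ)) +
          p * ∑ χ ∈ F, Module.finrank K (weight φ χ) := by ring
    _ ≤ _ := by omega

end CfsgLib.FittingHeight.Grading
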