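/-
The Hall-Higman counting bound: an operator of prime order with no fixed vector, normalising two groups
whose commutators act as scalars.
-/
import Mathlib
import Cfsg.Agent.Lib.FittingHeight.Grading

set_option autoImplicit false

open scoped commutatorElement IsMulCommutative
open Finset

namespace CfsgLib.FittingHeight

universe u

variable {Γ : Type u} [Group Γ] [Finite Γ] {K : Type*} [Field K] [IsAlgClosed K]
variable {W : Type*} [AddCommGroup W] [Module K W] [FiniteDimensional K W]

set_option maxHeartbeats 1000000 in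
theorem pairing_bound (ρ : Γ →* Module.End K W) [Nontrivial W] (P Y C : Subgroup Γ) {a : Γ} {q : ℕ}
    (hq : q.Prime) (ha : orderOf a = q) (haP : a ∈ Subgroup.normalizer (P : Set Γ))
    (haY : a ∈ Subgroup.normalizer (Y : Set Γ))
    (hP : ((Nat.card P : ℕ) : K) ≠ 0) (hqK : (q : K) ≠ 0)
    (hPP : ∀ x ∈ P, ∀ y ∈ P, ∃ c : K, ρ ⁅x, y⁆ = c • 1) (hPY : ∀ x ∈ P, ∀ y ∈ Y, ∃ c : K, ρ ⁅x, y⁆ = c • 1)
    (hfix : ∀ w : W, ρ a w = w → w = 0)
    (hC : ∀ y ∈ Y, (∀ x ∈ P, ρ ⁅x, a * y * a⁻¹ * y⁻¹⁆ = 1) → y ∈ C) :
    Nat.card Y ≤ (q - 1) ^ 2 * Nat.card C := by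
  classical
  have hq2 := hq.two_le
  have hinv : ∀ g : Γ, ρ g * ρ g⁻¹ = 1 := fun g => by rw [← map_mul, mul_inv_cancel, map_one]
  have hinv' : ∀ g : Γ, ρ g⁻¹ * ρ g = 1 := fun g => by rw [← map_mul, inv_mul_cancel, map_one]
  obtain ⟨w₀, hw₀⟩ := exists_ne (0 : W)
  have hinjc : ∀ c d : K, (c • (1 : Module.End K W)) = d • 1 → c = d := fun c d h => by
    have := LinearMap.congr_fun h w₀
    simp only [LinearMap.smul_apply, Module.End.one_apply] at this
    exact smul_left_injective K hw₀ this
  have hone : (1 : Module.End K W) ≠ 0 := fun h => hw₀ (by simpa using LinearMap.congr_fun h w₀)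
  -- conjugation on endomorphisms
  let Ad : Γ →* Module.End K (Module.End K W) :=
    { toFun := fun g =>
        { toFun := fun f => ρ g * f * ρ g⁻¹
          map_add' := fun f f' => by rw [mul_add, add_mul]
          map_smul' := fun c f => by rw [mul_smul_comm, smul_mul_assoc]; rfl }
      map_one' := LinearMap.ext fun f => by
        show ρ 1 * f * ρ (1 : Γ)⁻¹ = f
        rw [inv_one, map_one, one_mul, mul_one]
      map_mul' := fun g h => LinearMap.ext fun f => by
        show ρ (g * h) * f * ρ (g * h)⁻¹ = ρ g * (ρ h * f * ρ h⁻¹) * ρ g⁻¹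
        rw [mul_inv_rev, map_mul, map_mul]
        simp only [mul_assoc] }
  have hAd : ∀ g f, Ad g f = ρ g * f * ρ g⁻¹ := fun _ _ => rfl
  have hscal : ∀ g : Γ, (∃ c : K, ρ g = c • 1) → Ad g = 1 := by
    rintro g ⟨c, hc⟩
    refine LinearMap.ext fun f => ?_
    rw [hAd, hc, smul_mul_assoc, one_mul, ← mul_one f, ← mul_smul_comm, mul_one f, ← hc, mul_assoc, hinv, mul_one]
    rfl
  let AdP : P →* (Module.End K (Module.End K W))ˣ := (Ad.comp P.subtype).toHomUnits
  have hker : commutator P ≤ AdP.ker := by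
    rw [commutator_def, Subgroup.commutator_le]
    intro x _ y _
    rw [MonoidHom.mem_ker]
    apply Units.ext
    rw [MonoidHom.coe_toHomUnits, Units.val_one, MonoidHom.comp_apply]
    refine hscal _ ?_
    simpa [commutatorElement_def] using hPP x x.2 y y.2
  let φ : Abelianization P →* Module.End K (Module.End K W) :=
    (Units.coeHom _).comp (QuotientGroup.lift (commutator P) AdP hker)
  have hofsurj : ∀ u : Abelianization P, ∃ x, Abelianization.of x = u := fun u => QuotientGroup.mk'_surjective _ u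
  have hφ : ∀ (x : P) f, φ (Abelianization.of x) f = ρ x * f * ρ (x : Γ)⁻¹ := fun x f => rfl
  have := Fintype.ofFinite (Abelianization P)
  have hcardX : Fintype.card (Abelianization P) ∣ Nat.card P := by
    rw [← Nat.card_eq_fintype_card]
    exact Subgroup.card_quotient_dvd_card _
  have hX : ((Fintype.card (Abelianization P) : ℕ) : K) ≠ 0 := fun h => hP (by
    obtain ⟨k, hk⟩ := hcardX
    rw [hk, Nat.cast_mul, h, zero_mul])
  have : NeZero ((Monoid.exponent (Abelianization P) : ℕ) : K) := ⟨fun h => hX (by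
    obtain ⟨k, hk⟩ : Monoid.exponent (Abelianization P) ∣ Fintype.card (Abelianization P) :=
      Monoid.exponent_dvd_of_forall_pow_eq_one fun g => pow_card_eq_one
    rw [hk, Nat.cast_mul, h, zero_mul])⟩
  have := Fintype.ofFinite (Abelianization P →* Kˣ)
  let cP : MulAut P :=
    { toFun := fun x => ⟨a * x * a⁻¹, (Subgroup.mem_normalizer_iff.mp haP _).mp x.2⟩
      invFun := fun x => ⟨a⁻¹ * x * a, by simpa using (Subgroup.mem_normalizer_iff.mp (inv_mem haP) _).mp x.2⟩
      left_inv := fun x => Subtype.ext (by simp [mul_assoc])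
      right_inv := fun x => Subtype.ext (by simp [mul_assoc])
      map_mul' := fun x y => Subtype.ext (by simp [mul_assoc]) }
  let γ : MulAut (Abelianization P) := cP.abelianizationCongr
  have hγof : ∀ x : P, γ (Abelianization.of x) = Abelianization.of (cP x) := fun x => rfl
  have hγn : ∀ (n : ℕ) (x : P), ∃ z : P, (γ ^ n) (Abelianization.of x) = Abelianization.of z ∧ (z : Γ) = a ^ n * x * (a ^ n)⁻¹ := by
    intro n x
    induction n with
    | zero => exact ⟨x, by simp, by simp⟩
    | succ n ih =>
      obtain ⟨z, hz, hz'⟩ := ih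
      refine ⟨cP z, by rw [pow_succ', MulAut.mul_apply, hz, hγof], ?_⟩
      show a * (z : Γ) * a⁻¹ = _
      rw [hz', pow_succ']; group
  have hγ : γ ^ q = 1 := MulEquiv.ext fun u => by
    obtain ⟨x, rfl⟩ := hofsurj u
    obtain ⟨z, hz, hz'⟩ := hγn q x
    rw [← ha, pow_orderOf_eq_one, one_mul, inv_one, mul_one] at hz'
    rw [MulAut.one_apply]
    rw [hz, Subtype.ext hz']
  let β : Module.End K W ≃ₗ[K] Module.End K W :=
    LinearEquiv.ofLinearMap (Ad a) (Ad a⁻¹) (by rw [← Module.End.mul_eq_comp, ← map_mul, mul_inv_cancel, map_one]; rfl)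
      (by rw [← Module.End.mul_eq_comp, ← map_mul, inv_mul_cancel, map_one]; rfl)
  have hcompat : ∀ u f, β (φ u f) = φ (γ u) (β f) := by
    intro u f
    obtain ⟨x, rfl⟩ := hofsurj u
    show ρ a * (ρ x * f * ρ (x : Γ)⁻¹) * ρ a⁻¹ = ρ (a * x * a⁻¹) * (ρ a * f * ρ a⁻¹) * ρ (a * (x : Γ) * a⁻¹)⁻¹
    rw [show (a * (x : Γ) * a⁻¹)⁻¹ = a * (x : Γ)⁻¹ * a⁻¹ by group, map_mul, map_mul, map_mul, map_mul]
    simp only [mul_assoc]
    rw [← mul_assoc (ρ a⁻¹) (ρ a), hinv', one_mul, ← mul_assoc (ρ a⁻¹) (ρ a), hinv', one_mul]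
  have hup := Grading.fixed_finrank_le hX φ β γ hq hγ hcompat
  set wgt : (Abelianization P →* Kˣ) → ℕ := fun χ => Module.finrank K (Grading.weight φ χ) with hwgt
  -- the translations
  have hψ : ∀ y : Y, ∃ ψ : Abelianization P →* Kˣ, ∀ x : P, ρ ⁅(x : Γ), (y : Γ)⁆ = (ψ (Abelianization.of x) : K) • 1 := by
    intro y
    choose c hc using fun x : P => hPY x x.2 y y.2
    have hmul : ∀ x x' : P, c (x * x') = c x * c x' := by
      intro x x'
      apply hinjc
      rw [← hc, show ⁅((x * x' : P) : Γ), (y : Γ)⁆ = (x : Γ) * ⁅(x' : Γ), (y : Γ)⁆ * (x : Γ)⁻¹ * ⁅(x : Γ), (y : Γ)⁆ by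
        simp only [commutatorElement_def, Subgroup.coe_mul]; group]
      simp only [map_mul, hc, mul_smul_comm, smul_mul_assoc, mul_one, hinv, smul_smul]
    have hc1 : c 1 = 1 := hinjc _ _ (by rw [← hc, one_smul]; simp [commutatorElement_def])
    let u : P →* Kˣ := MonoidHom.toHomUnits { toFun := c, map_one' := hc1, map_mul' := hmul }
    exact ⟨Abelianization.lift u, fun x => by rw [Abelianization.lift_apply_of]; exact hc x⟩
  choose ψ hψ using hψ
  have hψmul : ∀ y z : Y, ψ (y * z) = ψ y * ψ z := by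
    intro y z
    refine MonoidHom.ext fun u => ?_
    obtain ⟨x, rfl⟩ := hofsurj u
    refine Units.ext (hinjc _ _ ?_)
    rw [← hψ, show ⁅(x : Γ), ((y * z : Y) : Γ)⁆ = ⁅(x : Γ), (y : Γ)⁆ * ((y : Γ) * ⁅(x : Γ), (z : Γ)⁆ * (y : Γ)⁻¹) by
      simp only [commutatorElement_def, Subgroup.coe_mul]; group]
    simp only [map_mul, hψ, MonoidHom.mul_apply, Units.val_mul, mul_smul_comm, smul_mul_assoc, mul_one,
      hinv, smul_smul, mul_comm]
  let Ψ : Y →* (Abelianization P →* Kˣ) := MonoidHom.mk' ψ hψmul
  have hψmove : ∀ (y : Y) χ f, f ∈ Grading.weight φ χ → ρ y * f ∈ Grading.weight φ (χ * ψ y) := by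
    intro y χ f hf u
    obtain ⟨x, rfl⟩ := hofsurj u
    show ρ x * (ρ y * f) * ρ (x : Γ)⁻¹ = _
    have h1 : ρ x * f * ρ (x : Γ)⁻¹ = (χ (Abelianization.of x) : K) • f := hf (Abelianization.of x)
    have h2 : ρ x * ρ y = (ψ y (Abelianization.of x) : K) • (ρ y * ρ x) := by
      rw [show ρ x * ρ y = ρ ⁅(x : Γ), (y : Γ)⁆ * (ρ y * ρ x) by
        rw [← map_mul, ← map_mul, ← map_mul, commutatorElement_def]; congr 1; group]
      rw [hψ y x, smul_mul_assoc, one_mul]
    rw [← mul_assoc, h2, smul_mul_assoc, smul_mul_assoc, mul_assoc (ρ y) (ρ x) f, mul_assoc (ρ y), h1,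
      mul_smul_comm, smul_smul]
    show _ = (((χ * ψ y) (Abelianization.of x) : Kˣ) : K) • (ρ y * f)
    rw [MonoidHom.mul_apply, Units.val_mul, mul_comm]
  have hwle : ∀ (y : Y) χ, wgt χ ≤ wgt (χ * ψ y) := fun y χ =>
    LinearMap.finrank_le_finrank_of_injective (f :=
      ({ toFun := fun f => ⟨ρ y * f, hψmove y χ f f.2⟩
         map_add' := fun f f' => Subtype.ext (mul_add _ _ _)
         map_smul' := fun c f => Subtype.ext (mul_smul_comm c _ _) } :
        Grading.weight φ χ →ₗ[K] Grading.weight φ (χ * ψ y)))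
      (fun f f' h => Subtype.ext (by
        have h' : ρ y * (f : Module.End K W) = ρ y * f' := congrArg Subtype.val h
        have := congrArg (fun g => ρ (y : Γ)⁻¹ * g) h'
        simpa [← mul_assoc, hinv'] using this))
  -- double counting
  let Fixed : (Abelianization P →* Kˣ) → Prop := fun χ => ∀ u, χ (γ u) = χ u
  set D := Module.finrank K W with hD
  set F := ∑ χ : Abelianization P →* Kˣ, (if Fixed χ then wgt χ else 0) with hF
  have hDD : ∑ χ : Abelianization P →* Kˣ, wgt χ = D * D := by
    rw [hwgt, ← Grading.finrank_eq hX φ, Module.finrank_linearMap]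
  have := Fintype.ofFinite Y
  have hdouble : Nat.card Y * F ≤ Nat.card C * (D * D) := by
    calc Nat.card Y * F = ∑ _y : Y, F := by rw [Finset.sum_const, Finset.card_univ, Nat.card_eq_fintype_card, smul_eq_mul]
      _ ≤ ∑ y : Y, ∑ χ : Abelianization P →* Kˣ, (if Fixed χ then wgt (χ * ψ y) else 0) :=
          Finset.sum_le_sum fun y _ => Finset.sum_le_sum fun χ _ => by
            split_ifs
            · exact hwle y χ
            · exact le_rfl
      _ = ∑ y : Y, ∑ χ : Abelianization P →* Kˣ, (if Fixed (χ * (ψ y)⁻¹) then wgt χ else 0) :=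
          Finset.sum_congr rfl fun y _ => Fintype.sum_equiv (Equiv.mulRight (ψ y)) _ _ fun χ => by simp
      _ = ∑ χ : Abelianization P →* Kˣ, ∑ y : Y, (if Fixed (χ * (ψ y)⁻¹) then wgt χ else 0) := Finset.sum_comm
      _ ≤ ∑ χ : Abelianization P →* Kˣ, Nat.card C * wgt χ := by
          refine Finset.sum_le_sum fun χ _ => ?_
          rw [← Finset.sum_filter, Finset.sum_const, smul_eq_mul]
          refine Nat.mul_le_mul_right _ ?_
          rcases ((Finset.univ : Finset Y).filter fun y => Fixed (χ * (ψ y)⁻¹)).eq_empty_or_nonempty with h | ⟨y₀, hy₀⟩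
          · rw [h]; simp
          · rw [Finset.mem_filter] at hy₀
            have := Fintype.ofFinite C
            rw [Nat.card_eq_fintype_card, ← Finset.card_univ (α := C)]
            have hdiff : ∀ y : Y, Fixed (χ * (ψ y)⁻¹) → (y₀ : Γ)⁻¹ * y ∈ C := by
              intro y hy
              refine hC _ (Y.mul_mem (Y.inv_mem y₀.2) y.2) fun x hx => ?_
              have hxm : a⁻¹ * x * a ∈ P := by simpa using (Subgroup.mem_normalizer_iff.mp (inv_mem haP) _).mp hx
              set z : Y := y₀⁻¹ * y with hz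
              have hzfix : ∀ u, Ψ z (γ u) = Ψ z u := by
                intro u
                have e1 := hy u
                have e2 := hy₀.2 u
                rw [hz, map_mul, map_inv]
                show (ψ y₀ (γ u))⁻¹ * ψ y (γ u) = (ψ y₀ u)⁻¹ * ψ y u
                simp only [MonoidHom.mul_apply, MonoidHom.inv_apply, ← div_eq_mul_inv] at e1 e2
                rw [div_eq_div_iff_div_eq_div] at e1 e2
                rw [inv_mul_eq_div, inv_mul_eq_div, div_eq_div_iff_div_eq_div]
                exact e1.symm.trans e2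
              let z' : Y := ⟨a * z * a⁻¹, (Subgroup.mem_normalizer_iff.mp haY _).mp z.2⟩
              have hconj : cP ⟨a⁻¹ * x * a, hxm⟩ = ⟨x, hx⟩ := Subtype.ext (by simp [cP, mul_assoc])
              have e3 : Ψ z' (Abelianization.of ⟨x, hx⟩) = Ψ z (Abelianization.of ⟨x, hx⟩) := by
                conv_rhs => rw [← hconj, ← hγof, hzfix]
                refine Units.ext (hinjc _ _ ?_)
                show (ψ z' (Abelianization.of ⟨x, hx⟩) : K) • (1 : Module.End K W) =
                  (ψ z (Abelianization.of ⟨a⁻¹ * x * a, hxm⟩) : K) • 1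
                rw [← hψ, show ⁅x, (z' : Γ)⁆ = a * ⁅a⁻¹ * x * a, (z : Γ)⁆ * a⁻¹ by
                  simp only [z', commutatorElement_def]; group]
                have := hψ z ⟨a⁻¹ * x * a, hxm⟩
                simp only [map_mul, this, mul_smul_comm, smul_mul_assoc, mul_one, hinv]
              show ρ ⁅x, ((z' * z⁻¹ : Y) : Γ)⁆ = 1
              have e4 := hψ (z' * z⁻¹) ⟨x, hx⟩
              have e5 : ψ (z' * z⁻¹) = Ψ z' * (Ψ z)⁻¹ := by
                rw [show ψ (z' * z⁻¹) = Ψ (z' * z⁻¹) from rfl, map_mul, map_inv]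
              rw [e5, MonoidHom.mul_apply, MonoidHom.inv_apply, e3, mul_inv_cancel, Units.val_one, one_smul] at e4
              exact e4
            refine Finset.card_le_card_of_injOn (fun y => if h : (y₀ : Γ)⁻¹ * y ∈ C then (⟨_, h⟩ : C) else 1)
              (fun y _ => Finset.mem_univ _) fun y hy y' hy' h => ?_
            simp only [Finset.coe_filter, Finset.mem_univ, true_and, Set.mem_ofPred_eq] at hy hy'
            simp only [dif_pos (hdiff y hy), dif_pos (hdiff y' hy'), Subtype.mk.injEq] at h
            exact Subtype.ext (mul_left_cancel h)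
      _ = Nat.card C * (D * D) := by rw [← Finset.mul_sum, hDD]
  -- the fixed endomorphisms contain those preserving the eigenspaces
  set fx := Module.finrank K (LinearMap.eqLocus β.toLinearMap LinearMap.id) with hfx
  have hlow : D * D ≤ (q - 1) * fx := by
    let A := Subgroup.zpowers a
    have hcA : Nat.card A = q := by rw [Nat.card_zpowers, ha]
    have := Fintype.ofFinite A
    have hAK : ((Fintype.card A : ℕ) : K) ≠ 0 := by rw [← Nat.card_eq_fintype_card, hcA]; exact hqK
    have : NeZero ((Monoid.exponent A : ℕ) : K) := ⟨fun h => hqK (by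
      obtain ⟨k, hk⟩ : Monoid.exponent A ∣ q :=
        hcA ▸ Monoid.exponent_dvd_of_forall_pow_eq_one fun g => pow_card_eq_one'
      rw [hk, Nat.cast_mul, h, zero_mul])⟩
    have := Fintype.ofFinite (A →* Kˣ)
    let φa : A →* Module.End K W := ρ.comp A.subtype
    let aA : A := ⟨a, Subgroup.mem_zpowers a⟩
    have hd1 : Module.finrank K (Grading.weight φa 1) = 0 := by
      rw [(Submodule.eq_bot_iff (Grading.weight φa 1)).mpr fun w hw => hfix w (by simpa [φa] using hw aA), finrank_bot]
    have hcard : (Finset.univ.erase (1 : A →* Kˣ)).card = q - 1 := by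
      rw [Finset.card_erase_of_mem (Finset.mem_univ _), Finset.card_univ, ← Nat.card_eq_fintype_card,
        CommGroup.card_monoidHom_of_hasEnoughRootsOfUnity A K, hcA]
    have hDsum : D = ∑ χ ∈ Finset.univ.erase (1 : A →* Kˣ), Module.finrank K (Grading.weight φa χ) := by
      rw [Finset.sum_erase (f := fun χ : A →* Kˣ => Module.finrank K (Grading.weight φa χ)) _ hd1]
      exact Grading.finrank_eq hAK φa
    have hsq : ∑ χ : A →* Kˣ, Module.finrank K (Grading.weight φa χ) * Module.finrank K (Grading.weight φa χ) ≤ fx := by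
      have hE : ∀ χ : A →* Kˣ, Module.finrank K (Module.End K (Grading.weight φa χ)) =
          Module.finrank K (Grading.weight φa χ) * Module.finrank K (Grading.weight φa χ) :=
        fun χ => Module.finrank_linearMap K K _ _
      simp only [← hE]
      rw [← Module.finrank_pi_fintype, hfx]
      let pr : ∀ χ : A →* Kˣ, W →ₗ[K] Grading.weight φa χ := fun χ =>
        (Grading.proj φa χ).codRestrict _ (Grading.proj_mem φa χ)
      have hpr : ∀ χ w, pr χ (ρ a w) = (χ aA : K) • pr χ w := by
        intro χ w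
        apply Subtype.ext
        show Grading.proj φa χ (φa aA w) = (χ aA : K) • Grading.proj φa χ w
        rw [← Grading.proj_mem φa χ w aA, Grading.proj_apply, Grading.proj_apply, map_smul, map_sum]
        refine congrArg _ (Finset.sum_congr rfl fun x _ => ?_)
        rw [map_smul, ← Module.End.mul_apply, ← map_mul, mul_comm, map_mul, Module.End.mul_apply]
      let T : (∀ χ : A →* Kˣ, Module.End K (Grading.weight φa χ)) →ₗ[K] Module.End K W :=
        { toFun := fun g => ∑ χ, (Grading.weight φa χ).subtype ∘ₗ g χ ∘ₗ pr χ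
          map_add' := fun g g' => by simp [LinearMap.add_comp, LinearMap.comp_add, Finset.sum_add_distrib]
          map_smul' := fun c g => by simp [LinearMap.smul_comp, LinearMap.comp_smul, Finset.smul_sum] }
      have hT : ∀ g w, T g w = ∑ χ, ((g χ (pr χ w) : Grading.weight φa χ) : W) := fun g w => by simp [T]
      have hTfix : ∀ g, T g ∈ LinearMap.eqLocus β.toLinearMap LinearMap.id := by
        intro g
        show ρ a * T g * ρ a⁻¹ = T g
        have hcomm : ρ a * T g = T g * ρ a := by
          refine LinearMap.ext fun w => ?_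
          rw [Module.End.mul_apply, Module.End.mul_apply, hT, hT, map_sum]
          refine Finset.sum_congr rfl fun χ _ => ?_
          rw [hpr, map_smul, Submodule.coe_smul]
          exact (g χ (pr χ w)).2 aA
        rw [hcomm, mul_assoc, hinv, mul_one]
      refine LinearMap.finrank_le_finrank_of_injective (f := T.codRestrict _ hTfix) fun g g' h => ?_
      funext χ
      refine LinearMap.ext fun w => Subtype.ext ?_
      have h' := LinearMap.congr_fun (congrArg Subtype.val h) (w : W)
      change T g (w : W) = T g' (w : W) at h'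
      have key : ∀ g, T g (w : W) = ((g χ w : Grading.weight φa χ) : W) := by
        intro g
        rw [hT, Finset.sum_eq_single χ (fun ψ' _ hne => ?_) (by simp)]
        · rw [show pr χ (w : W) = w from Subtype.ext (Grading.proj_eq hAK φa w.2)]
        · rw [show pr ψ' (w : W) = 0 from Subtype.ext (Grading.proj_eq_zero hAK φa hne w.2)]
          simp
      rwa [key, key] at h'
    calc D * D = (∑ χ ∈ Finset.univ.erase (1 : A →* Kˣ), Module.finrank K (Grading.weight φa χ)) ^ 2 := by
          rw [← hDsum, sq]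
      _ ≤ (q - 1) * ∑ χ ∈ Finset.univ.erase (1 : A →* Kˣ), Module.finrank K (Grading.weight φa χ) ^ 2 := by
          have := sq_sum_le_card_mul_sum_sq (s := Finset.univ.erase (1 : A →* Kˣ))
            (f := fun χ => Module.finrank K (Grading.weight φa χ))
          rwa [hcard] at this
      _ ≤ (q - 1) * fx := by
          refine Nat.mul_le_mul_left _ (le_trans ?_ hsq)
          simp only [sq]
          exact Finset.sum_le_sum_of_subset (Finset.subset_univ _)
  have hDpos : 0 < D * D := Nat.mul_pos Module.finrank_pos Module.finrank_pos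
  have hup' : q * fx ≤ D * D + (q - 1) * F := by
    rw [hfx, hF]
    refine hup.trans (le_of_eq ?_)
    rw [Module.finrank_linearMap]
  obtain ⟨e, rfl⟩ := Nat.exists_eq_add_of_le' hq.one_le
  rw [Nat.add_sub_cancel] at hlow hup' ⊢
  refine Nat.le_of_mul_le_mul_right ?_ hDpos
  have h1 : D * D ≤ e * e * F := by
    have := Nat.mul_le_mul_left (e + 1) hlow
    have := Nat.mul_le_mul_left e hup'
    nlinarith
  calc Nat.card Y * (D * D) ≤ Nat.card Y * (e * e * F) := Nat.mul_le_mul_left _ h1
    _ = e * e * (Nat.card Y * F) := by ring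
    _ ≤ e * e * (Nat.card C * (D * D)) := Nat.mul_le_mul_left _ hdouble
    _ = e ^ 2 * Nat.card C * (D * D) := by ring

end CfsgLib.FittingHeight
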