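/-
Characters of abelian normal subgroups in the dual of a module over a large field.
-/
import Mathlib
import Cfsg.Agent.Lib.FittingHeight.Basic
import Cfsg.Agent.Lib.FittingHeight.Grading

set_option autoImplicit false

open scoped IsMulCommutative
open Finset

namespace CfsgLib.FittingHeight

universe u v

/-- The homomorphisms of `M` to `K`, as a `K`-space. -/
def Dual (M : Type v) [AddCommGroup M] (K : Type*) [Field K] : Type _ := M →+ K

variable {Γ : Type u} [Group Γ] {M : Type v} [AddCommGroup M] [DistribMulAction Γ M] {K : Type*} [Field K]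

noncomputable instance : AddCommGroup (Dual M K) := inferInstanceAs (AddCommGroup (M →+ K))
noncomputable instance : Module K (Dual M K) := inferInstanceAs (Module K (M →+ K))
instance : FunLike (Dual M K) M K := inferInstanceAs (FunLike (M →+ K) M K)
instance : AddMonoidHomClass (Dual M K) M K := inferInstanceAs (AddMonoidHomClass (M →+ K) M K)

@[ext] theorem Dual.ext {f g : Dual M K} (h : ∀ m, f m = g m) : f = g := AddMonoidHom.ext h

noncomputable instance : DistribMulAction Γ (Dual M K) where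
  smul g f := (AddMonoidHom.comp (f : M →+ K) (DistribSMul.toAddMonoidHom M g⁻¹) : M →+ K)
  one_smul f := Dual.ext fun m => by
    show f ((1 : Γ)⁻¹ • m) = f m
    rw [inv_one, one_smul]
  mul_smul g h f := Dual.ext fun m => by
    show f ((g * h)⁻¹ • m) = f (h⁻¹ • g⁻¹ • m)
    rw [mul_inv_rev, mul_smul]
  smul_zero _ := rfl
  smul_add _ _ _ := rfl

@[simp] theorem Dual.smul_apply (g : Γ) (f : Dual M K) (m : M) : (g • f) m = f (g⁻¹ • m) := rfl

instance : SMulCommClass Γ K (Dual M K) := ⟨fun _ _ _ => rfl⟩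

theorem Dual.finiteDimensional [Finite M] : FiniteDimensional K (Dual M K) := by
  let ι : Dual M K →ₗ[K] (M → K) :=
    { toFun := fun f m => f m
      map_add' := fun _ _ => rfl
      map_smul' := fun _ _ => rfl }
  exact Module.Finite.of_injective ι (fun f g h => Dual.ext fun m => congrFun h m)

instance [Finite M] : FiniteDimensional K (Dual M K) := Dual.finiteDimensional

/-- Homomorphisms separate points. -/
theorem Dual.exists_ne_zero {t : ℕ} [Fact t.Prime] [CharP K t] (hM : ∀ m : M, t • m = 0) {m : M} (hm : m ≠ 0) :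
    ∃ f : Dual M K, f m ≠ 0 := by
  have inst : Module (ZMod t) M := AddCommGroup.zmodModule hM
  obtain ⟨φ, hφ⟩ : ∃ φ : Module.Dual (ZMod t) M, φ m ≠ 0 := by
    by_contra h
    push Not at h
    exact hm ((Module.forall_dual_apply_eq_zero_iff (ZMod t) m).mp h)
  refine ⟨((ZMod.castHom (dvd_refl t) K).toAddMonoidHom.comp φ.toAddMonoidHom : M →+ K), ?_⟩
  show ZMod.castHom (dvd_refl t) K (φ m) ≠ 0
  rw [map_ne_zero_iff _ (ZMod.castHom_injective K)]
  exact hφ

variable [Finite Γ]

theorem Dual.avg_apply (B : Subgroup Γ) (f : Dual M K) (m : M) : (avg B f : Dual M K) m = f (avg B m) := by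
  have := Fintype.ofFinite B
  rw [avg_eq, avg_eq]
  have h1 : ∀ s : Finset B, (∑ b ∈ s, (b : Γ) • f : Dual M K) m = ∑ b ∈ s, f ((b : Γ)⁻¹ • m) := by
    intro s
    induction s using Finset.cons_induction with
    | empty => rfl
    | cons b s hb ih => rw [Finset.sum_cons, Finset.sum_cons, ← ih]; rfl
  rw [h1]
  show ∑ b : B, (f : M →+ K) ((b : Γ)⁻¹ • m) = (f : M →+ K) (∑ b : B, (b : Γ) • m)
  rw [map_sum]
  exact Fintype.sum_equiv (Equiv.inv B) _ _ fun b => by simp

/-- If `B` fixes no nonzero vector, its sum kills the dual. -/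
theorem Dual.avg_eq_zero (B : Subgroup Γ) (h : ∀ m : M, (∀ b ∈ B, b • m = m) → m = 0) (f : Dual M K) :
    avg B f = 0 := Dual.ext fun m => by
  rw [Dual.avg_apply, h _ fun b hb => smul_avg B hb m]
  exact map_zero (f : M →+ K)

/-- An element fixing every fixed point of `B` fixes the `B`-sums in the dual. -/
theorem Dual.smul_avg_eq (B : Subgroup Γ) {x : Γ} (hxB : x ∈ Subgroup.normalizer (B : Set Γ))
    (hx : ∀ m : M, (∀ b ∈ B, b • m = m) → x • m = m) (f : Dual M K) :
    x • avg B f = avg B f := Dual.ext fun m => by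
  have h2 : x⁻¹ • avg B m = avg B m := inv_smul_eq_iff.mpr (hx _ fun b hb => smul_avg B hb m).symm
  rw [Dual.smul_apply, Dual.avg_apply, Dual.avg_apply, avg_conj B (inv_mem hxB), h2]

variable {E : Subgroup Γ} [IsMulCommutative E]

/-- The operators of an abelian subgroup. -/
noncomputable def opHom (E : Subgroup Γ) (W : Type*) [AddCommGroup W] [Module K W] [DistribMulAction Γ W]
    [SMulCommClass Γ K W] : E →* Module.End K W :=
  (DistribMulAction.toModuleEnd K W).comp E.subtype

/-- The weight space of a character. -/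
noncomputable def wt (K : Type*) [Field K] (W : Type*) [AddCommGroup W] [Module K W] [DistribMulAction Γ W]
    [SMulCommClass Γ K W] {E : Subgroup Γ} (χ : E →* Kˣ) : Submodule K W where
  carrier := {f | ∀ e : E, (e : Γ) • f = (χ e : K) • f}
  zero_mem' := fun e => by simp
  add_mem' := fun {f g} hf hg e => by rw [smul_add, hf e, hg e, smul_add]
  smul_mem' := fun c f hf e => by rw [smul_comm, hf e, smul_comm]

/-- The elements preserving a character. -/
def charStab (E : Subgroup Γ) (χ : E →* Kˣ) : Subgroup Γ where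
  carrier := {g | ∃ hg : g ∈ Subgroup.normalizer (E : Set Γ),
    ∀ e : E, χ ⟨g * e * g⁻¹, (Subgroup.mem_normalizer_iff.mp hg _).mp e.2⟩ = χ e}
  one_mem' := ⟨Subgroup.one_mem _, fun e => congrArg χ (Subtype.ext (by simp))⟩
  mul_mem' := by
    rintro g h ⟨hg, hg'⟩ ⟨hh, hh'⟩
    refine ⟨mul_mem hg hh, fun e => ?_⟩
    rw [← hh' e, ← hg' ⟨h * e * h⁻¹, (Subgroup.mem_normalizer_iff.mp hh _).mp e.2⟩]
    exact congrArg χ (Subtype.ext (by simp [mul_assoc]))
  inv_mem' := by
    rintro g ⟨hg, hg'⟩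
    refine ⟨inv_mem hg, fun e => ?_⟩
    rw [← hg' ⟨g⁻¹ * e * g⁻¹⁻¹, (Subgroup.mem_normalizer_iff.mp (inv_mem hg) _).mp e.2⟩]
    exact congrArg χ (Subtype.ext (by simp [mul_assoc]))

omit [IsMulCommutative E] in
theorem mem_charStab {χ : E →* Kˣ} {g : Γ} (hg : g ∈ Subgroup.normalizer (E : Set Γ)) :
    g ∈ charStab E χ ↔ ∀ e : E, χ ⟨g * e * g⁻¹, (Subgroup.mem_normalizer_iff.mp hg _).mp e.2⟩ = χ e :=
  ⟨fun ⟨_, h⟩ => h, fun h => ⟨hg, h⟩⟩

omit [IsMulCommutative E] in
theorem charStab_le_normalizer (χ : E →* Kˣ) : charStab E χ ≤ Subgroup.normalizer (E : Set Γ) := fun _ ⟨h, _⟩ => h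

variable {W : Type*} [AddCommGroup W] [Module K W] [DistribMulAction Γ W] [SMulCommClass Γ K W]

omit [IsMulCommutative E] in
/-- The weight spaces are carried around. -/
theorem smul_mem_wt {χ : E →* Kˣ} {g : Γ} (hg : g ∈ charStab E χ) {f : W} (hf : f ∈ wt K W χ) :
    g • f ∈ wt K W χ := by
  intro e
  obtain ⟨hn, h⟩ := inv_mem hg
  have e' := hf ⟨g⁻¹ * e * g⁻¹⁻¹, (Subgroup.mem_normalizer_iff.mp hn _).mp e.2⟩
  rw [h e] at e'
  calc (e : Γ) • g • f = g • (g⁻¹ * (e : Γ) * g⁻¹⁻¹) • f := by simp [mul_smul]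
    _ = _ := by rw [e', smul_comm]

/-- Sums over a subgroup, seen in one weight space. -/
theorem avg_inf_charStab [Finite E] (hE : ((Nat.card E : ℕ) : K) ≠ 0) {χ : E →* Kˣ} {B : Subgroup Γ}
    (hBE : B ≤ Subgroup.normalizer (E : Set Γ)) {f : W} (hf : f ∈ wt K W χ) (hB : avg B f = 0) :
    avg (B ⊓ charStab E χ) f = 0 := by
  classical
  have := Fintype.ofFinite E
  have := Fintype.ofFinite B
  have := Fintype.ofFinite (B ⊓ charStab E χ : Subgroup Γ)
  rw [Nat.card_eq_fintype_card] at hE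
  set φ := opHom (K := K) E W
  have hw : ∀ (ψ : E →* Kˣ) (v : W), v ∈ wt K W ψ → v ∈ Grading.weight φ ψ := fun ψ v hv e => hv e
  have key : ∀ b : B, Grading.proj φ χ ((b : Γ) • f) = if (b : Γ) ∈ charStab E χ then (b : Γ) • f else 0 := by
    intro b
    split_ifs with h
    · exact Grading.proj_eq hE φ (hw χ _ (smul_mem_wt h hf))
    · have hbN := hBE b.2
      let ψ : E →* Kˣ :=
        { toFun := fun e => χ ⟨(b : Γ)⁻¹ * e * b, by
            simpa using (Subgroup.mem_normalizer_iff.mp (inv_mem hbN) _).mp e.2⟩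
          map_one' := by rw [← map_one χ]; exact congrArg χ (Subtype.ext (by simp))
          map_mul' := fun x y => by rw [← map_mul]; exact congrArg χ (Subtype.ext (by simp [mul_assoc])) }
      have hmem : (b : Γ) • f ∈ wt K W ψ := by
        intro e
        have e' := hf ⟨(b : Γ)⁻¹ * e * b, by simpa using (Subgroup.mem_normalizer_iff.mp (inv_mem hbN) _).mp e.2⟩
        calc (e : Γ) • (b : Γ) • f = (b : Γ) • ((b : Γ)⁻¹ * e * b) • f := by simp [mul_smul]
          _ = _ := by rw [e', smul_comm]; rfl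
      have hne : χ ≠ ψ := fun he => h (inv_mem_iff.mp ((mem_charStab (inv_mem hbN)).mpr fun e => by
        conv_rhs => rw [he]
        exact congrArg χ (Subtype.ext (by simp))))
      exact Grading.proj_eq_zero hE φ hne (hw ψ _ hmem)
  have h1 : Grading.proj φ χ (avg B f) = ∑ b : B, if (b : Γ) ∈ charStab E χ then (b : Γ) • f else 0 := by
    rw [avg_eq, map_sum]
    exact Finset.sum_congr rfl fun b _ => key b
  rw [hB, map_zero] at h1
  rw [avg_eq, h1, ← Finset.sum_filter]
  refine Finset.sum_nbij' (fun b : (B ⊓ charStab E χ : Subgroup Γ) => (⟨b, b.2.1⟩ : B))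
    (fun b : B => if h : (b : Γ) ∈ charStab E χ then (⟨b, b.2, h⟩ : (B ⊓ charStab E χ : Subgroup Γ)) else 1)
    (fun b _ => Finset.mem_filter.mpr ⟨Finset.mem_univ _, (b.2 : (b : Γ) ∈ B ∧ (b : Γ) ∈ charStab E χ).2⟩)
    (fun b _ => Finset.mem_univ _)
    (fun b _ => dif_pos (b.2 : (b : Γ) ∈ B ∧ (b : Γ) ∈ charStab E χ).2)
    (fun b hb => by simp [(Finset.mem_filter.mp hb).2]) fun b _ => rfl

/-- A vector moved by an element of an abelian group has a weight that moves it. -/
theorem exists_wt [Finite M] [Finite E] {t : ℕ} [Fact t.Prime] [CharP K t] [IsAlgClosed K]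
    (hM : ∀ m : M, t • m = 0) (hE : ¬ t ∣ Nat.card E) {x : E} (hx : ∃ m : M, (x : Γ) • m ≠ m) :
    ∃ χ : E →* Kˣ, χ x ≠ 1 ∧ ∃ f ∈ wt K (Dual M K) χ, f ≠ (0 : Dual M K) := by
  classical
  have := Fintype.ofFinite E
  have hX : ((Fintype.card E : ℕ) : K) ≠ 0 := by
    rw [Ne, CharP.cast_eq_zero_iff K t, ← Nat.card_eq_fintype_card]; exact hE
  have : NeZero ((Monoid.exponent E : ℕ) : K) := ⟨fun h => hE (by
    rw [CharP.cast_eq_zero_iff K t] at h
    exact h.trans (Monoid.exponent_dvd_of_forall_pow_eq_one fun g => pow_card_eq_one'))⟩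
  have := Fintype.ofFinite (E →* Kˣ)
  set φ := opHom (K := K) E (Dual M K)
  obtain ⟨m, hm⟩ := hx
  obtain ⟨f, hf⟩ := Dual.exists_ne_zero (K := K) hM (sub_ne_zero.mpr hm)
  by_contra hno
  push Not at hno
  apply hf
  have hfix : (x : Γ)⁻¹ • f = f := by
    have h1 : φ x f = f := by
      conv_lhs => rw [← Grading.sum_proj hX φ f, map_sum]
      conv_rhs => rw [← Grading.sum_proj hX φ f]
      refine Finset.sum_congr rfl fun χ _ => ?_
      have h2 := Grading.proj_mem φ χ f
      rw [h2 x]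
      by_cases hχ : χ x = 1
      · rw [hχ, Units.val_one, one_smul]
      · rw [hno χ hχ _ h2, smul_zero]
    exact inv_smul_eq_iff.mpr (Eq.symm h1)
  show (f : M →+ K) ((x : Γ) • m - m) = 0
  rw [map_sub, sub_eq_zero]
  have := congrArg (fun g : Dual M K => g m) hfix
  simpa using this

end CfsgLib.FittingHeight
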