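/-
The configuration at the heart of Ward's theorem does not occur.
-/
import Mathlib
import Cfsg.Agent.Lib.FittingHeight.Basic

set_option autoImplicit false

open scoped commutatorElement Pointwise IsMulCommutative
open Finset

namespace CfsgLib.FittingHeight

universe u

variable {Γ : Type u} [Group Γ] [Finite Γ]

/-- Conjugates of a subgroup's elements stay inside. -/
theorem conj_mem {H : Subgroup Γ} {g x : Γ} (hg : g ∈ Subgroup.normalizer (H : Set Γ)) (hx : x ∈ H) :
    g * x * g⁻¹ ∈ H := (Subgroup.mem_normalizer_iff.mp hg _).mp hx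

theorem conj_mem_inv {H : Subgroup Γ} {g x : Γ} (hg : g ∈ Subgroup.normalizer (H : Set Γ)) (hx : x ∈ H) :
    g⁻¹ * x * g ∈ H := by simpa using conj_mem (inv_mem hg) hx

theorem inf_centralizer_normalized {A K C : Subgroup Γ} (hAK : A ≤ Subgroup.normalizer (K : Set Γ))
    (hAC : A ≤ Subgroup.normalizer (C : Set Γ)) :
    A ≤ Subgroup.normalizer ((K ⊓ Subgroup.centralizer (C : Set Γ) : Subgroup Γ) : Set Γ) := by
  intro a ha
  have key : ∀ a ∈ A, ∀ x ∈ K ⊓ Subgroup.centralizer (C : Set Γ),
      a * x * a⁻¹ ∈ K ⊓ Subgroup.centralizer (C : Set Γ) := by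
    intro a ha x hx
    refine ⟨conj_mem (hAK ha) hx.1, Subgroup.mem_centralizer_iff.mpr fun c hc => ?_⟩
    have h1 := Subgroup.mem_centralizer_iff.mp hx.2 _ (conj_mem_inv (hAC ha) hc)
    calc c * (a * x * a⁻¹) = a * ((a⁻¹ * c * a) * x) * a⁻¹ := by group
      _ = a * (x * (a⁻¹ * c * a)) * a⁻¹ := by rw [h1]
      _ = _ := by group
  rw [Subgroup.mem_normalizer_iff]
  intro x
  refine ⟨key a ha x, fun h => ?_⟩
  simpa [mul_assoc] using key a⁻¹ (A.inv_mem ha) _ h

/-- The centraliser of an element of an abelian `A` in an invariant subgroup is invariant. -/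
theorem inf_centralizer_elem_normalized {A K : Subgroup Γ} (hAK : A ≤ Subgroup.normalizer (K : Set Γ)) {a : Γ}
    (hcomm : ∀ b ∈ A, b * a = a * b) :
    A ≤ Subgroup.normalizer ((K ⊓ Subgroup.centralizer ({a} : Set Γ) : Subgroup Γ) : Set Γ) := by
  have key : ∀ b ∈ A, ∀ x ∈ K ⊓ Subgroup.centralizer ({a} : Set Γ),
      b * x * b⁻¹ ∈ K ⊓ Subgroup.centralizer ({a} : Set Γ) := by
    intro b hb x hx
    refine ⟨conj_mem (hAK hb) hx.1, Subgroup.mem_centralizer_singleton_iff.mpr ?_⟩
    have h1 : x * a = a * x := Subgroup.mem_centralizer_singleton_iff.mp hx.2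
    have h2 : b * a * b⁻¹ = a := by rw [hcomm b hb, mul_inv_cancel_right]
    calc b * x * b⁻¹ * a = b * x * b⁻¹ * (b * a * b⁻¹) := by rw [h2]
      _ = b * (x * a) * b⁻¹ := by group
      _ = b * (a * x) * b⁻¹ := by rw [h1]
      _ = (b * a * b⁻¹) * (b * x * b⁻¹) := by group
      _ = _ := by rw [h2]
  intro b hb
  rw [Subgroup.mem_normalizer_iff]
  intro x
  refine ⟨key b hb x, fun h => ?_⟩
  simpa [mul_assoc] using key b⁻¹ (A.inv_mem hb) _ h

omit [Finite Γ] in
/-- The preliminary structure of `Q`: the centraliser of `S` is central and there are no fixed points modulo it. -/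
theorem centralizer_central {Q S : Subgroup Γ} (hSQ : S ≤ Subgroup.normalizer (Q : Set Γ))
    (hQ : ⁅Q, S⁆ = Q) (hder : ⁅Q, Q⁆ ≤ Subgroup.centralizer (S : Set Γ)) :
    ∀ z ∈ Q ⊓ Subgroup.centralizer (S : Set Γ), ∀ x ∈ Q, z * x = x * z := by
  set Z := Q ⊓ Subgroup.centralizer (S : Set Γ) with hZ
  have h1 : ⁅⁅S, Z⁆, Q⁆ = ⊥ := by
    have : ⁅S, Z⁆ = ⊥ := by
      rw [Subgroup.commutator_eq_bot_iff_le_centralizer]
      exact fun s hs => Subgroup.mem_centralizer_iff.mpr fun z hz => (Subgroup.mem_centralizer_iff.mp hz.2 s hs).symm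
    rw [this, Subgroup.commutator_bot_left]
  have h2 : ⁅⁅Z, Q⁆, S⁆ = ⊥ := by
    rw [Subgroup.commutator_eq_bot_iff_le_centralizer]
    exact (Subgroup.commutator_mono inf_le_left le_rfl).trans hder
  have h3 : ⁅⁅Q, S⁆, Z⁆ = ⊥ := Subgroup.commutator_commutator_eq_bot_of_rotate h1 h2
  rw [hQ, Subgroup.commutator_eq_bot_iff_le_centralizer] at h3
  exact fun z hz x hx => Subgroup.mem_centralizer_iff.mp (h3 hx) z hz

/-- Ward's configuration is impossible. -/
theorem ward_core {M : Type*} [AddCommGroup M] [Finite M] [DistribMulAction Γ M]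
    {Q S A : Subgroup Γ} {p r : ℕ} (hp : p.Prime) (hr : r.Prime) (hQr : IsPGroup r Q)
    [IsMulCommutative A] (hAc : Nat.card A = p ^ 2) (hAp : ∀ a ∈ A, a ^ p = 1)
    (hQM : (Nat.card Q).Coprime (Nat.card M)) (hSQc : (Nat.card S).Coprime (Nat.card Q))
    (hAQc : (Nat.card A).Coprime (Nat.card Q)) (hASc : (Nat.card A).Coprime (Nat.card S))
    (hSQ : S ≤ Subgroup.normalizer (Q : Set Γ)) (hAQ : A ≤ Subgroup.normalizer (Q : Set Γ))
    (hAS : A ≤ Subgroup.normalizer (S : Set Γ)) (hne : ¬ S ≤ Subgroup.centralizer (Q : Set Γ))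
    (hSmin : ∀ S₁ ≤ S, A ≤ Subgroup.normalizer (S₁ : Set Γ) → S₁ ≠ S → S₁ ≤ Subgroup.centralizer (Q : Set Γ))
    (hQmin : ∀ Q₁ ≤ Q, S ≤ Subgroup.normalizer (Q₁ : Set Γ) → A ≤ Subgroup.normalizer (Q₁ : Set Γ) → Q₁ ≠ Q →
      Q₁ ≤ Subgroup.centralizer (S : Set Γ))
    (hfaith : ∀ x ∈ Q, (∀ v : M, x • v = v) → x = 1)
    (hfpfQ : ∀ x ∈ Q, (∀ a ∈ A, a * x = x * a) → x = 1)
    (hfpfS : ∀ s ∈ S, (∀ a ∈ A, a * s = s * a) → s = 1)
    (hnilM : ∀ a ∈ A, a ≠ 1 → ∀ x ∈ Q, a * x = x * a → ∀ v : M, a • v = v → x • v = v)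
    (hnilQ : ∀ a ∈ A, a ≠ 1 → ∀ s ∈ S, a * s = s * a → ∀ x ∈ Q, a * x = x * a → s * x = x * s) : False := by
  classical
  have := Fact.mk hp
  have := Fact.mk hr
  have hAs : Group.IsSolvable A := inferInstance
  have hAncyc : ¬ IsCyclic A := fun hc => by
    obtain ⟨g, hg⟩ := IsCyclic.exists_ofOrder_eq_natCard (α := A)
    have h1 : orderOf g ∣ p := orderOf_dvd_of_pow_eq_one (Subtype.ext (by simpa using hAp g g.2))
    rw [hg, hAc] at h1
    have h2 := Nat.le_of_dvd hp.pos h1
    have := Nat.mul_le_mul_left p hp.two_le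
    rw [pow_two] at h2
    have := hp.pos
    omega
  have hord : ∀ a ∈ A, a ≠ 1 → orderOf a = p := fun a ha h1 => orderOf_eq_prime (hAp a ha) h1
  have hcomm : ∀ a ∈ A, ∀ b ∈ A, a * b = b * a := fun a ha b hb =>
    congrArg Subtype.val (mul_comm' (⟨a, ha⟩ : A) ⟨b, hb⟩)
  have hcopEl : ∀ a ∈ A, ∀ K : Subgroup Γ, (Nat.card A).Coprime (Nat.card K) → (orderOf a).Coprime (Nat.card K) :=
    fun a ha K h => h.coprime_dvd_left (A.orderOf_dvd_natCard ha)
  -- two independent elements generate `A`
  have hspan : ∀ a ∈ A, ∀ b ∈ A, a ≠ 1 → b ∉ Subgroup.zpowers a → ∀ c ∈ A,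
      ∃ i j : ℕ, c = a ^ i * b ^ j := by
    intro a ha b hb ha1 hb1 c hc
    have hb0 : b ≠ 1 := fun h => hb1 (h ▸ Subgroup.one_mem _)
    let f : Fin p × Fin p → A := fun ij => ⟨a ^ (ij.1 : ℕ) * b ^ (ij.2 : ℕ), A.mul_mem (A.pow_mem ha _) (A.pow_mem hb _)⟩
    have hf : Function.Injective f := by
      intro x y h
      have h' : a ^ (x.1 : ℕ) * b ^ (x.2 : ℕ) = a ^ (y.1 : ℕ) * b ^ (y.2 : ℕ) := congrArg Subtype.val h
      have h2 : (a ^ (y.1 : ℕ))⁻¹ * a ^ (x.1 : ℕ) = b ^ (y.2 : ℕ) * (b ^ (x.2 : ℕ))⁻¹ := by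
        rw [inv_mul_eq_iff_eq_mul, ← mul_assoc, ← h', mul_inv_cancel_right]
      have h3 : b ^ (x.2 : ℕ) = b ^ (y.2 : ℕ) := by
        by_contra hne'
        have hd : Disjoint (Subgroup.zpowers a) (Subgroup.zpowers b) := by
          rw [disjoint_iff, eq_bot_iff]
          rintro z ⟨hz1, hz2⟩
          by_contra hz
          have hbz : b ∈ Subgroup.zpowers z := by
            have hcard : Nat.card (Subgroup.zpowers b) = p := by rw [Nat.card_zpowers, hord b hb hb0]
            obtain ⟨k, hk⟩ := Subgroup.mem_zpowers_iff.mp hz2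
            have hzA : z ∈ A := hk ▸ A.zpow_mem hb k
            have hz' : z ≠ 1 := fun e => hz (Subgroup.mem_bot.mpr e)
            have := Subgroup.eq_of_le_of_card_ge (Subgroup.zpowers_le.mpr hz2)
              (by rw [hcard, Nat.card_zpowers, hord z hzA hz'])
            exact this ▸ Subgroup.mem_zpowers b
          exact hb1 (Subgroup.zpowers_le.mpr hz1 hbz)
        have h4 := Subgroup.disjoint_def.mp hd
          (show (a ^ (y.1 : ℕ))⁻¹ * a ^ (x.1 : ℕ) ∈ Subgroup.zpowers a from
            mul_mem (inv_mem (pow_mem (Subgroup.mem_zpowers a) _)) (pow_mem (Subgroup.mem_zpowers a) _))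
          (h2 ▸ mul_mem (pow_mem (Subgroup.mem_zpowers b) _) (inv_mem (pow_mem (Subgroup.mem_zpowers b) _)))
        rw [h2, mul_inv_eq_one] at h4
        exact hne' h4.symm
      have h5 : (x.2 : ℕ) = y.2 := by
        have := pow_injOn_Iio_orderOf (x := b) (by rw [hord b hb hb0]; exact x.2.2) (by rw [hord b hb hb0]; exact y.2.2) h3
        exact this
      rw [h3] at h'
      have h6 : (x.1 : ℕ) = y.1 :=
        pow_injOn_Iio_orderOf (x := a) (by rw [hord a ha ha1]; exact x.1.2) (by rw [hord a ha ha1]; exact y.1.2)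
          (mul_right_cancel h')
      exact Prod.ext (Fin.ext h6) (Fin.ext h5)
    obtain ⟨⟨i, j⟩, hij⟩ := ((Nat.bijective_iff_injective_and_card f).mpr ⟨hf, by
      rw [hAc, Nat.card_prod, Nat.card_eq_fintype_card, Fintype.card_fin, pow_two]⟩).2 ⟨c, hc⟩
    exact ⟨i, j, (congrArg Subtype.val hij).symm⟩
  have hfix_span : ∀ a ∈ A, ∀ b ∈ A, a ≠ 1 → b ∉ Subgroup.zpowers a → ∀ x : Γ,
      a * x = x * a → b * x = x * b → ∀ c ∈ A, c * x = x * c := by
    intro a ha b hb ha1 hb1 x hax hbx c hc
    obtain ⟨i, j, rfl⟩ := hspan a ha b hb ha1 hb1 c hc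
    exact ((show Commute a x from hax).pow_left i).mul_left ((show Commute b x from hbx).pow_left j) |>.eq
  -- an element centralising `S`
  obtain ⟨a₀, ha₀, ha₀1, ha₀S⟩ : ∃ a₀ ∈ A, a₀ ≠ 1 ∧ ∀ s ∈ S, a₀ * s = s * a₀ := by
    by_contra hno
    push Not at hno
    refine hne (gen_centralizers hAncyc hAS hASc fun a ha ha1 s hs has => ?_)
    have hle := hSmin (S ⊓ Subgroup.centralizer ({a} : Set Γ)) inf_le_left
      (inf_centralizer_elem_normalized hAS (fun b hb => hcomm b hb a ha)) (fun he => by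
        obtain ⟨s', hs', hs''⟩ := hno a ha ha1
        exact hs'' (Subgroup.mem_centralizer_singleton_iff.mp (he.ge hs').2).symm)
    exact hle ⟨hs, Subgroup.mem_centralizer_singleton_iff.mpr has.symm⟩
  have hCb : ∀ b ∈ A, b ∉ Subgroup.zpowers a₀ → ∀ s ∈ S, b * s = s * b → s ∈ Subgroup.centralizer (Q : Set Γ) := by
    intro b hb hb0 s hs hbs
    refine hSmin (S ⊓ Subgroup.centralizer ({b} : Set Γ)) inf_le_left
      (inf_centralizer_elem_normalized hAS (fun c hc => hcomm c hc b hb)) (fun he => hne fun t ht => ?_)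
      ⟨hs, Subgroup.mem_centralizer_singleton_iff.mpr hbs.symm⟩
    rw [hfpfS t ht fun c hc => hfix_span a₀ ha₀ b hb ha₀1 hb0 t (ha₀S t ht)
      (Subgroup.mem_centralizer_singleton_iff.mp (he.ge ht).2).symm c hc]
    exact Subgroup.one_mem _
  have hsolv : Group.IsSolvable S ∨ Group.IsSolvable Q :=
    Or.inr (by have := hQr.isNilpotent; infer_instance)
  -- `Q = [Q, S]`
  have hQS : ⁅Q, S⁆ = Q := by
    by_contra h
    have h1 := hQmin ⁅Q, S⁆ (commutator_le_of_le_normalizer hSQ) (right_le_normalizer_commutator S Q) (by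
      intro a ha
      rw [Subgroup.mem_normalizer_iff]
      have key : ∀ a ∈ A, ∀ x ∈ ⁅Q, S⁆, a * x * a⁻¹ ∈ ⁅Q, S⁆ := by
        intro a ha x hx
        have hle : ⁅Q, S⁆ ≤ (⁅Q, S⁆ : Subgroup Γ).comap (MulAut.conj a).toMonoidHom := by
          rw [Subgroup.commutator_le]
          intro q hq s hs
          rw [Subgroup.mem_comap, map_commutatorElement]
          exact Subgroup.commutator_mem_commutator (conj_mem (hAQ ha) hq) (conj_mem (hAS ha) hs)
        exact hle hx
      exact fun x => ⟨key a ha x, fun h => by simpa [mul_assoc] using key a⁻¹ (A.inv_mem ha) _ h⟩) h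
    have h2 : ⁅⁅Q, S⁆, S⁆ = ⊥ := Subgroup.commutator_eq_bot_iff_le_centralizer.mpr h1
    rw [coprime_commutator_commutator hSQ hSQc hsolv] at h2
    exact hne (Subgroup.le_centralizer_iff.mp (Subgroup.commutator_eq_bot_iff_le_centralizer.mp h2))
  -- the derived subgroup is centralised
  have hder : ⁅Q, Q⁆ ≤ Subgroup.centralizer (S : Set Γ) := by
    have hnorm : ∀ K : Subgroup Γ, K ≤ Subgroup.normalizer (Q : Set Γ) →
        K ≤ Subgroup.normalizer ((⁅Q, Q⁆ : Subgroup Γ) : Set Γ) := by
      intro K hK k hk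
      have key : ∀ k ∈ K, ∀ x ∈ ⁅Q, Q⁆, k * x * k⁻¹ ∈ ⁅Q, Q⁆ := by
        intro k hk x hx
        have hle : ⁅Q, Q⁆ ≤ (⁅Q, Q⁆ : Subgroup Γ).comap (MulAut.conj k).toMonoidHom := by
          rw [Subgroup.commutator_le]
          intro q hq s hs
          rw [Subgroup.mem_comap, map_commutatorElement]
          exact Subgroup.commutator_mem_commutator (conj_mem (hK hk) hq) (conj_mem (hK hk) hs)
        exact hle hx
      rw [Subgroup.mem_normalizer_iff]
      exact fun x => ⟨key k hk x, fun h => by simpa [mul_assoc] using key k⁻¹ (K.inv_mem hk) _ h⟩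
    refine hQmin _ (commutator_le_of_le_normalizer Subgroup.le_normalizer) (hnorm S hSQ) (hnorm A hAQ) fun he => ?_
    have hQn := hQr.isNilpotent
    have h0 : commutator Q = ⊤ := by
      apply Subgroup.map_injective Q.subtype_injective
      rw [commutator_def, Subgroup.map_commutator, ← MonoidHom.range_eq_map, Subgroup.range_subtype, he]
    have hQne : Nontrivial Q := by
      rw [Subgroup.nontrivial_iff_ne_bot]
      rintro rfl
      exact hne (fun s _ => Subgroup.mem_centralizer_iff.mpr fun x hx => by rw [Subgroup.mem_bot.mp hx]; simp)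
    exact absurd h0 (Group.IsSolvable.commutator_lt_top_of_nontrivial (G := Q)).ne
  set Z := Q ⊓ Subgroup.centralizer (S : Set Γ) with hZ
  have hZc := centralizer_central hSQ hQS hder
  have hAZ : A ≤ Subgroup.normalizer (Z : Set Γ) := inf_centralizer_normalized hAQ hAS
  have hQ'Z : ⁅Q, Q⁆ ≤ Z := le_inf (commutator_le_of_le_normalizer Subgroup.le_normalizer) hder
  have hZne : Z ≠ Q := fun he => hne (Subgroup.le_centralizer_iff.mp (he.ge.trans inf_le_right))
  have hSZ : ∀ s ∈ S, ∀ z ∈ Z, s * z = z * s := fun s hs z hz => Subgroup.mem_centralizer_iff.mp hz.2 s hs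
  have hXQ : (A ⊔ S) ≤ Subgroup.normalizer (Q : Set Γ) := sup_le hAQ hSQ
  -- `S` cannot move `Q` inside `Z` only
  have hnotZ : ¬ ∀ s ∈ S, ∀ x ∈ Q, s * x * s⁻¹ * x⁻¹ ∈ Z := by
    intro h
    apply hne
    refine Subgroup.le_centralizer_iff.mp ?_
    have hle : ⁅Q, S⁆ ≤ Z := by
      rw [Subgroup.commutator_le]
      intro x hx s hs
      have := Z.inv_mem (h s hs x hx)
      simpa [commutatorElement_def, mul_assoc] using this
    rw [hQS] at hle
    exact hle.trans inf_le_right
  -- the centraliser of `a₀` in `Q` is in `Z`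
  have hQ0 : ∀ x ∈ Q, a₀ * x = x * a₀ → x ∈ Z := fun x hx h =>
    ⟨hx, Subgroup.mem_centralizer_iff.mpr fun s hs => hnilQ a₀ ha₀ ha₀1 s hs (ha₀S s hs) x hx h⟩
  -- a line moving `Q` only inside `Z` propagates to `S`
  have hline : ∀ b ∈ A, b ∉ Subgroup.zpowers a₀ → ∀ N : Subgroup Γ,
      (∀ s ∈ S, (s * b * s⁻¹) ∈ modCent Q N (A ⊔ S) hXQ) → ∀ s ∈ S, s ∈ modCent Q N (A ⊔ S) hXQ := by
    intro b hb hb0 N hconj s hs
    have hb' : b ∈ modCent Q N (A ⊔ S) hXQ := by simpa using hconj 1 S.one_mem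
    have hbS : Subgroup.zpowers b ≤ Subgroup.normalizer (S : Set Γ) :=
      (Subgroup.zpowers_le.mpr (hAS hb))
    obtain ⟨x, hx, c, hc, rfl⟩ := coprime_decomp hbS
      (by rw [Nat.card_zpowers]; exact hcopEl b hb S hASc) (Or.inl inferInstance) hs
    refine mul_mem ?_ ?_
    · have hle : ⁅S, Subgroup.zpowers b⁆ ≤ modCent Q N (A ⊔ S) hXQ := by
        rw [Subgroup.commutator_le]
        intro s hs g hg
        obtain ⟨k, rfl⟩ := Subgroup.mem_zpowers_iff.mp hg
        rw [commutatorElement_def]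
        refine mul_mem ?_ (inv_mem (zpow_mem hb' k))
        rw [← conj_zpow]
        exact zpow_mem (hconj s hs) k
      exact hle hx
    · refine mem_modCent.mpr ⟨Subgroup.mem_sup_right hc.1, fun y hy => ?_⟩
      have h1 : c ∈ Subgroup.centralizer (Q : Set Γ) :=
        hCb b hb hb0 c hc.1 (Subgroup.mem_centralizer_iff.mp hc.2 b (Subgroup.mem_zpowers b))
      rw [← Subgroup.mem_centralizer_iff.mp h1 y hy]
      simp
  by_cases hZ1 : Z = ⊥
  · -- `Q` is elementary abelian
    have hQcomm : ∀ x ∈ Q, ∀ y ∈ Q, x * y = y * x := fun x hx y hy => by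
      have h1 : ⁅x, y⁆ ∈ Z := hQ'Z (Subgroup.commutator_mem_commutator hx hy)
      rw [hZ1, Subgroup.mem_bot, commutatorElement_eq_one_iff_mul_comm] at h1
      exact h1
    have hQexp : ∀ x ∈ Q, x ^ r = 1 := by
      let R : Subgroup Γ :=
        { carrier := {y | ∃ x ∈ Q, x ^ r = y}
          one_mem' := ⟨1, Q.one_mem, one_pow r⟩
          mul_mem' := by
            rintro _ _ ⟨x, hx, rfl⟩ ⟨y, hy, rfl⟩
            exact ⟨x * y, Q.mul_mem hx hy, (show Commute x y from hQcomm x hx y hy).mul_pow r⟩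
          inv_mem' := by
            rintro _ ⟨x, hx, rfl⟩
            exact ⟨x⁻¹, Q.inv_mem hx, inv_pow x r⟩ }
      have hRQ : R ≤ Q := by rintro _ ⟨x, hx, rfl⟩; exact Q.pow_mem hx r
      have hnorm : ∀ K : Subgroup Γ, K ≤ Subgroup.normalizer (Q : Set Γ) → K ≤ Subgroup.normalizer (R : Set Γ) := by
        intro K hK k hk
        have key : ∀ k ∈ K, ∀ y ∈ R, k * y * k⁻¹ ∈ R := by
          rintro k hk _ ⟨x, hx, rfl⟩
          exact ⟨k * x * k⁻¹, conj_mem (hK hk) hx, conj_pow⟩
        rw [Subgroup.mem_normalizer_iff]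
        exact fun x => ⟨key k hk x, fun h => by simpa [mul_assoc] using key k⁻¹ (K.inv_mem hk) _ h⟩
      have hRne : R ≠ Q := by
        intro he
        let f : Q → Q := fun x => x ^ r
        have hsurj : Function.Surjective f := fun y => by
          obtain ⟨x, hx, hxy⟩ := he.ge y.2
          exact ⟨⟨x, hx⟩, Subtype.ext hxy⟩
        have hinj := Finite.injective_iff_surjective.mpr hsurj
        obtain ⟨x, hx⟩ : ∃ x : Q, orderOf x = r := by
          refine exists_prime_orderOf_dvd_card' r ?_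
          obtain ⟨n, hn⟩ := IsPGroup.iff_card.mp hQr
          rw [hn]
          refine dvd_pow_self r fun h0 => hne fun s _ => ?_
          rw [h0, pow_zero, Subgroup.card_eq_one] at hn
          rw [hn]
          exact Subgroup.mem_centralizer_iff.mpr fun z hz => by rw [Subgroup.mem_bot.mp hz]; simp
        have : x = 1 := hinj (show x ^ r = (1 : Q) ^ r by rw [← hx, pow_orderOf_eq_one, one_pow])
        rw [this, orderOf_one] at hx
        exact hr.one_lt.ne hx
      intro x hx
      have h1 : R ≤ Z := le_inf hRQ (hQmin R hRQ (hnorm S hSQ) (hnorm A hAQ) hRne)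
      exact Subgroup.mem_bot.mp (hZ1 ▸ h1 ⟨x, hx, rfl⟩)
    -- subgroups maximal subject to fixing a vector of average zero
    let Valid : Subgroup Γ → Prop := fun H => H ≤ Q ∧ ∃ v : M, v ≠ 0 ∧ (∀ h ∈ H, h • v = v) ∧ avg Q v = 0
    obtain ⟨H, hH, hmax⟩ : ∃ H, Valid H ∧ ∀ H', Valid H' → H ≤ H' → H' = H := by
      have hv1 : Valid ⊥ := by
        refine ⟨bot_le, ?_⟩
        by_contra hno
        push Not at hno
        apply hne
        intro s _
        refine Subgroup.mem_centralizer_iff.mpr fun x hx => ?_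
        have hx1 : x = 1 := hfaith x hx fun v => by
          by_contra hv
          refine hno (x • v - v) (sub_ne_zero.mpr hv) (fun h hh => by rw [Subgroup.mem_bot.mp hh, one_smul]) ?_
          rw [avg_sub, avg_smul Q hx, sub_self]
        simp [hx1]
      obtain ⟨H, hH, hmax⟩ := (Set.toFinite {H | Valid H}).exists_maximal ⟨⊥, hv1⟩
      exact ⟨H, hH, fun H' h1 h2 => le_antisymm (hmax h1 h2) h2⟩
    -- facts about such subgroups
    have hHne : ∀ H, Valid H → H ≠ Q := by
      rintro H ⟨-, v, hv, hvH, hav⟩ rfl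
      rw [avg_fixed _ hvH] at hav
      exact hv (nsmul_eq_zero_coprime hQM hav)
    have hconjV : ∀ g ∈ Subgroup.normalizer (Q : Set Γ), ∀ H, Valid H →
        Valid (H.map (MulAut.conj g).toMonoidHom) := by
      rintro g hg H ⟨hHQ, v, hv, hvH, hav⟩
      refine ⟨?_, g • v, ?_, ?_, ?_⟩
      · rintro _ ⟨h, hh, rfl⟩
        exact conj_mem hg (hHQ hh)
      · exact fun e => hv (by rw [← one_smul Γ v, ← inv_mul_cancel g, mul_smul, e, smul_zero])
      · rintro _ ⟨h, hh, rfl⟩
        show (g * h * g⁻¹) • g • v = g • v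
        rw [← mul_smul, inv_mul_cancel_right, mul_smul, hvH h hh]
      · rw [avg_conj Q hg, hav, smul_zero]
    have hmaxconj : ∀ g ∈ Subgroup.normalizer (Q : Set Γ), ∀ H, (∀ H', Valid H' → H ≤ H' → H' = H) →
        ∀ H', Valid H' → H.map (MulAut.conj g).toMonoidHom ≤ H' → H' = H.map (MulAut.conj g).toMonoidHom := by
      intro g hg H hmax H' hH' hle
      have h1 := hmax _ (hconjV g⁻¹ (inv_mem hg) H' hH') (fun h hh => ⟨g * h * g⁻¹, hle ⟨h, hh, rfl⟩, by simp [mul_assoc]⟩)
      rw [← h1]
      ext x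
      simp only [Subgroup.mem_map, MulEquiv.coe_toMonoidHom, MulAut.conj_apply]
      refine ⟨fun hx => ⟨g⁻¹ * x * g⁻¹⁻¹, ⟨x, hx, rfl⟩, by group⟩, ?_⟩
      rintro ⟨_, ⟨y, hy, rfl⟩, rfl⟩
      convert hy using 1
      group
    -- `Q / H` is generated by any outside element
    have hgen : ∀ H, Valid H → (∀ H', Valid H' → H ≤ H' → H' = H) → ∀ x ∈ Q, x ∉ H →
        H ⊔ Subgroup.zpowers x = Q := by
      intro H hH hmax x hx hxH
      obtain ⟨hHQ, v, hv, hvH, hav⟩ := hH
      refine le_antisymm (sup_le hHQ (Subgroup.zpowers_le.mpr hx)) fun y hy => ?_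
      by_contra hyH
      have hfx : ∀ (z : Γ), z ∈ Q → z ∉ H → ∀ u : M, (∀ h ∈ H, h • u = u) → avg Q u = 0 →
          avg (Subgroup.zpowers z) u = 0 := by
        intro z hz hzH u hu hau
        by_contra hne0
        have hval : Valid (H ⊔ Subgroup.zpowers z) := by
          refine ⟨sup_le hHQ (Subgroup.zpowers_le.mpr hz), _, hne0, ?_, ?_⟩
          · have : H ⊔ Subgroup.zpowers z ≤ MulAction.stabilizer Γ (avg (Subgroup.zpowers z) u) := by
              refine sup_le (fun h hh => ?_) (Subgroup.zpowers_le.mpr (smul_avg _ (Subgroup.mem_zpowers z) u))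
              rw [MulAction.mem_stabilizer_iff, ← avg_conj _ ?_, hu h hh]
              rw [Subgroup.mem_normalizer_iff]
              intro w
              constructor
              · intro hw
                obtain ⟨k, rfl⟩ := Subgroup.mem_zpowers_iff.mp hw
                rw [((show Commute h z from hQcomm h (hHQ hh) z hz).zpow_right k).eq, mul_inv_cancel_right]
                exact Subgroup.zpow_mem _ (Subgroup.mem_zpowers z) k
              · intro hw
                obtain ⟨k, hk⟩ := Subgroup.mem_zpowers_iff.mp hw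
                have : w = h⁻¹ * z ^ k * h := by rw [hk]; group
                rw [this, mul_assoc, ← ((show Commute h z from hQcomm h (hHQ hh) z hz).zpow_right k).eq, inv_mul_cancel_left]
                exact Subgroup.zpow_mem _ (Subgroup.mem_zpowers z) k
            exact fun h hh => this hh
          · rw [avg_avg_of_le (Subgroup.zpowers_le.mpr hz), hau, smul_zero]
        have := hmax _ hval le_sup_left
        exact hzH (this ▸ Subgroup.mem_sup_right (Subgroup.mem_zpowers z))
      -- the identity over the lines of `⟨x, y⟩`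
      have hxy : ∀ j : ℕ, x ^ j * y ∉ H ⊔ Subgroup.zpowers x := fun j h => hyH (by
        have := mul_mem (inv_mem (pow_mem (Subgroup.mem_sup_right (Subgroup.mem_zpowers x) :
          x ∈ H ⊔ Subgroup.zpowers x) j)) h
        simpa using this)
      have hpow : ∀ z ∈ Q, z ∉ H → ∀ u : M, (∀ h ∈ H, h • u = u) → avg Q u = 0 →
          ∑ i : Fin r, (z ^ (i : ℕ)) • u = 0 := by
        intro z hz hzH u hu hau
        have hz1 : z ≠ 1 := fun e => hzH (e ▸ H.one_mem)
        have hzo : orderOf z = r := orderOf_eq_prime (hQexp z hz) hz1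
        have := Fintype.ofFinite (Subgroup.zpowers z)
        rw [← hfx z hz hzH u hu hau, avg_eq]
        refine Fintype.sum_equiv ((finCongr hzo.symm).trans (finEquivZPowers (isOfFinOrder_of_finite z))) _ _ fun i => ?_
        simp [finEquivZPowers_apply]
      -- sum over the lines through `x ^ j * y`
      have hline' : ∀ j : Fin r, ∑ i : Fin r, (x ^ ((j : ℕ) * (i : ℕ)) * y ^ (i : ℕ)) • v = 0 := by
        intro j
        rw [← hpow (x ^ (j : ℕ) * y) (Q.mul_mem (Q.pow_mem hx _) hy) (fun h => hxy j (Subgroup.mem_sup_left h)) v hvH hav]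
        refine Finset.sum_congr rfl fun i _ => ?_
        rw [(show Commute (x ^ (j : ℕ)) y from hQcomm _ (Q.pow_mem hx _) y hy).mul_pow, ← pow_mul]
      have h0 : ∑ j : Fin r, ∑ i : Fin r, (x ^ ((j : ℕ) * (i : ℕ)) * y ^ (i : ℕ)) • v = 0 :=
        Finset.sum_eq_zero fun j _ => hline' j
      rw [Finset.sum_comm] at h0
      have : NeZero r := ⟨hr.ne_zero⟩
      rw [Finset.sum_eq_single (0 : Fin r)] at h0
      · apply hv
        have : (Nat.card Q).Coprime (Nat.card M) := hQM
        refine nsmul_eq_zero_coprime (M := M) (n := r) ?_ ?_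
        · refine this.coprime_dvd_left ?_
          rw [← orderOf_eq_prime (hQexp x hx) (fun e => hxH (e ▸ H.one_mem))]
          exact Q.orderOf_dvd_natCard hx
        · simpa using h0
      · intro i _ hi
        have hi' : ¬ r ∣ (i : ℕ) := fun hd => by
          have h1 := Nat.le_of_dvd (Nat.pos_of_ne_zero fun h0 => hi (Fin.ext (by simpa using h0))) hd
          have := i.2; omega
        calc ∑ j : Fin r, (x ^ ((j : ℕ) * (i : ℕ)) * y ^ (i : ℕ)) • v
            = ∑ j : Fin r, ((x ^ (i : ℕ)) ^ (j : ℕ)) • (y ^ (i : ℕ)) • v := by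
              refine Finset.sum_congr rfl fun j _ => ?_
              rw [← pow_mul, mul_comm (i : ℕ), mul_smul]
          _ = 0 := by
              refine hpow _ (Q.pow_mem hx _) ?_ _ (fun h hh => ?_) ?_
              · intro h
                obtain ⟨c, hc⟩ := exists_pow_eq_self_of_coprime (x := x) (n := (i : ℕ)) (by
                  rw [orderOf_eq_prime (hQexp x hx) (fun e => hxH (e ▸ H.one_mem))]
                  exact ((hr.coprime_iff_not_dvd).mpr hi').symm)
                exact hxH (hc ▸ H.pow_mem h c)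
              · rw [← mul_smul, hQcomm h (hHQ hh) _ (Q.pow_mem hy _), mul_smul, hvH h hh]
              · rw [avg_smul Q (Q.pow_mem hy _), hav]
      · simp
    -- each admissible subgroup is modulo-centralised by some element of `A`
    have hdich : ∀ H, Valid H → (∀ H', Valid H' → H ≤ H' → H' = H) →
        ∃ a ∈ A, a ≠ 1 ∧ a ∈ modCent Q H (A ⊔ S) hXQ := by
      intro H hH hmax
      by_contra hno
      push Not at hno
      refine hHne H hH (le_antisymm hH.1 (gen_centralizers hAncyc hAQ hAQc fun a ha ha1 x hx hax => ?_))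
      by_contra hxH
      have hgenx := hgen H hH hmax x hx hxH
      have hxs : ∀ u : M, (∀ h ∈ H, h • u = u) → x • u = u → ∀ q ∈ Q, q • u = u := fun u hu hxu q hq => by
        have : Q ≤ MulAction.stabilizer Γ u := hgenx ▸ sup_le hu (Subgroup.zpowers_le.mpr hxu)
        exact this hq
      obtain ⟨hHQ, v, hv, hvH, hav⟩ := hH
      -- either `a` fixes `H` or `x` fixes `v`
      by_cases hfix : ∀ h ∈ H, a * h * a⁻¹ ∈ H
      · refine hno a ha ha1 (mem_modCent.mpr ⟨Subgroup.mem_sup_left ha, fun q hq => ?_⟩)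
        rw [← hgenx, sup_comm] at hq
        obtain ⟨w, hw, z, hz, rfl⟩ := mem_sup_of_le_normalizer (A := Subgroup.zpowers x) (W := H) (fun g hg => by
          obtain ⟨k, rfl⟩ := Subgroup.mem_zpowers_iff.mp hg
          rw [Subgroup.mem_normalizer_iff]
          intro w
          constructor
          · intro hw
            rw [hQcomm _ (Q.zpow_mem hx k) w (hHQ hw), mul_inv_cancel_right]; exact hw
          · intro hw
            have h1 := hQcomm _ (Q.zpow_mem hx k) _ (hHQ hw)
            have : w = x ^ k * w * (x ^ k)⁻¹ := by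
              have h2 := hQcomm ((x ^ k)⁻¹) (Q.inv_mem (Q.zpow_mem hx k)) _ (hHQ hw)
              calc w = (x ^ k)⁻¹ * (x ^ k * w * (x ^ k)⁻¹) * x ^ k := by group
                _ = (x ^ k * w * (x ^ k)⁻¹) * (x ^ k)⁻¹ * x ^ k := by rw [h2]
                _ = _ := by group
            rw [this]; exact hw) (sup_comm H (Subgroup.zpowers x) ▸ hq)
        obtain ⟨k, rfl⟩ := Subgroup.mem_zpowers_iff.mp hz
        have hak : a * x ^ k = x ^ k * a := ((show Commute a x from hax).zpow_right k).eq
        have : a * (w * x ^ k) * a⁻¹ * (w * x ^ k)⁻¹ = (a * w * a⁻¹) * w⁻¹ := by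
          calc a * (w * x ^ k) * a⁻¹ * (w * x ^ k)⁻¹ = a * w * (x ^ k * a⁻¹) * (x ^ k)⁻¹ * w⁻¹ := by group
            _ = a * w * (a⁻¹ * x ^ k) * (x ^ k)⁻¹ * w⁻¹ := by rw [(show Commute a (x ^ k) from hak).inv_left.eq]
            _ = _ := by group
        rw [this]
        exact H.mul_mem (hfix w hw) (H.inv_mem hw)
      · have hxv : x • v = v := by
          have := Fintype.ofFinite (Subgroup.zpowers a)
          have h1 : x • avg (Subgroup.zpowers a) v = avg (Subgroup.zpowers a) v :=
            hnilM a ha ha1 x hx hax _ (smul_avg _ (Subgroup.mem_zpowers a) v)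
          have h2 : avg H (x • avg (Subgroup.zpowers a) v - avg (Subgroup.zpowers a) v) = 0 := by
            rw [h1, sub_self]; simp [avg_fixed H (v := (0 : M)) (fun b _ => smul_zero b)]
          have hxN : x ∈ Subgroup.normalizer (H : Set Γ) := by
            rw [Subgroup.mem_normalizer_iff]
            intro w
            constructor
            · intro hw; rw [hQcomm x hx w (hHQ hw), mul_inv_cancel_right]; exact hw
            · intro hw
              have hwQ : w ∈ Q := by
                have := Q.mul_mem (Q.mul_mem (Q.inv_mem hx) (hHQ hw)) hx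
                simpa [mul_assoc] using this
              rwa [hQcomm x hx w hwQ, mul_inv_cancel_right] at hw
          rw [avg_sub, avg_conj H hxN] at h2
          have hsingle : avg H (avg (Subgroup.zpowers a) v) = Nat.card H • v := by
            rw [avg_eq (Subgroup.zpowers a)]
            have hsum : ∀ (s : Finset (Subgroup.zpowers a)), avg H (∑ g ∈ s, (g : Γ) • v) = ∑ g ∈ s, avg H ((g : Γ) • v) := by
              intro s
              induction s using Finset.induction with
              | empty => simp [avg_fixed H (v := (0 : M)) (fun b _ => smul_zero b)]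
              | insert g s hg ih => rw [Finset.sum_insert hg, Finset.sum_insert hg, avg_add, ih]
            rw [hsum, Finset.sum_eq_single (1 : Subgroup.zpowers a)]
            · rw [OneMemClass.coe_one, one_smul, avg_fixed H hvH]
            · rintro ⟨g, hg⟩ _ hg1
              obtain ⟨k, rfl⟩ := Subgroup.mem_zpowers_iff.mp hg
              have hgQ : a ^ k ∈ Subgroup.normalizer (Q : Set Γ) := hAQ (A.zpow_mem ha k)
              set H' := H.map (MulAut.conj (a ^ k)).toMonoidHom with hH'
              have hV' := hconjV _ hgQ H ⟨hHQ, v, hv, hvH, hav⟩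
              have hne' : H' ≠ H := by
                intro he
                apply hfix
                have hord' : orderOf a = p := hord a ha ha1
                obtain ⟨c, hc⟩ : ∃ c : ℤ, (a ^ k) ^ c = a := by
                  have hk : ¬ (p : ℤ) ∣ k := fun ⟨m, hm⟩ => hg1 (Subtype.ext (show a ^ k = 1 by
                    rw [hm, zpow_mul, zpow_natCast, hAp a ha, one_zpow]))
                  obtain ⟨u, w, huw⟩ : IsCoprime k (p : ℤ) :=
                    ((Nat.prime_iff_prime_int.mp hp).coprime_iff_not_dvd.mpr hk).symm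
                  refine ⟨u, ?_⟩
                  rw [← zpow_mul]
                  conv_rhs => rw [← zpow_one a, ← huw]
                  rw [zpow_add, mul_comm w, zpow_mul a (p : ℤ), zpow_natCast, hAp a ha, one_zpow, mul_one, mul_comm u]
                have hmem : a ^ k ∈ Subgroup.normalizer (H : Set Γ) := by
                  rw [Subgroup.mem_normalizer_iff]
                  intro w
                  constructor
                  · intro hw; exact he.le ⟨w, hw, rfl⟩
                  · intro hw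
                    obtain ⟨w', hw', he'⟩ := he.ge hw
                    have : w' = w := (MulAut.conj (a ^ k)).injective he'
                    exact this ▸ hw'
                exact fun h hh => conj_mem (hc ▸ Subgroup.zpow_mem _ hmem c) hh
              obtain ⟨h, hh, hhH⟩ := SetLike.not_le_iff_exists.mp
                (fun hle => hne' (hmaxconj _ hgQ H hmax _ ⟨hHQ, v, hv, hvH, hav⟩ hle).symm)
              have hhQ : h ∈ Q := hV'.1 hh
              have hu : ∀ w ∈ H', w • (a ^ k) • v = (a ^ k) • v := by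
                rintro _ ⟨w, hw, rfl⟩
                show (a ^ k * w * (a ^ k)⁻¹) • (a ^ k) • v = (a ^ k) • v
                rw [← mul_smul, inv_mul_cancel_right, mul_smul, hvH w hw]
              have havu : avg Q ((a ^ k) • v) = 0 := by rw [avg_conj Q hgQ, hav, smul_zero]
              have hgenh := hgen H ⟨hHQ, v, hv, hvH, hav⟩ hmax h hhQ hhH
              have hhN : h ∈ Subgroup.normalizer (H : Set Γ) := by
                rw [Subgroup.mem_normalizer_iff]
                intro w
                constructor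
                · intro hw; rw [hQcomm h hhQ w (hHQ hw), mul_inv_cancel_right]; exact hw
                · intro hw
                  have hwQ : w ∈ Q := by
                    have := Q.mul_mem (Q.mul_mem (Q.inv_mem hhQ) (hHQ hw)) hhQ
                    simpa [mul_assoc] using this
                  rwa [hQcomm h hhQ w hwQ, mul_inv_cancel_right] at hw
              have hfixQ : ∀ q ∈ Q, q • avg H ((a ^ k) • v) = avg H ((a ^ k) • v) := fun q hq => by
                have : Q ≤ MulAction.stabilizer Γ (avg H ((a ^ k) • v)) := by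
                  rw [← hgenh]
                  refine sup_le (fun w hw => smul_avg H hw _) (Subgroup.zpowers_le.mpr ?_)
                  rw [MulAction.mem_stabilizer_iff, ← avg_conj H hhN, hu h hh]
                exact this hq
              refine nsmul_eq_zero_coprime hQM ?_
              rw [← avg_fixed Q hfixQ, avg_avg_of_le hHQ, havu, smul_zero]
            · simp
          rw [hsingle, smul_comm x, ← nsmul_sub] at h2
          exact sub_eq_zero.mp (nsmul_eq_zero_coprime (hQM.coprime_dvd_left (Subgroup.card_dvd_of_le hHQ)) h2)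
        have h1 := hxs v hvH hxv
        rw [avg_fixed _ h1] at hav
        exact hv (nsmul_eq_zero_coprime hQM hav)
    -- `a₀` is not one of them
    have hno0 : ∀ H, Valid H → a₀ ∉ modCent Q H (A ⊔ S) hXQ := by
      intro H hH h
      apply hHne H hH
      refine le_antisymm hH.1 ?_
      let d : Q → Q := fun x => ⟨a₀ * x * a₀⁻¹ * (x : Γ)⁻¹, Q.mul_mem (conj_mem (hAQ ha₀) x.2) (Q.inv_mem x.2)⟩
      have hinj : Function.Injective d := fun x y hxy => by
        have hxy' : a₀ * (x : Γ) * a₀⁻¹ * (x : Γ)⁻¹ = a₀ * y * a₀⁻¹ * (y : Γ)⁻¹ := congrArg Subtype.val hxy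
        have h1 : (y : Γ)⁻¹ * x ∈ Q := Q.mul_mem (Q.inv_mem y.2) x.2
        have h2 : a₀ * ((y : Γ)⁻¹ * x) = ((y : Γ)⁻¹ * x) * a₀ := by
          have hc := hQcomm _ (conj_mem (hAQ ha₀) (Q.inv_mem y.2)) _ (Q.mul_mem (conj_mem (hAQ ha₀) x.2) (Q.inv_mem x.2))
          rw [mul_inv_eq_iff_eq_mul.symm.trans Iff.rfl] 
          calc a₀ * ((y : Γ)⁻¹ * x) * a₀⁻¹
              = (a₀ * (y : Γ)⁻¹ * a₀⁻¹) * ((a₀ * x * a₀⁻¹) * (x : Γ)⁻¹) * x := by group
            _ = ((a₀ * x * a₀⁻¹) * (x : Γ)⁻¹) * (a₀ * (y : Γ)⁻¹ * a₀⁻¹) * x := by rw [hc]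
            _ = (a₀ * y * a₀⁻¹ * (y : Γ)⁻¹) * (a₀ * (y : Γ)⁻¹ * a₀⁻¹) * x := by rw [hxy']
            _ = (a₀ * y * a₀⁻¹) * ((y : Γ)⁻¹ * (a₀ * (y : Γ)⁻¹ * a₀⁻¹)) * x := by group
            _ = (a₀ * y * a₀⁻¹) * ((a₀ * (y : Γ)⁻¹ * a₀⁻¹) * (y : Γ)⁻¹) * x := by
              rw [hQcomm _ (Q.inv_mem y.2) _ (conj_mem (hAQ ha₀) (Q.inv_mem y.2))]
            _ = _ := by group
        have h3 := hQ0 _ h1 h2
        rw [hZ1, Subgroup.mem_bot, inv_mul_eq_one] at h3
        exact Subtype.ext h3.symm
      intro y hy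
      obtain ⟨x, hx⟩ := (Finite.injective_iff_surjective.mp hinj) ⟨y, hy⟩
      have := congrArg Subtype.val hx
      rw [← show (d x : Γ) = y from this]
      exact (mem_modCent.mp h).2 x x.2
    obtain ⟨a₁, ha₁, ha₁1, ha₁H⟩ := hdich H hH hmax
    have ha₁0 : a₁ ∉ Subgroup.zpowers a₀ := fun h => by
      obtain ⟨k, hk⟩ := Subgroup.mem_zpowers_iff.mp h
      have : a₀ ∈ Subgroup.zpowers a₁ := by
        have := Subgroup.eq_of_le_of_card_ge (Subgroup.zpowers_le.mpr h)
          (by rw [Nat.card_zpowers, Nat.card_zpowers, hord a₀ ha₀ ha₀1, hord a₁ ha₁ ha₁1])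
        exact this ▸ Subgroup.mem_zpowers a₀
      exact hno0 H hH (Subgroup.zpowers_le.mpr ha₁H this)
    have hconj : ∀ s ∈ S, s * a₁ * s⁻¹ ∈ modCent Q H (A ⊔ S) hXQ := by
      intro s hs
      have hsN : s⁻¹ ∈ Subgroup.normalizer (Q : Set Γ) := inv_mem (hSQ hs)
      obtain ⟨a, ha, ha1, haH⟩ := hdich _ (hconjV _ hsN H hH) (hmaxconj _ hsN H hmax)
      have hsa : s * a * s⁻¹ ∈ modCent Q H (A ⊔ S) hXQ := by
        obtain ⟨-, hm⟩ := mem_modCent.mp haH
        refine mem_modCent.mpr ⟨mul_mem (mul_mem (Subgroup.mem_sup_right hs) (Subgroup.mem_sup_left ha))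
          (inv_mem (Subgroup.mem_sup_right hs)), fun x hx => ?_⟩
        obtain ⟨h, hh, he⟩ := hm _ (conj_mem_inv (hSQ hs) hx)
        have he' : s⁻¹ * h * s⁻¹⁻¹ = a * (s⁻¹ * x * s) * a⁻¹ * (s⁻¹ * x * s)⁻¹ := he
        have e : s * a * s⁻¹ * x * (s * a * s⁻¹)⁻¹ * x⁻¹ = h := by
          calc s * a * s⁻¹ * x * (s * a * s⁻¹)⁻¹ * x⁻¹ = s * (a * (s⁻¹ * x * s) * a⁻¹ * (s⁻¹ * x * s)⁻¹) * s⁻¹ := by group
            _ = h := by rw [← he']; group
        rw [e]; exact hh
      by_cases haa : a ∈ Subgroup.zpowers a₁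
      · have : a₁ ∈ Subgroup.zpowers a := by
          have := Subgroup.eq_of_le_of_card_ge (Subgroup.zpowers_le.mpr haa)
            (by rw [Nat.card_zpowers, Nat.card_zpowers, hord a ha ha1, hord a₁ ha₁ ha₁1])
          exact this ▸ Subgroup.mem_zpowers a₁
        obtain ⟨k, rfl⟩ := Subgroup.mem_zpowers_iff.mp this
        rw [← conj_zpow]
        exact zpow_mem hsa k
      · exfalso
        obtain ⟨i, j, hij⟩ := hspan a₁ ha₁ a ha ha₁1 haa a₀ ha₀
        set u := (a ^ j)⁻¹ * (s * a ^ j * s⁻¹) with hu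
        have huS : u ∈ S := by
          rw [hu, show (a ^ j)⁻¹ * (s * a ^ j * s⁻¹) = ((a ^ j)⁻¹ * s * (a ^ j)⁻¹⁻¹) * s⁻¹ by group]
          exact S.mul_mem (conj_mem (hAS (A.inv_mem (A.pow_mem ha j))) hs) (S.inv_mem hs)
        have hg : a₀ * u ∈ modCent Q H (A ⊔ S) hXQ := by
          rw [hu, hij, mul_assoc, mul_inv_cancel_left]
          refine mul_mem (pow_mem ha₁H i) ?_
          rw [← conj_pow]
          exact pow_mem hsa j
        have hcu : Commute a₀ u := ha₀S u huS
        have hcop : (orderOf u).Coprime p := by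
          have := hASc.symm.coprime_dvd_left (S.orderOf_dvd_natCard huS)
          rw [hAc] at this
          exact (Nat.coprime_pow_right_iff (by norm_num) _ _).mp this
        refine hno0 H hH ?_
        have h1 : a₀ ^ orderOf u ∈ modCent Q H (A ⊔ S) hXQ := by
          have := pow_mem hg (orderOf u)
          rwa [hcu.mul_pow, pow_orderOf_eq_one, mul_one] at this
        obtain ⟨c, hc⟩ := exists_pow_eq_self_of_coprime (x := a₀) (n := orderOf u) (by rw [hord a₀ ha₀ ha₀1]; exact hcop)
        exact hc ▸ pow_mem h1 c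
    have hSall := hline a₁ ha₁ ha₁0 H hconj
    apply hHne H hH
    refine le_antisymm hH.1 ?_
    rw [← hQS, Subgroup.commutator_le]
    intro x hx s hs
    have := H.inv_mem ((mem_modCent.mp (hSall s hs)).2 x hx)
    simpa [commutatorElement_def, mul_assoc] using this
  · -- `Z` is nontrivial
    obtain ⟨b, hb, hbZ, x, hxQ, hxZ, hbx⟩ : ∃ b ∈ A, (∃ z ∈ Z, b * z ≠ z * b) ∧
        ∃ x ∈ Q, x ∉ Z ∧ b * x = x * b := by
      by_contra hno
      push Not at hno
      have hgood : ∃ b ∈ A, b ≠ 1 ∧ ∃ x ∈ Q, x ∉ Z ∧ b * x = x * b := by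
        by_contra h
        push Not at h
        exact hZne (le_antisymm inf_le_left (gen_centralizers hAncyc hAQ hAQc fun a ha ha1 x hx hax => by
          by_contra hxZ
          exact h a ha ha1 x hx hxZ hax))
      obtain ⟨b, hb, hb1, x, hx, hxZ, hbx⟩ := hgood
      have hbz : ∀ z ∈ Z, b * z = z * b := fun z hz => by
        by_contra hc
        exact hno b hb ⟨z, hz, hc⟩ x hx hxZ hbx
      have hb0 : b ∉ Subgroup.zpowers a₀ := by
        intro h
        obtain ⟨k, rfl⟩ := Subgroup.mem_zpowers_iff.mp h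
        refine hxZ (hQ0 x hx ?_)
        have h0 : a₀ ∈ Subgroup.zpowers (a₀ ^ k) := by
          have := Subgroup.eq_of_le_of_card_ge (Subgroup.zpowers_le.mpr h)
            (by rw [Nat.card_zpowers, Nat.card_zpowers, hord a₀ ha₀ ha₀1, hord _ hb hb1])
          exact this ▸ Subgroup.mem_zpowers a₀
        obtain ⟨m, hm⟩ := Subgroup.mem_zpowers_iff.mp h0
        rw [← hm]
        exact ((show Commute (a₀ ^ k) x from hbx).zpow_left m).eq
      -- every fixed element outside `Z` belongs to the line of `b`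
      have hall : ∀ a ∈ A, a ≠ 1 → ∀ y ∈ Q, a * y = y * a → y ∉ Z → a ∈ Subgroup.zpowers b := by
        intro a ha ha1 y hy hay hyZ
        by_contra hab
        apply hZ1
        rw [eq_bot_iff]
        intro z hz
        have haz : a * z = z * a := by
          by_contra hc
          exact hno a ha ⟨z, hz, hc⟩ y hy hyZ hay
        exact Subgroup.mem_bot.mpr (hfpfQ z hz.1 (hfix_span b hb a ha hb1 hab z (hbz z hz) haz))
      have hbmem : b ∈ modCent Q Z (A ⊔ S) hXQ := by
        refine mem_modCent.mpr ⟨Subgroup.mem_sup_left hb, ?_⟩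
        let D : Subgroup Γ := Z ⊔ (Q ⊓ Subgroup.centralizer ({b} : Set Γ))
        have hD : Q ≤ D := gen_centralizers hAncyc hAQ hAQc fun a ha ha1 y hy hay => by
          by_cases hyZ : y ∈ Z
          · exact Subgroup.mem_sup_left hyZ
          · refine Subgroup.mem_sup_right ⟨hy, Subgroup.mem_centralizer_singleton_iff.mpr ?_⟩
            have hba := hall a ha ha1 y hy hay hyZ
            have : b ∈ Subgroup.zpowers a := by
              have := Subgroup.eq_of_le_of_card_ge (Subgroup.zpowers_le.mpr hba)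
                (by rw [Nat.card_zpowers, Nat.card_zpowers, hord a ha ha1, hord b hb hb1])
              exact this ▸ Subgroup.mem_zpowers b
            obtain ⟨m, rfl⟩ := Subgroup.mem_zpowers_iff.mp this
            exact ((show Commute a y from hay).zpow_left m).eq.symm
        intro y hy
        obtain ⟨z, hz, c, hc, rfl⟩ := mem_sup_of_le_normalizer (A := Q ⊓ Subgroup.centralizer ({b} : Set Γ)) (W := Z)
          (fun g hg => by
            rw [Subgroup.mem_normalizer_iff]
            intro w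
            constructor
            · intro hw; rw [← hZc w hw g hg.1, mul_inv_cancel_right]; exact hw
            · intro hw
              have h1 := hZc _ hw g⁻¹ (Q.inv_mem hg.1)
              have : w = g * w * g⁻¹ := by
                calc w = g⁻¹ * (g * w * g⁻¹) * g := by group
                  _ = (g * w * g⁻¹) * g⁻¹ * g := by rw [h1]
                  _ = _ := by group
              rw [this]; exact hw) (hD hy)
        have hcb : Commute b c := (Subgroup.mem_centralizer_singleton_iff.mp hc.2).symm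
        have : b * (z * c) * b⁻¹ * (z * c)⁻¹ = (b * z * b⁻¹) * z⁻¹ := by
          calc b * (z * c) * b⁻¹ * (z * c)⁻¹ = b * z * (c * b⁻¹) * c⁻¹ * z⁻¹ := by group
            _ = b * z * (b⁻¹ * c) * c⁻¹ * z⁻¹ := by rw [hcb.inv_left.eq]
            _ = _ := by group
        rw [this]
        exact Z.mul_mem (conj_mem (hAZ hb) hz) (Z.inv_mem hz)
      refine hnotZ fun s hs => (mem_modCent.mp (hline b hb hb0 Z ?_ s hs)).2
      intro s hs
      obtain ⟨-, hm⟩ := mem_modCent.mp hbmem
      refine mem_modCent.mpr ⟨mul_mem (mul_mem (Subgroup.mem_sup_right hs) (Subgroup.mem_sup_left hb))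
        (inv_mem (Subgroup.mem_sup_right hs)), fun y hy => ?_⟩
      have h1 := hm _ (conj_mem_inv (hSQ hs) hy)
      convert h1 using 1
      calc s * b * s⁻¹ * y * (s * b * s⁻¹)⁻¹ * y⁻¹ = s * (b * (s⁻¹ * y * s) * b⁻¹ * (s⁻¹ * y * s)⁻¹) * s⁻¹ := by group
        _ = _ := by rw [hSZ s hs _ h1, mul_inv_cancel_right]
    obtain ⟨z₀, hz₀, hbz₀⟩ := hbZ
    have hb1 : b ≠ 1 := fun e => hbz₀ (by simp [e])
    set Z' := ⁅Z, Subgroup.zpowers b⁆ with hZ'
    have hbnZ : Subgroup.zpowers b ≤ Subgroup.normalizer (Z : Set Γ) := Subgroup.zpowers_le.mpr (hAZ hb)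
    have hZ'Z : Z' ≤ Z := commutator_le_of_le_normalizer hbnZ
    have : IsMulCommutative Z := ⟨⟨fun u w => Subtype.ext (hZc u u.2 w w.2.1)⟩⟩
    have hcopZ : (Nat.card (Subgroup.zpowers b)).Coprime (Nat.card Z) := by
      rw [Nat.card_zpowers]
      exact (hcopEl b hb Q hAQc).coprime_dvd_right (Subgroup.card_dvd_of_le inf_le_left)
    have hfpf : ∀ z ∈ Z', b * z * b⁻¹ = z → z = 1 := fun z hz h =>
      Subgroup.mem_bot.mp ((coprime_abelian_disjoint (Subgroup.zpowers b) Z hbnZ hcopZ).le
        ⟨⟨hZ'Z hz, Subgroup.mem_centralizer_iff.mpr fun g hg => by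
          obtain ⟨k, rfl⟩ := Subgroup.mem_zpowers_iff.mp hg
          exact ((show Commute b z from mul_inv_eq_iff_eq_mul.mp h).zpow_left k).eq⟩, hz⟩)
    have hbN : b ∈ Subgroup.normalizer (Z' : Set Γ) :=
      right_le_normalizer_commutator (Subgroup.zpowers b) Z (Subgroup.mem_zpowers b)
    have hZ'cop : (Nat.card Z').Coprime (Nat.card M) :=
      hQM.coprime_dvd_left (Subgroup.card_dvd_of_le (hZ'Z.trans inf_le_left))
    -- the kernel on the vectors of average zero
    let K : Subgroup Γ := Q ⊓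
      { carrier := {g | g ∈ Subgroup.normalizer (Z' : Set Γ) ∧ ∀ v : M, avg Z' v = 0 → g • v = v}
        one_mem' := ⟨Subgroup.one_mem _, fun v _ => one_smul Γ v⟩
        mul_mem' := fun {g h} hg hh => ⟨mul_mem hg.1 hh.1, fun v hv => by rw [mul_smul, hh.2 v hv, hg.2 v hv]⟩
        inv_mem' := fun {g} hg => ⟨inv_mem hg.1, fun v hv => inv_smul_eq_iff.mpr (hg.2 v hv).symm⟩ }
    have hcent : ∀ g : Γ, (∀ z ∈ Z', g * z = z * g) → g ∈ Subgroup.normalizer (Z' : Set Γ) := by
      intro g hg
      rw [Subgroup.mem_normalizer_iff]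
      intro w
      constructor
      · intro hw; rw [hg w hw, mul_inv_cancel_right]; exact hw
      · intro hw
        have h1 := hg _ hw
        have : w = g * w * g⁻¹ := by
          calc w = g⁻¹ * (g * w * g⁻¹ * g) := by group
            _ = g⁻¹ * (g * (g * w * g⁻¹)) := by rw [h1]
            _ = _ := by group
        rw [this]; exact hw
    have hQZ' : ∀ g ∈ Q, g ∈ Subgroup.normalizer (Z' : Set Γ) :=
      fun g hg => hcent g fun z hz => (hZc z (hZ'Z hz) g hg).symm
    have hSZ' : ∀ g ∈ S, g ∈ Subgroup.normalizer (Z' : Set Γ) :=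
      fun g hg => hcent g fun z hz => hSZ g hg z (hZ'Z hz)
    have hxK : x ∈ K := ⟨hxQ, hQZ' x hxQ, fun v hv =>
      smul_eq_of_span Z' hp (hord b hb hb1) hbN hfpf hZ'cop (fun z hz => (hZc z (hZ'Z hz) x hxQ).symm)
        (fun w hw => hnilM b hb hb1 x hxQ hbx w hw) hv⟩
    have hAZ' : A ≤ Subgroup.normalizer (Z' : Set Γ) := by
      have key : ∀ a ∈ A, ∀ y ∈ Z', a * y * a⁻¹ ∈ Z' := by
        intro a ha y hy
        have hle : Z' ≤ Z'.comap (MulAut.conj a).toMonoidHom := by
          rw [hZ', Subgroup.commutator_le]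
          intro q hq g hg
          rw [Subgroup.mem_comap, map_commutatorElement]
          refine Subgroup.commutator_mem_commutator (conj_mem (hAZ ha) hq) ?_
          obtain ⟨k, rfl⟩ := Subgroup.mem_zpowers_iff.mp hg
          show a * b ^ k * a⁻¹ ∈ Subgroup.zpowers b
          rw [hcomm a ha _ (A.zpow_mem hb k), mul_inv_cancel_right]
          exact Subgroup.zpow_mem _ (Subgroup.mem_zpowers b) k
        exact hle hy
      intro a ha
      rw [Subgroup.mem_normalizer_iff]
      exact fun y => ⟨key a ha y, fun h => by simpa [mul_assoc] using key a⁻¹ (A.inv_mem ha) _ h⟩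
    have hnormK : ∀ T : Subgroup Γ, T ≤ Subgroup.normalizer (Q : Set Γ) → T ≤ Subgroup.normalizer (Z' : Set Γ) →
        T ≤ Subgroup.normalizer (K : Set Γ) := by
      intro T hTQ hTZ g hg
      have key : ∀ g ∈ T, ∀ y ∈ K, g * y * g⁻¹ ∈ K := by
        intro g hg y hy
        refine ⟨conj_mem (hTQ hg) hy.1, mul_mem (mul_mem (hTZ hg) hy.2.1) (inv_mem (hTZ hg)), fun v hv => ?_⟩
        rw [mul_smul, mul_smul, hy.2.2 _ (by rw [avg_conj Z' (inv_mem (hTZ hg)), hv, smul_zero]), smul_inv_smul]
      rw [Subgroup.mem_normalizer_iff]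
      exact fun y => ⟨key g hg y, fun h => by simpa [mul_assoc] using key g⁻¹ (T.inv_mem hg) _ h⟩
    have hKne : K ≠ Q := by
      intro he
      apply hbz₀
      have hd : b * z₀ * b⁻¹ * z₀⁻¹ ∈ Z' := by
        have := Subgroup.commutator_mem_commutator hz₀ (Subgroup.mem_zpowers b)
        have := Z'.inv_mem this
        simpa [commutatorElement_def, mul_assoc] using this
      have h1 : b * z₀ * b⁻¹ * z₀⁻¹ = 1 := by
        refine hfaith _ (hZ'Z hd).1 fun v => ?_
        have h2 := (he.ge (hZ'Z hd).1).2.2 (Nat.card Z' • v - avg Z' v) ?_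
        · have h3 : (b * z₀ * b⁻¹ * z₀⁻¹) • avg Z' v = avg Z' v := smul_avg _ hd v
          rw [smul_sub, h3, sub_left_inj, smul_comm] at h2
          refine sub_eq_zero.mp (nsmul_eq_zero_coprime hZ'cop ?_)
          rw [nsmul_sub, h2, sub_self]
        · have := Fintype.ofFinite Z'
          rw [avg_sub, avg_avg_of_le le_rfl, sub_eq_zero, avg_eq, avg_eq, Finset.smul_sum]
          exact Finset.sum_congr rfl fun g _ => smul_comm _ _ _
      rwa [mul_inv_eq_one, mul_inv_eq_iff_eq_mul] at h1
    exact hxZ ⟨hxQ, hQmin K inf_le_left (hnormK S hSQ hSZ') (hnormK A hAQ hAZ') hKne hxK⟩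

end CfsgLib.FittingHeight
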