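/-
Fixed points of an operator of prime order on modules and abelian sections on which it moves a coprime group.
-/
import Mathlib
import Cfsg.Agent.Lib.FittingHeight.Dual
import Cfsg.Agent.Lib.FittingHeight.Ward

set_option autoImplicit false

open scoped IsMulCommutative commutatorElement
open Finset

namespace CfsgLib.FittingHeight

universe u v

variable {Γ : Type u} [Group Γ] [Finite Γ]

theorem exists_fixed {M : Type v} [AddCommGroup M] [Finite M] [DistribMulAction Γ M] (S : Subgroup Γ) {b : Γ}
    {p : ℕ} (hp : p.Prime) (hb : orderOf b = p) (hbS : b ∈ Subgroup.normalizer (S : Set Γ))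
    (hfpf : ∀ s ∈ S, b * s * b⁻¹ = s → s = 1) (hcop : (Nat.card S).Coprime (Nat.card M))
    (hS : ∀ v : M, avg S v = 0) (hne : ∃ v : M, v ≠ 0) : ∃ v : M, v ≠ 0 ∧ b • v = v := by
  by_contra hno
  push Not at hno
  have := Fintype.ofFinite S
  obtain ⟨v, hv⟩ := hne
  apply hv
  refine nsmul_eq_zero_coprime hcop ?_
  rw [card_smul_eq S hp hb hbS hfpf (hS v)]
  refine Finset.sum_eq_zero fun z _ => ?_
  rw [show avg (Subgroup.zpowers b) ((z : Γ)⁻¹ • v) = 0 from
    by_contra fun h => hno _ h (smul_avg _ (Subgroup.mem_zpowers b) _), smul_zero]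

theorem finrank_dual (r : ℕ) [Fact r.Prime] (M : Type v) [AddCommGroup M] [Finite M] (K : Type*) [Field K]
    [CharP K r] (hM : ∀ m : M, r • m = 0) : Nat.card M = r ^ Module.finrank K (Dual M K) := by
  classical
  have inst : Module (ZMod r) M := AddCommGroup.zmodModule hM
  letI : Algebra (ZMod r) K := ZMod.algebra K r
  have : Module.Finite (ZMod r) M := Module.Finite.of_finite
  let e : Dual M K ≃ₗ[K] (M →ₗ[ZMod r] K) :=
    { toFun := fun f => (f : M →+ K).toZModLinearMap r
      invFun := fun g => (g.toAddMonoidHom : M →+ K)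
      map_add' := fun f g => LinearMap.ext fun m => rfl
      map_smul' := fun c f => LinearMap.ext fun m => rfl
      left_inv := fun f => Dual.ext fun m => rfl
      right_inv := fun g => LinearMap.ext fun m => rfl }
  have b := Module.finBasis (ZMod r) M
  rw [e.finrank_eq, ← (b.constr K).finrank_eq, Module.finrank_fintype_fun_eq_card, Fintype.card_fin,
    Module.natCard_eq_pow_finrank (K := ZMod r), Nat.card_zmod]

/-- The fixed space of `b` is small. -/
theorem card_fixed_pow {M : Type v} [AddCommGroup M] [Finite M] [DistribMulAction Γ M] (E : Subgroup Γ)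
    [IsMulCommutative E] {b : Γ} {p r : ℕ} (hp : p.Prime) [Fact r.Prime] (hM : ∀ m : M, r • m = 0)
    (hb : orderOf b = p) (hpr : p ≠ r) (hbE : b ∈ Subgroup.normalizer (E : Set Γ))
    (hfpf : ∀ s ∈ E, b * s * b⁻¹ = s → s = 1) (hcop : ¬ r ∣ Nat.card E) (hS : ∀ v : M, avg E v = 0) :
    Nat.card {v : M // b • v = v} ^ p ≤ Nat.card M := by
  classical
  let K := AlgebraicClosure (ZMod r)
  have : CharP K r := charP_of_injective_algebraMap' (ZMod r) r
  have := Fintype.ofFinite E
  have hX : ((Fintype.card E : ℕ) : K) ≠ 0 := by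
    rw [Ne, CharP.cast_eq_zero_iff K r, ← Nat.card_eq_fintype_card]; exact hcop
  have : NeZero ((Monoid.exponent E : ℕ) : K) := ⟨fun h => hcop (by
    rw [CharP.cast_eq_zero_iff K r] at h
    exact h.trans (Monoid.exponent_dvd_of_forall_pow_eq_one fun g => pow_card_eq_one'))⟩
  have := Fintype.ofFinite (E →* Kˣ)
  let β : Dual M K ≃ₗ[K] Dual M K := DistribMulAction.toLinearEquiv K (Dual M K) b
  let γ : MulAut E :=
    { toFun := fun e => ⟨b * e * b⁻¹, (Subgroup.mem_normalizer_iff.mp hbE _).mp e.2⟩
      invFun := fun e => ⟨b⁻¹ * e * b, by simpa using (Subgroup.mem_normalizer_iff.mp (inv_mem hbE) _).mp e.2⟩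
      left_inv := fun e => Subtype.ext (by simp [mul_assoc])
      right_inv := fun e => Subtype.ext (by simp [mul_assoc])
      map_mul' := fun x y => Subtype.ext (by simp [mul_assoc]) }
  have hγn : ∀ (n : ℕ) (e : E), ((γ ^ n) e : Γ) = b ^ n * e * (b ^ n)⁻¹ := by
    intro n e
    induction n with
    | zero => simp
    | succ n ih =>
      rw [pow_succ', MulAut.mul_apply]
      show b * (((γ ^ n) e : E) : Γ) * b⁻¹ = _
      rw [ih, pow_succ']; group
  have hγ : γ ^ p = 1 := MulEquiv.ext fun e => Subtype.ext (by rw [hγn, ← hb, pow_orderOf_eq_one]; simp)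
  have hcompat : ∀ (e : E) (f : Dual M K), β (opHom (K := K) E (Dual M K) e f) = opHom (K := K) E (Dual M K) (γ e) (β f) := by
    intro e f
    show b • (e : Γ) • f = (b * e * b⁻¹) • b • f
    rw [← mul_smul, ← mul_smul, inv_mul_cancel_right]
  have h1 := Grading.fixed_finrank_le hX (opHom (K := K) E (Dual M K)) β γ hp hγ hcompat
  rw [Finset.sum_eq_zero (fun χ _ => ?_), mul_zero, add_zero] at h1
  swap
  · split_ifs with h
    · have hχ : χ = 1 := by
        refine MonoidHom.ext fun e => ?_
        let d : E → E := fun e => γ e * e⁻¹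
        have hd : Function.Injective d := fun x y hxy => by
          have h2 : γ (y⁻¹ * x) = y⁻¹ * x := by
            have hxy' : γ x * x⁻¹ = γ y * y⁻¹ := hxy
            rw [map_mul, map_inv, mul_inv_eq_iff_eq_mul.mp hxy']
            group
          exact (inv_mul_eq_one.mp (Subtype.ext (hfpf _ (y⁻¹ * x).2 (congrArg Subtype.val h2)))).symm
        obtain ⟨x, rfl⟩ := (Finite.injective_iff_surjective.mp hd) e
        rw [map_mul, h, ← map_mul, mul_inv_cancel, map_one, MonoidHom.one_apply]
      rw [hχ, (Submodule.eq_bot_iff (Grading.weight (opHom (K := K) E (Dual M K)) 1)).mpr fun f hf => ?_, finrank_bot]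
      have h2 : avg E f = Nat.card E • f := avg_fixed E fun e he => by
        have := hf ⟨e, he⟩
        simpa [opHom] using this
      rw [Dual.avg_eq_zero E (fun m hm => ?_)] at h2
      · rw [← Nat.cast_smul_eq_nsmul K, Nat.card_eq_fintype_card] at h2
        exact (smul_eq_zero.mp h2.symm).resolve_left hX
      · have h3 := hS m
        rw [avg_fixed E hm] at h3
        refine nsmul_eq_zero_coprime (n := Nat.card E) ?_ h3
        obtain ⟨k, hk⟩ := IsPGroup.iff_card.mp (show IsPGroup r (Multiplicative M) from fun m => ⟨1, by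
          rw [pow_one]; exact Multiplicative.toAdd.injective (by simpa using hM m.toAdd)⟩)
        rw [Nat.card_congr Multiplicative.toAdd] at hk
        rw [hk]
        exact (((Fact.out : r.Prime).coprime_iff_not_dvd.mpr hcop).symm).pow_right k
    · rfl
  -- the dual of the fixed points embeds in the fixed points of the dual
  let Fx : AddSubgroup M :=
    { carrier := {v | b • v = v}
      zero_mem' := smul_zero b
      add_mem' := fun {u v} hu hv => by show b • (u + v) = u + v; rw [smul_add, show b • u = u from hu, show b • v = v from hv]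
      neg_mem' := fun {u} hu => by show b • (-u) = -u; rw [smul_neg, show b • u = u from hu] }
  let nb : M →+ Fx :=
    { toFun := fun m => ⟨avg (Subgroup.zpowers b) m, smul_avg _ (Subgroup.mem_zpowers b) m⟩
      map_zero' := Subtype.ext (by
        show avg (Subgroup.zpowers b) (0 : M) = 0
        rw [avg_fixed _ (fun g _ => smul_zero g), smul_zero])
      map_add' := fun u v => Subtype.ext (avg_add _ u v) }
  have hnb : Function.Surjective nb := fun v => by
    have hv : ∀ g ∈ Subgroup.zpowers b, g • (v : M) = v := fun g hg =>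
      Subgroup.zpowers_le.mpr (show b ∈ MulAction.stabilizer Γ (v : M) from v.2) hg
    obtain ⟨c, hc⟩ : ∃ c : ℕ, (c : ZMod r) = (p : ZMod r)⁻¹ := ⟨_, ZMod.natCast_zmod_val _⟩
    refine ⟨c • (v : M), Subtype.ext ?_⟩
    show avg (Subgroup.zpowers b) (c • (v : M)) = v
    have inst : Module (ZMod r) M := AddCommGroup.zmodModule hM
    rw [avg_fixed _ (fun g hg => by rw [smul_comm, hv g hg]), Nat.card_zpowers, hb, smul_smul,
      ← Nat.cast_smul_eq_nsmul (ZMod r), Nat.cast_mul, hc, mul_inv_cancel₀ (fun h => hpr
        ((Nat.prime_dvd_prime_iff_eq Fact.out hp).mp ((ZMod.natCast_eq_zero_iff _ _).mp h)).symm), one_smul]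
  let L : Dual Fx K →ₗ[K] (LinearMap.eqLocus β.toLinearMap LinearMap.id) :=
    { toFun := fun h => ⟨((h : Fx →+ K).comp nb : M →+ K), by
        refine Dual.ext fun m => ?_
        show (h : Fx →+ K) (nb (b⁻¹ • m)) = (h : Fx →+ K) (nb m)
        congr 1
        exact Subtype.ext (avg_smul _ (inv_mem (Subgroup.mem_zpowers b)) m)⟩
      map_add' := fun f g => Subtype.ext rfl
      map_smul' := fun c f => Subtype.ext rfl }
  have hL : Function.Injective L := fun f g h => Dual.ext fun v => by
    obtain ⟨m, rfl⟩ := hnb v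
    exact congrArg (fun w : Dual M K => w m) (congrArg Subtype.val h)
  have h2 := LinearMap.finrank_le_finrank_of_injective hL
  calc Nat.card {v : M // b • v = v} ^ p = (r ^ Module.finrank K (Dual Fx K)) ^ p := by
        rw [← finrank_dual r Fx K (fun m => Subtype.ext (hM m))]; rfl
    _ = r ^ (p * Module.finrank K (Dual Fx K)) := by rw [← pow_mul, mul_comm]
    _ ≤ r ^ Module.finrank K (Dual M K) :=
        Nat.pow_le_pow_right (Fact.out : r.Prime).pos ((Nat.mul_le_mul_left p h2).trans h1)
    _ = Nat.card M := (finrank_dual r M K hM).symm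

end CfsgLib.FittingHeight
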