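/-
Operator groups on abelian sections.
-/
import Mathlib
import Cfsg.Agent.Lib.FittingHeight.Count

set_option autoImplicit false

open scoped commutatorElement IsMulCommutative
open Finset

namespace CfsgLib.FittingHeight

universe u

variable {Γ : Type u} [Group Γ]

/-- Conjugation on a section. -/
noncomputable def sectAct (Q R : Subgroup Γ) [hR : (R.subgroupOf Q).Normal] :
    (Subgroup.normalizer (Q : Set Γ) ⊓ Subgroup.normalizer (R : Set Γ) : Subgroup Γ) →* MulAut (Q ⧸ R.subgroupOf Q) :=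
  let f : (Subgroup.normalizer (Q : Set Γ) ⊓ Subgroup.normalizer (R : Set Γ) : Subgroup Γ) →
      (Q ⧸ R.subgroupOf Q →* Q ⧸ R.subgroupOf Q) := fun g =>
    QuotientGroup.map _ _
      { toFun := fun x => (⟨(g : Γ) * x * (g : Γ)⁻¹, (Subgroup.mem_normalizer_iff.mp g.2.1 _).mp x.2⟩ : Q)
        map_one' := Subtype.ext (by simp)
        map_mul' := fun x y => Subtype.ext (by simp [mul_assoc]) }
      (fun x hx => (Subgroup.mem_normalizer_iff.mp g.2.2 _).mp hx)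
  have hf : ∀ g h u, f g (f h u) = f (g * h) u := fun g h u => by
    obtain ⟨x, rfl⟩ := QuotientGroup.mk'_surjective _ u
    exact congrArg (QuotientGroup.mk' (R.subgroupOf Q)) (Subtype.ext (by simp [mul_assoc]))
  have h1 : ∀ u, f 1 u = u := fun u => by
    obtain ⟨x, rfl⟩ := QuotientGroup.mk'_surjective _ u
    exact congrArg (QuotientGroup.mk' (R.subgroupOf Q)) (Subtype.ext (by simp))
  { toFun := fun g =>
      { toFun := f g
        invFun := f g⁻¹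
        left_inv := fun u => by rw [hf, inv_mul_cancel, h1]
        right_inv := fun u => by rw [hf, mul_inv_cancel, h1]
        map_mul' := map_mul (f g) }
    map_one' := MulEquiv.ext h1
    map_mul' := fun g h => MulEquiv.ext fun u => (hf g h u).symm }

theorem sectAct_mk (Q R : Subgroup Γ) [(R.subgroupOf Q).Normal]
    (g : (Subgroup.normalizer (Q : Set Γ) ⊓ Subgroup.normalizer (R : Set Γ) : Subgroup Γ)) (x : Q) :
    sectAct Q R g (QuotientGroup.mk x) =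
      QuotientGroup.mk ⟨(g : Γ) * x * (g : Γ)⁻¹, (Subgroup.mem_normalizer_iff.mp g.2.1 _).mp x.2⟩ := rfl

theorem mk_eq_mk_iff {Q R : Subgroup Γ} (hQR : Q ≤ Subgroup.normalizer (R : Set Γ)) [(R.subgroupOf Q).Normal] (y x : Q) :
    (QuotientGroup.mk y : Q ⧸ R.subgroupOf Q) = QuotientGroup.mk x ↔ (y : Γ) * (x : Γ)⁻¹ ∈ R := by
  rw [QuotientGroup.eq_iff_div_mem, div_eq_mul_inv]
  rfl

theorem subgroupOf_normal_of_le {Q R : Subgroup Γ} (hQR : Q ≤ Subgroup.normalizer (R : Set Γ)) :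
    (R.subgroupOf Q).Normal :=
  ⟨fun x hx g => (Subgroup.mem_normalizer_iff.mp (hQR g.2) _).mp hx⟩

theorem mk_comm {Q R : Subgroup Γ} [(R.subgroupOf Q).Normal] (hab : ∀ x ∈ Q, ∀ y ∈ Q, ⁅x, y⁆ ∈ R)
    (a b : Q ⧸ R.subgroupOf Q) : a * b = b * a := by
  obtain ⟨x, rfl⟩ := QuotientGroup.mk'_surjective _ a
  obtain ⟨y, rfl⟩ := QuotientGroup.mk'_surjective _ b
  rw [← map_mul, ← map_mul, QuotientGroup.mk'_eq_mk']
  refine ⟨⁅y⁻¹, x⁻¹⁆, ?_, ?_⟩
  · have := hab _ (Q.inv_mem y.2) _ (Q.inv_mem x.2)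
    simpa [Subgroup.mem_subgroupOf, commutatorElement_def] using this
  · simp only [commutatorElement_def]; group

variable [Finite Γ]

/-- A fixed point of `S` lies in every invariant subgroup with abelian quotient, if `Q = [Q, S]`. -/
theorem fixed_mem_of_abelian {Q S K₀ : Subgroup Γ} (hQK : Q ≤ Subgroup.normalizer (K₀ : Set Γ))
    (hSQ : S ≤ Subgroup.normalizer (Q : Set Γ)) (hSK : S ≤ Subgroup.normalizer (K₀ : Set Γ))
    (hab : ∀ x ∈ Q, ∀ y ∈ Q, ⁅x, y⁆ ∈ K₀) (hcop : (Nat.card S).Coprime (Nat.card Q)) (hQS : ⁅Q, S⁆ = Q)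
    {z : Γ} (hz : z ∈ Q) (hzS : ∀ s ∈ S, s * z = z * s) : z ∈ K₀ := by
  classical
  have := subgroupOf_normal_of_le hQK
  letI : CommGroup (Q ⧸ K₀.subgroupOf Q) :=
    { (inferInstance : Group (Q ⧸ K₀.subgroupOf Q)) with mul_comm := mk_comm hab }
  have := Fintype.ofFinite S
  let e : S → (Subgroup.normalizer (Q : Set Γ) ⊓ Subgroup.normalizer (K₀ : Set Γ) : Subgroup Γ) :=
    fun s => ⟨s, hSQ s.2, hSK s.2⟩
  let f : Q →* Q ⧸ K₀.subgroupOf Q :=
    { toFun := fun x => ∏ s : S, sectAct Q K₀ (e s) (QuotientGroup.mk x)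
      map_one' := by simp
      map_mul' := fun x y => by simp [Finset.prod_mul_distrib] }
  have hf : ∀ (s₀ : Γ) (hs₀ : s₀ ∈ S) (x : Q), f ⟨s₀ * x * s₀⁻¹, (Subgroup.mem_normalizer_iff.mp (hSQ hs₀) _).mp x.2⟩ = f x := by
    intro s₀ hs₀ x
    refine Fintype.prod_equiv (Equiv.mulRight ⟨s₀, hs₀⟩) _ _ fun s => ?_
    rw [sectAct_mk, sectAct_mk]
    exact congrArg QuotientGroup.mk (Subtype.ext (by simp [e, mul_assoc]))
  have hker : Q ≤ f.ker.map Q.subtype := by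
    conv_lhs => rw [← hQS]
    rw [Subgroup.commutator_le]
    intro x hx s hs
    refine ⟨⟨x, hx⟩ * ⟨s * x⁻¹ * s⁻¹, (Subgroup.mem_normalizer_iff.mp (hSQ hs) _).mp (Q.inv_mem hx)⟩, ?_, ?_⟩
    · show _ ∈ f.ker
      rw [MonoidHom.mem_ker, map_mul, hf s hs ⟨x⁻¹, Q.inv_mem hx⟩]
      rw [← map_mul, show (⟨x, hx⟩ * ⟨x⁻¹, Q.inv_mem hx⟩ : Q) = 1 from Subtype.ext (mul_inv_cancel x), map_one]
    · simp [commutatorElement_def, mul_assoc]
  obtain ⟨z', hz', hzz⟩ := hker hz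
  obtain rfl : z' = ⟨z, hz⟩ := Subtype.ext hzz
  have h1 : f ⟨z, hz⟩ = (QuotientGroup.mk (⟨z, hz⟩ : Q) : Q ⧸ K₀.subgroupOf Q) ^ Nat.card S := by
    show ∏ s : S, _ = _
    rw [Finset.prod_congr rfl (fun s _ => show sectAct Q K₀ (e s) (QuotientGroup.mk (⟨z, hz⟩ : Q)) =
      QuotientGroup.mk (⟨z, hz⟩ : Q) from congrArg QuotientGroup.mk (Subtype.ext (by
        show (s : Γ) * z * (s : Γ)⁻¹ = z
        rw [hzS s s.2, mul_inv_cancel_right]))), Finset.prod_const, Finset.card_univ, Nat.card_eq_fintype_card]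
  rw [MonoidHom.mem_ker.mp hz'] at h1
  have h2 : orderOf (QuotientGroup.mk (⟨z, hz⟩ : Q) : Q ⧸ K₀.subgroupOf Q) ∣ Nat.card S :=
    orderOf_dvd_of_pow_eq_one h1.symm
  have h3 : orderOf (QuotientGroup.mk (⟨z, hz⟩ : Q) : Q ⧸ K₀.subgroupOf Q) ∣ Nat.card Q :=
    (orderOf_map_dvd (QuotientGroup.mk' (K₀.subgroupOf Q)) _).trans (orderOf_dvd_natCard _)
  exact (QuotientGroup.eq_one_iff (⟨z, hz⟩ : Q)).mp (orderOf_eq_one_iff.mp (Nat.eq_one_of_dvd_coprimes hcop h2 h3))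

set_option maxHeartbeats 800000 in
/-- An element of prime order that moves the abelian image of `S` has fixed points on a section without
fixed points of `S`, and few of them. -/
theorem sect_bounds {Q R S : Subgroup Γ} {b : Γ} {p r : ℕ} [Fact r.Prime] (hp : p.Prime) (hb : orderOf b = p)
    (hpr : p ≠ r) (hpS : p.Coprime (Nat.card S)) (hrS : ¬ r ∣ Nat.card S) (hRQ : R ≤ Q)
    (hQR : Q ≤ Subgroup.normalizer (R : Set Γ)) (hab : ∀ x ∈ Q, ∀ y ∈ Q, ⁅x, y⁆ ∈ R) (hexp : ∀ x ∈ Q, x ^ r ∈ R)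
    (hSQ : S ≤ Subgroup.normalizer (Q : Set Γ)) (hSR : S ≤ Subgroup.normalizer (R : Set Γ))
    (hbQ : b ∈ Subgroup.normalizer (Q : Set Γ)) (hbR : b ∈ Subgroup.normalizer (R : Set Γ))
    (hbS : b ∈ Subgroup.normalizer (S : Set Γ)) (hSQc : (Nat.card S).Coprime (Nat.card Q))
    (hSfix : ∀ x ∈ Q, (∀ s ∈ S, s * x * s⁻¹ * x⁻¹ ∈ R) → x ∈ R)
    (hCb : ∀ s ∈ S, b * s = s * b → s ∈ Subgroup.centralizer (Q : Set Γ))
    (hder : ⁅S, S⁆ ≤ Subgroup.centralizer (Q : Set Γ)) (hne : ¬ Q ≤ R) (C : Subgroup Γ)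
    (hC : ∀ x, x ∈ C ↔ x ∈ Q ∧ b * x * b⁻¹ * x⁻¹ ∈ R) :
    ¬ C ≤ R ∧ (R.relIndex C) ^ p ≤ R.relIndex Q := by
  classical
  have := Fact.mk hp
  have := subgroupOf_normal_of_le hQR
  let X := (Subgroup.normalizer (Q : Set Γ) ⊓ Subgroup.normalizer (R : Set Γ) : Subgroup Γ)
  letI : CommGroup (Q ⧸ R.subgroupOf Q) :=
    { (inferInstance : Group (Q ⧸ R.subgroupOf Q)) with mul_comm := mk_comm hab }
  let U := Q ⧸ R.subgroupOf Q
  letI : DistribMulAction (MulAut U) (Additive U) :=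
    { smul := fun f v => Additive.ofMul (f v.toMul)
      one_smul := fun _ => rfl
      mul_smul := fun _ _ _ => rfl
      smul_zero := fun f => congrArg Additive.ofMul (map_one f)
      smul_add := fun f v w => congrArg Additive.ofMul (map_mul f _ _) }
  let Φ : X →* MulAut U := sectAct Q R
  have hΦ1 : ∀ g : X, (∀ x ∈ Q, (g : Γ) * x * (g : Γ)⁻¹ * x⁻¹ ∈ R) → Φ g = 1 := fun g h => MulEquiv.ext fun u => by
    obtain ⟨x, rfl⟩ := QuotientGroup.mk_surjective u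
    rw [sectAct_mk]
    exact (mk_eq_mk_iff hQR _ _).mpr (h x x.2)
  have hΦ1' : ∀ g : X, Φ g = 1 → ∀ x ∈ Q, (g : Γ) * x * (g : Γ)⁻¹ * x⁻¹ ∈ R := fun g h x hx =>
    (mk_eq_mk_iff hQR ⟨_, (Subgroup.mem_normalizer_iff.mp g.2.1 _).mp hx⟩ ⟨x, hx⟩).mp
      (DFunLike.congr_fun h (QuotientGroup.mk (⟨x, hx⟩ : Q)))
  let b' : X := ⟨b, hbQ, hbR⟩
  set β := Φ b' with hβ
  -- only the kernel commutes with `b` modulo the kernel
  set S₀ := modCent Q R S hSQ with hS₀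
  have hS₀S : S₀ ≤ S := fun g hg => hg.1
  have hS₀n : ∀ g : Γ, g ∈ Subgroup.normalizer (S : Set Γ) → g ∈ X → g ∈ Subgroup.normalizer (S₀ : Set Γ) := by
    intro g hgS hgX
    have key : ∀ g : Γ, g ∈ Subgroup.normalizer (S : Set Γ) → g ∈ X → ∀ y ∈ S₀, g * y * g⁻¹ ∈ S₀ := by
      intro g hgS hgX y hy
      refine ⟨conj_mem hgS hy.1, fun x hx => ?_⟩
      have h1 := conj_mem hgX.2 (hy.2 _ (conj_mem_inv hgX.1 hx))
      convert h1 using 1
      group
    rw [Subgroup.mem_normalizer_iff]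
    exact fun y => ⟨key g hgS hgX y, fun h => by simpa [mul_assoc] using key g⁻¹ (inv_mem hgS) (inv_mem hgX) _ h⟩
  have hkey : ∀ s ∈ S, b * s * b⁻¹ * s⁻¹ ∈ S₀ → s ∈ S₀ := by
    intro s hs h
    have hcopb : (Nat.card (Subgroup.zpowers b)).Coprime (Nat.card S) := by rw [Nat.card_zpowers, hb]; exact hpS
    obtain ⟨c, hc, hsc⟩ := CfsgLib.coprime_fixed_quotient (A := Subgroup.zpowers b) (K := S) (N := S₀)
      (Subgroup.zpowers_le.mpr hbS) hcopb (Or.inl inferInstance) hS₀S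
      (fun t ht => hS₀n t (Subgroup.le_normalizer ht) ⟨hSQ ht, hSR ht⟩)
      (Subgroup.zpowers_le.mpr (hS₀n b hbS b'.2)) hs (fun a ha => by
        obtain ⟨n, rfl⟩ := mem_powers_iff_mem_zpowers.mpr ha
        show b ^ n * s * (b ^ n)⁻¹ * s⁻¹ ∈ S₀
        induction n with
        | zero => simp
        | succ n ih =>
          have h1 := S₀.mul_mem (conj_mem (hS₀n b hbS b'.2) (ih (pow_mem (Subgroup.mem_zpowers b) n))) h
          convert h1 using 1
          rw [pow_succ']; group)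
    have hcS : c ∈ S₀ := by
      have hc1 := hCb c hc.1 (Subgroup.mem_centralizer_iff.mp hc.2 b (Subgroup.mem_zpowers b))
      exact ⟨hc.1, fun x hx => by rw [← Subgroup.mem_centralizer_iff.mp hc1 x hx]; simp⟩
    have h2 := S₀.mul_mem hcS (S₀.inv_mem hsc)
    simpa using h2
  have hS₀Φ : ∀ (s : Γ) (hs : s ∈ S), s ∈ S₀ ↔ Φ ⟨s, hSQ hs, hSR hs⟩ = 1 := fun s hs =>
    ⟨fun h => hΦ1 _ h.2, fun h => ⟨hs, hΦ1' ⟨s, hSQ hs, hSR hs⟩ h⟩⟩
  have hΦconj : ∀ (s : Γ) (hs : s ∈ S), β * Φ ⟨s, hSQ hs, hSR hs⟩ * β⁻¹ * (Φ ⟨s, hSQ hs, hSR hs⟩)⁻¹ = 1 →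
      s ∈ S₀ := fun s hs h => hkey s hs ((hS₀Φ _ (S.mul_mem (conj_mem hbS hs) (S.inv_mem hs))).mpr (by
    rw [← h, hβ, ← map_inv, ← map_inv, ← map_mul, ← map_mul, ← map_mul]
    rfl))
  have hβord : orderOf β = p := by
    refine orderOf_eq_prime ?_ fun h1 => hne fun x hx => hSfix x hx fun s hs => ?_
    · rw [hβ, ← map_pow, show b' ^ p = 1 from Subtype.ext (by simpa [b'] using (by rw [← hb, pow_orderOf_eq_one] : b ^ p = 1)),
        map_one]
    · exact (hΦconj s hs (by rw [h1]; simp)).2 x hx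
  let E := (S.subgroupOf X).map Φ
  have hEmem : ∀ e ∈ E, ∃ (s : Γ) (hs : s ∈ S), Φ ⟨s, hSQ hs, hSR hs⟩ = e := by
    rintro e ⟨s, hs, rfl⟩
    exact ⟨s, hs, rfl⟩
  have hEmem' : ∀ (s : Γ) (hs : s ∈ S), Φ ⟨s, hSQ hs, hSR hs⟩ ∈ E := fun s hs => ⟨⟨s, hSQ hs, hSR hs⟩, hs, rfl⟩
  have : IsMulCommutative E := ⟨⟨fun e e' => Subtype.ext (by
    obtain ⟨s, hs, hse⟩ := hEmem e e.2
    obtain ⟨t, ht, hte⟩ := hEmem e' e'.2
    show (e : MulAut U) * e' = e' * e
    rw [← hse, ← hte, ← commutatorElement_eq_one_iff_mul_comm, ← map_commutatorElement]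
    refine hΦ1 _ fun x hx => ?_
    have h1 : ⁅s, t⁆ * x = x * ⁅s, t⁆ :=
      (Subgroup.mem_centralizer_iff.mp (hder (Subgroup.commutator_mem_commutator hs ht)) x hx).symm
    show ⁅s, t⁆ * x * ⁅s, t⁆⁻¹ * x⁻¹ ∈ R
    rw [h1, mul_inv_cancel_right, mul_inv_cancel]
    exact R.one_mem)⟩⟩
  have hβE : β ∈ Subgroup.normalizer (E : Set (MulAut U)) := by
    have h1 : b' ∈ Subgroup.normalizer ((S.subgroupOf X : Subgroup X) : Set X) := by
      rw [Subgroup.mem_normalizer_iff]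
      intro y
      exact Subgroup.mem_normalizer_iff.mp hbS (y : Γ)
    exact Subgroup.le_normalizer_map Φ (Subgroup.mem_map_of_mem Φ h1)
  have hfpf : ∀ e ∈ E, β * e * β⁻¹ = e → e = 1 := by
    intro e he h
    obtain ⟨s, hs, rfl⟩ := hEmem e he
    exact (hS₀Φ s hs).mp (hΦconj s hs (by rw [h, mul_inv_cancel]))
  have hEdvd : Nat.card E ∣ Nat.card S := (Subgroup.card_map_dvd _ Φ).trans (by
    rw [Nat.card_congr (Subgroup.subgroupOfEquivOfLe (le_inf hSQ hSR : S ≤ X)).toEquiv])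
  have hUdvd : Nat.card (Additive U) ∣ Nat.card Q := by
    rw [Nat.card_congr Additive.toMul]
    exact Subgroup.card_quotient_dvd_card _
  have hcopE : (Nat.card E).Coprime (Nat.card (Additive U)) :=
    (hSQc.coprime_dvd_left hEdvd).coprime_dvd_right hUdvd
  have hM : ∀ v : Additive U, r • v = 0 := fun v => by
    obtain ⟨x, hx⟩ := QuotientGroup.mk_surjective v.toMul
    apply Additive.toMul.injective
    show v.toMul ^ r = 1
    rw [← hx, ← QuotientGroup.mk_pow, QuotientGroup.eq_one_iff]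
    exact hexp x x.2
  have hS : ∀ v : Additive U, avg E v = 0 := fun v => by
    obtain ⟨x, hx⟩ := QuotientGroup.mk_surjective (avg E v).toMul
    apply Additive.toMul.injective
    show (avg E v).toMul = 1
    rw [← hx, QuotientGroup.eq_one_iff]
    refine hSfix x x.2 fun s hs => ?_
    have h1 : Φ ⟨s, hSQ hs, hSR hs⟩ ((avg E v).toMul) = (avg E v).toMul :=
      congrArg Additive.toMul (smul_avg E (hEmem' s hs) v)
    rw [← hx, sectAct_mk, mk_eq_mk_iff hQR] at h1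
    exact h1
  have hbE : ∀ x : Q, β (QuotientGroup.mk x) = QuotientGroup.mk x ↔ (x : Γ) ∈ C := fun x => by
    rw [hβ, sectAct_mk, mk_eq_mk_iff hQR, hC]
    exact ⟨fun h => ⟨x.2, h⟩, fun h => h.2⟩
  have hv : ∃ v : Additive U, v ≠ 0 := by
    obtain ⟨x, hx, hxR⟩ := SetLike.not_le_iff_exists.mp hne
    exact ⟨Additive.ofMul (QuotientGroup.mk (⟨x, hx⟩ : Q)), fun h =>
      hxR ((QuotientGroup.eq_one_iff (⟨x, hx⟩ : Q)).mp (congrArg Additive.toMul h))⟩
  refine ⟨fun hCR => ?_, ?_⟩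
  · obtain ⟨v, hv0, hvb⟩ := exists_fixed E hp hβord hβE hfpf hcopE hS hv
    obtain ⟨x, hx⟩ := QuotientGroup.mk_surjective v.toMul
    apply hv0
    apply Additive.toMul.injective
    show v.toMul = 1
    rw [← hx, QuotientGroup.eq_one_iff]
    refine hCR ((hbE x).mp ?_)
    rw [hx]
    exact congrArg Additive.toMul hvb
  · have h := card_fixed_pow E hp hM hβord hpr hβE hfpf (fun h => hrS (h.trans hEdvd)) hS
    have hRC : R ≤ C := fun x hx => (hC x).mpr ⟨hRQ hx, R.mul_mem (conj_mem hbR hx) (R.inv_mem hx)⟩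
    have hCQ : C ≤ Q := fun x hx => ((hC x).mp hx).1
    have hcU : Nat.card (Additive U) = R.relIndex Q := by
      rw [Nat.card_congr Additive.toMul]; rfl
    have hcC : Nat.card {v : Additive U // β • v = v} = R.relIndex C := by
      have hk := Subgroup.relIndex_ker (C.subgroupOf Q) (QuotientGroup.mk' (R.subgroupOf Q))
      rw [QuotientGroup.ker_mk'] at hk
      rw [← Subgroup.relIndex_subgroupOf hCQ, hk]
      refine Nat.card_congr ((Additive.toMul.subtypeEquiv fun v => ?_))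
      obtain ⟨x, hx⟩ := QuotientGroup.mk_surjective v.toMul
      constructor
      · intro h
        refine ⟨x, (hbE x).mp ?_, hx⟩
        rw [hx]; exact congrArg Additive.toMul h
      · rintro ⟨y, hy, hy'⟩
        apply Additive.toMul.injective
        show β v.toMul = v.toMul
        rw [← hy']
        exact (hbE y).mpr hy
    rwa [hcC, hcU] at h

end CfsgLib.FittingHeight
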