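/-
A character of a central subgroup with a stabilised weight space: the pairing it induces and what follows from it.
-/
import Mathlib
import Cfsg.Agent.Lib.FittingHeight.Pairing
import Cfsg.Agent.Lib.FittingHeight.Sect
import Cfsg.Agent.Lib.FittingHeight.Isometry

set_option autoImplicit false

open scoped commutatorElement IsMulCommutative
open Finset

namespace CfsgLib.FittingHeight

universe u v w

variable {Γ : Type u} [Group Γ] [Finite Γ] {K : Type v} [Field K]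

/-- `Z` is central in `Q` with abelian quotient, and `S` fixes it pointwise and nothing more. -/
structure CentralPair (Q S Z : Subgroup Γ) : Prop where
  zQ : Z ≤ Q
  central : ∀ z ∈ Z, ∀ x ∈ Q, z * x = x * z
  derived : ∀ x ∈ Q, ∀ y ∈ Q, ⁅x, y⁆ ∈ Z
  sQ : S ≤ Subgroup.normalizer (Q : Set Γ)
  sZ : ∀ s ∈ S, ∀ z ∈ Z, s * z = z * s
  fixS : Q ⊓ Subgroup.centralizer (S : Set Γ) ≤ Z
  coprime : (Nat.card S).Coprime (Nat.card Q)
  solvable : Group.IsSolvable S ∨ Group.IsSolvable Q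
  full : ⁅Q, S⁆ = Q

variable {Q S Z : Subgroup Γ} {χ : Z →* Kˣ}

/-- The pairing of a character of a central subgroup. -/
noncomputable def pair (χ : Z →* Kˣ) (x y : Γ) : Kˣ := by
  classical exact if h : ⁅x, y⁆ ∈ Z then χ ⟨_, h⟩ else 1

theorem pair_eq (χ : Z →* Kˣ) {x y : Γ} (h : ⁅x, y⁆ ∈ Z) : pair χ x y = χ ⟨_, h⟩ := dif_pos h

theorem CentralPair.pair_mul (hc : CentralPair Q S Z) {x x' y : Γ} (hx : x ∈ Q) (hx' : x' ∈ Q) (hy : y ∈ Q) :
    pair χ (x * x') y = pair χ x y * pair χ x' y := by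
  rw [pair_eq χ (hc.derived _ hx _ hy), pair_eq χ (hc.derived _ hx' _ hy),
    pair_eq χ (hc.derived _ (Q.mul_mem hx hx') _ hy), mul_comm, ← map_mul]
  refine congrArg χ (Subtype.ext ?_)
  show ⁅x * x', y⁆ = ⁅x', y⁆ * ⁅x, y⁆
  have h := hc.central _ (hc.derived _ hx' _ hy) x hx
  calc ⁅x * x', y⁆ = x * ⁅x', y⁆ * x⁻¹ * ⁅x, y⁆ := by simp only [commutatorElement_def]; group
    _ = _ := by rw [← h, mul_inv_cancel_right]

theorem CentralPair.pair_swap (hc : CentralPair Q S Z) {x y : Γ} (hx : x ∈ Q) (hy : y ∈ Q) :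
    pair χ y x = (pair χ x y)⁻¹ := by
  rw [pair_eq χ (hc.derived _ hx _ hy), pair_eq χ (hc.derived _ hy _ hx), ← map_inv]
  exact congrArg χ (Subtype.ext (commutatorElement_inv x y).symm)

theorem CentralPair.pair_mul_right (hc : CentralPair Q S Z) {x y y' : Γ} (hx : x ∈ Q) (hy : y ∈ Q) (hy' : y' ∈ Q) :
    pair χ x (y * y') = pair χ x y * pair χ x y' := by
  rw [hc.pair_swap (Q.mul_mem hy hy') hx, hc.pair_mul hy hy' hx, mul_inv, ← hc.pair_swap hy hx, ← hc.pair_swap hy' hx]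

theorem CentralPair.pair_one (hc : CentralPair Q S Z) {y : Γ} (hy : y ∈ Q) : pair χ 1 y = 1 := by
  rw [pair_eq χ (hc.derived _ Q.one_mem _ hy)]
  exact (congrArg χ (Subtype.ext (commutatorElement_one_left y))).trans (map_one χ)

theorem CentralPair.pair_conj (hc : CentralPair Q S Z) {g : Γ} (hg : g ∈ charStab Z χ) {x y : Γ} (hx : x ∈ Q)
    (hy : y ∈ Q) : pair χ (g * x * g⁻¹) (g * y * g⁻¹) = pair χ x y := by
  obtain ⟨hn, h⟩ := hg
  have h1 := hc.derived _ hx _ hy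
  have e : ⁅g * x * g⁻¹, g * y * g⁻¹⁆ = g * ⁅x, y⁆ * g⁻¹ := by simp only [commutatorElement_def]; group
  have h2 : ⁅g * x * g⁻¹, g * y * g⁻¹⁆ ∈ Z := by rw [e]; exact conj_mem hn h1
  rw [pair_eq χ h1, pair_eq χ h2, ← h ⟨_, h1⟩]
  exact congrArg χ (Subtype.ext e)

/-- The radical of the pairing. -/
def CentralPair.rad (hc : CentralPair Q S Z) (χ : Z →* Kˣ) : Subgroup Γ where
  carrier := {x | x ∈ Q ∧ ∀ y ∈ Q, pair χ x y = 1}
  one_mem' := ⟨Q.one_mem, fun y hy => hc.pair_one hy⟩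
  mul_mem' := fun {x x'} hx hx' => ⟨Q.mul_mem hx.1 hx'.1, fun y hy => by
    rw [hc.pair_mul hx.1 hx'.1 hy, hx.2 y hy, hx'.2 y hy, one_mul]⟩
  inv_mem' := fun {x} hx => ⟨Q.inv_mem hx.1, fun y hy => by
    have h := hc.pair_mul (χ := χ) (Q.inv_mem hx.1) hx.1 hy
    rw [inv_mul_cancel, hc.pair_one hy, hx.2 y hy, mul_one] at h
    exact h.symm⟩

theorem CentralPair.mem_rad (hc : CentralPair Q S Z) {x : Γ} :
    x ∈ hc.rad χ ↔ x ∈ Q ∧ ∀ y ∈ Q, pair χ x y = 1 := Iff.rfl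

theorem CentralPair.z_le_rad (hc : CentralPair Q S Z) : Z ≤ hc.rad χ := fun z hz =>
  ⟨hc.zQ hz, fun y hy => by
    rw [pair_eq χ (hc.derived _ (hc.zQ hz) _ hy)]
    exact (congrArg χ (Subtype.ext (commutatorElement_eq_one_iff_mul_comm.mpr (hc.central z hz y hy)))).trans (map_one χ)⟩

theorem CentralPair.rad_le (hc : CentralPair Q S Z) : hc.rad χ ≤ Q := fun _ hx => hx.1

theorem CentralPair.mem_normalizer_rad (hc : CentralPair Q S Z) {g : Γ} (hg : g ∈ charStab Z χ)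
    (hgQ : g ∈ Subgroup.normalizer (Q : Set Γ)) : g ∈ Subgroup.normalizer (hc.rad χ : Set Γ) := by
  have key : ∀ g ∈ charStab Z χ, g ∈ Subgroup.normalizer (Q : Set Γ) → ∀ x ∈ hc.rad χ, g * x * g⁻¹ ∈ hc.rad χ := by
    intro g hg hgQ x hx
    refine ⟨conj_mem hgQ hx.1, fun y hy => ?_⟩
    have h := hc.pair_conj hg hx.1 (conj_mem_inv hgQ hy)
    rw [hx.2 _ (conj_mem_inv hgQ hy)] at h
    simpa [mul_assoc] using h
  rw [Subgroup.mem_normalizer_iff]
  exact fun x => ⟨key g hg hgQ x, fun h => by simpa [mul_assoc] using key g⁻¹ (inv_mem hg) (inv_mem hgQ) _ h⟩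

theorem mem_charStab_of_commute {g : Γ} (h : ∀ z ∈ Z, g * z = z * g) : g ∈ charStab Z χ := by
  have hn : g ∈ Subgroup.normalizer (Z : Set Γ) := by
    rw [Subgroup.mem_normalizer_iff]
    intro y
    constructor
    · intro hy; rw [h y hy, mul_inv_cancel_right]; exact hy
    · intro hy
      have h1 : g * (g * y * g⁻¹) = g * y * g⁻¹ * g := h _ hy
      rw [inv_mul_cancel_right] at h1
      have : g * y * g⁻¹ = y := mul_left_cancel h1
      rwa [this] at hy
  exact (mem_charStab hn).mpr fun e => congrArg χ (Subtype.ext (by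
    show g * (e : Γ) * g⁻¹ = e
    rw [h e e.2, mul_inv_cancel_right]))

theorem CentralPair.q_stab (hc : CentralPair Q S Z) : Q ≤ charStab Z χ :=
  fun x hx => mem_charStab_of_commute fun z hz => (hc.central z hz x hx).symm

theorem CentralPair.s_stab (hc : CentralPair Q S Z) : S ≤ charStab Z χ :=
  fun s hs => mem_charStab_of_commute (hc.sZ s hs)

theorem CentralPair.q_rad (hc : CentralPair Q S Z) : Q ≤ Subgroup.normalizer (hc.rad χ : Set Γ) :=
  fun _ hx => hc.mem_normalizer_rad (hc.q_stab hx) (Subgroup.le_normalizer hx)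

theorem CentralPair.s_rad (hc : CentralPair Q S Z) : S ≤ Subgroup.normalizer (hc.rad χ : Set Γ) :=
  fun _ hs => hc.mem_normalizer_rad (hc.s_stab hs) (hc.sQ hs)

theorem CentralPair.fix_rad (hc : CentralPair Q S Z) :
    ∀ x ∈ Q, (∀ s ∈ S, s * x * s⁻¹ * x⁻¹ ∈ hc.rad χ) → x ∈ hc.rad χ := by
  intro x hx h
  obtain ⟨c, hcm, hxc⟩ := CfsgLib.coprime_fixed_quotient hc.sQ hc.coprime hc.solvable hc.rad_le hc.q_rad hc.s_rad hx h
  have h1 := (hc.rad χ).mul_mem (hc.z_le_rad (χ := χ) (hc.fixS hcm)) ((hc.rad χ).inv_mem hxc)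
  simpa using h1

variable {W : Type w} [AddCommGroup W] [Module K W] [DistribMulAction Γ W] [SMulCommClass Γ K W]
variable [IsMulCommutative Z]

omit [IsMulCommutative Z] in
/-- A nontrivial character with a nonzero weight space has a proper radical. -/
theorem CentralPair.rad_ne (hc : CentralPair Q S Z) (hχ : χ ≠ 1) (hw : ∃ f ∈ wt K W χ, f ≠ 0) :
    ¬ Q ≤ hc.rad χ := by
  intro hR
  apply hχ
  obtain ⟨f₀, hf₀, hf0⟩ := hw
  refine MonoidHom.ext fun z => ?_
  let K₀ : Subgroup Γ :=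
    { carrier := {x | x ∈ Q ∧ ∀ f ∈ wt K W χ, x • f = f}
      one_mem' := ⟨Q.one_mem, fun f _ => one_smul Γ f⟩
      mul_mem' := fun {x y} hx hy => ⟨Q.mul_mem hx.1 hy.1, fun f hf => by rw [mul_smul, hy.2 f hf, hx.2 f hf]⟩
      inv_mem' := fun {x} hx => ⟨Q.inv_mem hx.1, fun f hf => inv_smul_eq_iff.mpr (hx.2 f hf).symm⟩ }
  have hnorm : ∀ g ∈ charStab Z χ, g ∈ Subgroup.normalizer (Q : Set Γ) → g ∈ Subgroup.normalizer (K₀ : Set Γ) := by
    have key : ∀ g ∈ charStab Z χ, g ∈ Subgroup.normalizer (Q : Set Γ) → ∀ x ∈ K₀, g * x * g⁻¹ ∈ K₀ := by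
      intro g hg hgQ x hx
      refine ⟨conj_mem hgQ hx.1, fun f hf => ?_⟩
      rw [mul_smul, mul_smul, hx.2 _ (smul_mem_wt (inv_mem hg) hf), smul_inv_smul]
    intro g hg hgQ
    rw [Subgroup.mem_normalizer_iff]
    exact fun x => ⟨key g hg hgQ x, fun h => by simpa [mul_assoc] using key g⁻¹ (inv_mem hg) (inv_mem hgQ) _ h⟩
  have hzK : (z : Γ) ∈ K₀ := fixed_mem_of_abelian (K₀ := K₀)
    (fun x hx => hnorm x (hc.q_stab hx) (Subgroup.le_normalizer hx)) hc.sQ
    (fun s hs => hnorm s (hc.s_stab hs) (hc.sQ hs))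
    (fun x hx y hy => ⟨hc.zQ (hc.derived x hx y hy), fun f hf => by
      have h1 := (hR hx).2 y hy
      rw [pair_eq χ (hc.derived x hx y hy)] at h1
      have h2 := hf ⟨_, hc.derived x hx y hy⟩
      rwa [h1, Units.val_one, one_smul] at h2⟩)
    hc.coprime hc.full (hc.zQ z.2) (fun s hs => hc.sZ s hs z z.2)
  have h1 := hf₀ z
  rw [hzK.2 f₀ hf₀] at h1
  have h2 : ((χ z : K) - 1) • f₀ = 0 := by rw [sub_smul, one_smul, ← h1, sub_self]
  exact Units.ext (sub_eq_zero.mp ((smul_eq_zero.mp h2).resolve_right hf0))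

variable [IsAlgClosed K] [FiniteDimensional K W]

set_option maxHeartbeats 800000 in
/-- The Hall-Higman bound on the radical quotient. -/
theorem CentralPair.bound (hc : CentralPair Q S Z) (hw : ∃ f ∈ wt K W χ, f ≠ 0) {a : Γ} {q : ℕ}
    (hq : q.Prime) (ha : orderOf a = q) (hqK : (q : K) ≠ 0) (hQK : ((Nat.card Q : ℕ) : K) ≠ 0)
    (haQ : a ∈ Subgroup.normalizer (Q : Set Γ)) (haχ : a ∈ charStab Z χ)
    (hNa : ∀ f ∈ wt K W χ, avg (Subgroup.zpowers a) f = 0) (C : Subgroup Γ)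
    (hC : ∀ x, x ∈ C ↔ x ∈ Q ∧ a * x * a⁻¹ * x⁻¹ ∈ hc.rad χ) :
    (hc.rad χ).relIndex Q ≤ (q - 1) ^ 2 * (hc.rad χ).relIndex C := by
  classical
  let X : Subgroup Γ := charStab Z χ ⊓ Subgroup.normalizer (Q : Set Γ)
  let ρ : X →* Module.End K (wt K W χ) :=
    { toFun := fun g =>
        { toFun := fun f => ⟨(g : Γ) • (f : W), smul_mem_wt g.2.1 f.2⟩
          map_add' := fun f f' => Subtype.ext (smul_add _ _ _)
          map_smul' := fun c f => Subtype.ext (smul_comm (g : Γ) c (f : W)) }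
      map_one' := LinearMap.ext fun f => Subtype.ext (one_smul Γ (f : W))
      map_mul' := fun g h => LinearMap.ext fun f => Subtype.ext (mul_smul (g : Γ) h (f : W)) }
  obtain ⟨f₀, hf₀, hf0⟩ := hw
  have : Nontrivial (wt K W χ) := ⟨⟨f₀, hf₀⟩, 0, fun h => hf0 (congrArg Subtype.val h)⟩
  have hQX : Q ≤ X := le_inf hc.q_stab Subgroup.le_normalizer
  have hCQ : C ≤ Q := fun x hx => ((hC x).mp hx).1
  have hρ : ∀ (g : X) (hg : (g : Γ) ∈ Z), ρ g = (χ ⟨g, hg⟩ : K) • 1 := fun g hg =>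
    LinearMap.ext fun f => Subtype.ext (f.2 ⟨g, hg⟩)
  have hρ1 : ∀ (g : X) (hg : (g : Γ) ∈ Z), ρ g = 1 → χ ⟨g, hg⟩ = 1 := fun g hg h => by
    rw [hρ g hg] at h
    have h2 : ((χ ⟨g, hg⟩ : K) - 1) • f₀ = 0 := by
      rw [sub_smul, one_smul, sub_eq_zero]
      exact congrArg Subtype.val (LinearMap.congr_fun h ⟨f₀, hf₀⟩)
    exact Units.ext (sub_eq_zero.mp ((smul_eq_zero.mp h2).resolve_right hf0))
  have hdata := fun (x y : X) (hx : (x : Γ) ∈ Q) (hy : (y : Γ) ∈ Q) =>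
    hρ ⁅x, y⁆ (show ((⁅x, y⁆ : X) : Γ) ∈ Z from hc.derived _ hx _ hy)
  let a' : X := ⟨a, haχ, haQ⟩
  have ha' : orderOf a' = q := by rw [← ha]; exact (Subgroup.orderOf_coe a').symm
  have haN : a' ∈ Subgroup.normalizer ((Q.subgroupOf X : Subgroup X) : Set X) := by
    rw [Subgroup.mem_normalizer_iff]
    intro y
    exact Subgroup.mem_normalizer_iff.mp haQ (y : Γ)
  have hcard : ∀ H : Subgroup Γ, H ≤ Q → Nat.card (H.subgroupOf X) = Nat.card H := fun H hH =>
    Nat.card_congr (Subgroup.subgroupOfEquivOfLe (hH.trans hQX)).toEquiv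
  have h := pairing_bound ρ (Q.subgroupOf X) (Q.subgroupOf X) (C.subgroupOf X) hq ha' haN haN
    (by rw [hcard Q le_rfl]; exact hQK) hqK
    (fun x hx y hy => ⟨_, hdata x y hx hy⟩) (fun x hx y hy => ⟨_, hdata x y hx hy⟩)
    (fun f hf => by
      have h1 : ∀ g ∈ Subgroup.zpowers a, g • (f : W) = f := fun g hg =>
        (Subgroup.zpowers_le.mpr (show a ∈ MulAction.stabilizer Γ (f : W) from congrArg Subtype.val hf)) hg
      have h2 := hNa f f.2
      rw [avg_fixed _ h1, Nat.card_zpowers, ha, ← Nat.cast_smul_eq_nsmul K] at h2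
      exact Subtype.ext ((smul_eq_zero.mp h2).resolve_left hqK))
    (fun y hy h => by
      show (y : Γ) ∈ C
      have hu : a * (y : Γ) * a⁻¹ * (y : Γ)⁻¹ ∈ Q := Q.mul_mem (conj_mem haQ hy) (Q.inv_mem hy)
      refine (hC _).mpr ⟨hy, hu, fun x hx => ?_⟩
      rw [hc.pair_swap hx hu, inv_eq_one, pair_eq χ (hc.derived _ hx _ hu)]
      exact hρ1 ⁅(⟨x, hQX hx⟩ : X), a' * y * a'⁻¹ * y⁻¹⁆ (hc.derived _ hx _ hu) (h ⟨x, hQX hx⟩ hx))
  rw [hcard Q le_rfl, hcard C hCQ] at h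
  have hRC : hc.rad χ ≤ C := fun x hx => (hC x).mpr ⟨hx.1, (hc.rad χ).mul_mem
    (conj_mem (hc.mem_normalizer_rad haχ haQ) hx) ((hc.rad χ).inv_mem hx)⟩
  have hidx : ∀ H : Subgroup Γ, hc.rad χ ≤ H → Nat.card H = Nat.card (hc.rad χ) * (hc.rad χ).relIndex H := by
    intro H hH
    rw [← Nat.card_congr (Subgroup.subgroupOfEquivOfLe hH).toEquiv]
    exact (Subgroup.card_mul_index _).symm
  rw [hidx Q hc.rad_le, hidx C hRC, mul_left_comm] at h
  exact Nat.le_of_mul_le_mul_left h Nat.card_pos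

/-- A stabilising element of prime order whose centraliser in `S` centralises `Q` cannot kill a nontrivial weight. -/
theorem CentralPair.free_hh (hc : CentralPair Q S Z) (hχ : χ ≠ 1) (hw : ∃ f ∈ wt K W χ, f ≠ 0) {a : Γ} {q r : ℕ}
    [Fact r.Prime] (hq : q.Prime) (ha : orderOf a = q) (hqK : (q : K) ≠ 0) (hQK : ((Nat.card Q : ℕ) : K) ≠ 0)
    (hqr : q ≠ r) (hqS : q.Coprime (Nat.card S)) (hqQ : q.Coprime (Nat.card Q)) (hrS : ¬ r ∣ Nat.card S)
    (hexp : ∀ x ∈ Q, x ^ r ∈ Z) (haQ : a ∈ Subgroup.normalizer (Q : Set Γ)) (haS : a ∈ Subgroup.normalizer (S : Set Γ))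
    (haχ : a ∈ charStab Z χ) (hNa : ∀ f ∈ wt K W χ, avg (Subgroup.zpowers a) f = 0)
    (hCa : ∀ s ∈ S, a * s = s * a → s ∈ Subgroup.centralizer (Q : Set Γ))
    (hder : ⁅S, S⁆ ≤ Subgroup.centralizer (Q : Set Γ)) : False := by
  classical
  set R := hc.rad χ with hR
  have haR : a ∈ Subgroup.normalizer (R : Set Γ) := hc.mem_normalizer_rad haχ haQ
  have hconj : ∀ g ∈ Subgroup.zpowers a, g ∈ charStab Z χ := fun g hg => Subgroup.zpowers_le.mpr haχ hg
  let C : Subgroup Γ :=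
    { carrier := {x | x ∈ Q ∧ a * x * a⁻¹ * x⁻¹ ∈ R}
      one_mem' := ⟨Q.one_mem, by simp⟩
      mul_mem' := by
        rintro x y ⟨hx, hx'⟩ ⟨hy, hy'⟩
        refine ⟨Q.mul_mem hx hy, ?_⟩
        have h1 := R.mul_mem (conj_mem (hc.q_rad (conj_mem haQ hx)) hy') hx'
        convert h1 using 1
        group
      inv_mem' := by
        rintro x ⟨hx, hx'⟩
        refine ⟨Q.inv_mem hx, ?_⟩
        have h1 := conj_mem_inv (hc.q_rad (conj_mem haQ hx)) (R.inv_mem hx')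
        convert h1 using 1
        group }
  have hne := hc.rad_ne hχ hw
  obtain ⟨hCR, hpow⟩ := sect_bounds hq ha hqr hqS hrS hc.rad_le hc.q_rad
    (fun x hx y hy => hc.z_le_rad (hc.derived x hx y hy)) (fun x hx => hc.z_le_rad (hexp x hx))
    hc.sQ hc.s_rad haQ haR haS hc.coprime hc.fix_rad hCa hder hne C (fun x => Iff.rfl)
  have hb := hc.bound hw hq ha hqK hQK haQ haχ hNa C (fun x => Iff.rfl)
  have hcopQ : (Nat.card (Subgroup.zpowers a)).Coprime (Nat.card Q) := by rw [Nat.card_zpowers, ha]; exact hqQ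
  have hCmem : ∀ x ∈ Q ⊓ Subgroup.centralizer (Subgroup.zpowers a : Set Γ), x ∈ C := fun x hx => by
    refine ⟨hx.1, ?_⟩
    rw [Subgroup.mem_centralizer_iff.mp hx.2 a (Subgroup.mem_zpowers a), mul_inv_cancel_right, mul_inv_cancel]
    exact R.one_mem
  -- a fixed element outside the radical
  obtain ⟨c, hcQ, hcR⟩ : ∃ c ∈ Q ⊓ Subgroup.centralizer (Subgroup.zpowers a : Set Γ), c ∉ R := by
    obtain ⟨x, hx, hxR⟩ := SetLike.not_le_iff_exists.mp hCR
    obtain ⟨c, hc', hxc⟩ := CfsgLib.coprime_fixed_quotient (Subgroup.zpowers_le.mpr haQ) hcopQ (Or.inl inferInstance)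
      hc.rad_le hc.q_rad (Subgroup.zpowers_le.mpr haR) hx.1 (fun g hg => by
        obtain ⟨n, rfl⟩ := mem_powers_iff_mem_zpowers.mpr hg
        show a ^ n * x * (a ^ n)⁻¹ * x⁻¹ ∈ R
        clear hg
        induction n with
        | zero => simp
        | succ n ih =>
          have h1 := R.mul_mem (conj_mem haR ih) hx.2
          convert h1 using 1
          rw [pow_succ']; group)
    refine ⟨c, hc', fun h => hxR ?_⟩
    have h1 := R.mul_mem h (R.inv_mem hxc)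
    simpa using h1
  obtain ⟨y, hy, hcy⟩ : ∃ y ∈ C, pair χ c y ≠ 1 := by
    by_contra hno
    push Not at hno
    refine hcR ⟨hcQ.1, fun y hy => ?_⟩
    obtain ⟨u, hu, v, hv, rfl⟩ := coprime_decomp (Subgroup.zpowers_le.mpr haQ) hcopQ (Or.inl inferInstance) hy
    let D : Subgroup Γ :=
      { carrier := {y | y ∈ Q ∧ pair χ c y = 1}
        one_mem' := ⟨Q.one_mem, by rw [hc.pair_swap Q.one_mem hcQ.1, hc.pair_one hcQ.1, inv_one]⟩
        mul_mem' := fun {y y'} h h' => ⟨Q.mul_mem h.1 h'.1, by rw [hc.pair_mul_right hcQ.1 h.1 h'.1, h.2, h'.2, one_mul]⟩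
        inv_mem' := fun {y} h => ⟨Q.inv_mem h.1, by
          have h1 := hc.pair_mul_right (χ := χ) hcQ.1 (Q.inv_mem h.1) h.1
          rw [inv_mul_cancel, h.2, mul_one, hc.pair_swap Q.one_mem hcQ.1, hc.pair_one hcQ.1, inv_one] at h1
          exact h1.symm⟩ }
    have hD : ⁅Q, Subgroup.zpowers a⁆ ≤ D := by
      rw [Subgroup.commutator_le]
      intro y hy g hg
      have hgQ : g ∈ Subgroup.normalizer (Q : Set Γ) := Subgroup.zpowers_le.mpr haQ hg
      have h2 : g * y⁻¹ * g⁻¹ ∈ Q := conj_mem hgQ (Q.inv_mem hy)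
      rw [show ⁅y, g⁆ = y * (g * y⁻¹ * g⁻¹) by simp only [commutatorElement_def]; group]
      refine ⟨Q.mul_mem hy h2, ?_⟩
      have h3 := hc.pair_conj (hconj g hg) hcQ.1 (Q.inv_mem hy)
      rw [show g * c * g⁻¹ = c by rw [Subgroup.mem_centralizer_iff.mp hcQ.2 g hg, mul_inv_cancel_right]] at h3
      rw [hc.pair_mul_right hcQ.1 hy h2, h3, ← hc.pair_mul_right hcQ.1 hy (Q.inv_mem hy), mul_inv_cancel,
        hc.pair_swap Q.one_mem hcQ.1, hc.pair_one hcQ.1, inv_one]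
    have huD := hD hu
    rw [hc.pair_mul_right hcQ.1 huD.1 hv.1, huD.2, one_mul]
    exact hno v (hCmem v hv)
  have h4 : 4 ≤ R.relIndex C := by
    have hfin : Finite (C ⧸ R.subgroupOf C) := inferInstance
    let f : Bool × Bool → C ⧸ R.subgroupOf C := fun ij =>
      QuotientGroup.mk ((if ij.1 then (⟨c, hCmem c hcQ⟩ : C) else 1) * (if ij.2 then (⟨y, hy⟩ : C) else 1))
    have hev : ∀ (u v : C), (QuotientGroup.mk u : C ⧸ R.subgroupOf C) = QuotientGroup.mk v → ∀ w ∈ Q,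
        pair χ (u : Γ) w = pair χ (v : Γ) w := by
      intro u v h w hw'
      have h0 : u⁻¹ * v ∈ R.subgroupOf C := QuotientGroup.eq.mp h
      have h1 : (u : Γ)⁻¹ * v ∈ R := h0
      have h2 : pair χ ((u : Γ) * ((u : Γ)⁻¹ * v)) w = pair χ (u : Γ) w * pair χ ((u : Γ)⁻¹ * v) w :=
        hc.pair_mul u.2.1 h1.1 hw'
      rw [mul_inv_cancel_left, h1.2 w hw', mul_one] at h2
      exact h2.symm
    have hcc : pair χ c c = 1 := by
      rw [pair_eq χ (hc.derived _ hcQ.1 _ hcQ.1)]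
      exact (congrArg χ (Subtype.ext (commutatorElement_self c))).trans (map_one χ)
    have hyy : pair χ y y = 1 := by
      rw [pair_eq χ (hc.derived _ hy.1 _ hy.1)]
      exact (congrArg χ (Subtype.ext (commutatorElement_self y))).trans (map_one χ)
    have hpy : ∀ i j : Bool, pair χ (((if i then (⟨c, hCmem c hcQ⟩ : C) else 1) * (if j then (⟨y, hy⟩ : C) else 1) : C) : Γ) y =
        if i then pair χ c y else 1 := by
      intro i j
      cases i <;> cases j <;> simp [hc.pair_one hy.1, hc.pair_mul hcQ.1 hy.1 hy.1, hyy]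
    have hpc : ∀ i j : Bool, pair χ (((if i then (⟨c, hCmem c hcQ⟩ : C) else 1) * (if j then (⟨y, hy⟩ : C) else 1) : C) : Γ) c =
        if j then pair χ y c else 1 := by
      intro i j
      cases i <;> cases j <;> simp [hc.pair_one hcQ.1, hc.pair_mul hcQ.1 hy.1 hcQ.1, hcc]
    have hyc : pair χ y c ≠ 1 := by rw [hc.pair_swap hcQ.1 hy.1, Ne, inv_eq_one]; exact hcy
    have hf : Function.Injective f := fun ij kl h => by
      have e1 := hev _ _ h y hy.1
      have e2 := hev _ _ h c hcQ.1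
      rw [hpy, hpy] at e1
      rw [hpc, hpc] at e2
      obtain ⟨i, j⟩ := ij
      obtain ⟨k, l⟩ := kl
      revert e1 e2
      cases i <;> cases j <;> cases k <;> cases l <;> simp [hcy, hyc, eq_comm (a := (1 : Kˣ))]
    have := Nat.card_le_card_of_injective f hf
    simpa [Subgroup.relIndex, Subgroup.index_eq_card] using this
  obtain ⟨k, rfl⟩ := Nat.exists_eq_add_of_le' hq.one_le
  rw [Nat.add_sub_cancel] at hb
  have h5 : (R.relIndex C) ^ k ≤ k ^ 2 := by
    have h6 := hpow.trans hb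
    rw [pow_succ] at h6
    exact Nat.le_of_mul_le_mul_right h6 (lt_of_lt_of_le (by norm_num) h4)
  have h7 : 4 ^ k ≤ k ^ 2 := (Nat.pow_le_pow_left h4 k).trans h5
  have h8 : k ^ 2 < (2 ^ k) ^ 2 := Nat.pow_lt_pow_left k.lt_two_pow_self two_ne_zero
  rw [← pow_mul, mul_comm k 2, pow_mul] at h8
  norm_num at h8
  exact absurd h8 (not_lt.mpr h7)

set_option maxHeartbeats 800000 in
/-- An element of prime order centralising `S` and `Z` and fixing nothing more of `Q` cannot kill a nontrivial weight. -/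
theorem CentralPair.isometry_case (hc : CentralPair Q S Z) (hχ : χ ≠ 1) (hw : ∃ f ∈ wt K W χ, f ≠ 0) {σ : Γ} {q r : ℕ}
    [Fact r.Prime] (hq : q.Prime) (hσ : orderOf σ = q) (hqK : (q : K) ≠ 0) (hQK : ((Nat.card Q : ℕ) : K) ≠ 0)
    (hQr : IsPGroup r Q) (hqS : (Nat.card S).Coprime q) (hqQ : q.Coprime (Nat.card Q)) (hexp : ∀ x ∈ Q, x ^ r ∈ Z)
    (hσQ : σ ∈ Subgroup.normalizer (Q : Set Γ)) (hσχ : σ ∈ charStab Z χ)
    (hNσ : ∀ f ∈ wt K W χ, avg (Subgroup.zpowers σ) f = 0) (hσS : ∀ s ∈ S, σ * s = s * σ)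
    (hσfix : ∀ x ∈ Q, σ * x = x * σ → x ∈ Z) : False := by
  classical
  set R := hc.rad χ with hR
  have hσR : σ ∈ Subgroup.normalizer (R : Set Γ) := hc.mem_normalizer_rad hσχ hσQ
  have hcopQ : (Nat.card (Subgroup.zpowers σ)).Coprime (Nat.card Q) := by rw [Nat.card_zpowers, hσ]; exact hqQ
  have hne := hc.rad_ne hχ hw
  have hfpf : ∀ x ∈ Q, σ * x * σ⁻¹ * x⁻¹ ∈ R → x ∈ R := by
    intro x hx h
    obtain ⟨c, hc', hxc⟩ := CfsgLib.coprime_fixed_quotient (Subgroup.zpowers_le.mpr hσQ) hcopQ (Or.inl inferInstance)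
      hc.rad_le hc.q_rad (Subgroup.zpowers_le.mpr hσR) hx (fun g hg => by
        obtain ⟨n, rfl⟩ := mem_powers_iff_mem_zpowers.mpr hg
        show σ ^ n * x * (σ ^ n)⁻¹ * x⁻¹ ∈ R
        clear hg
        induction n with
        | zero => simp
        | succ n ih =>
          have h1 := R.mul_mem (conj_mem hσR ih) h
          convert h1 using 1
          rw [pow_succ']; group)
    have hcZ := hσfix c hc'.1 (Subgroup.mem_centralizer_iff.mp hc'.2 σ (Subgroup.mem_zpowers σ))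
    have h1 := R.mul_mem (hc.z_le_rad hcZ) (R.inv_mem hxc)
    simpa using h1
  have hb := hc.bound hw hq hσ hqK hQK hσQ hσχ hNσ R (fun x =>
    ⟨fun hx => ⟨hx.1, R.mul_mem (conj_mem hσR hx) (R.inv_mem hx)⟩, fun h => hfpf x h.1 h.2⟩)
  rw [Subgroup.relIndex_self, mul_one] at hb
  have hrQ : r ∣ Nat.card Q := by
    obtain ⟨j, hj⟩ := IsPGroup.iff_card.mp hQr
    rw [hj]
    refine dvd_pow_self r fun h0 => hne ?_
    rw [h0, pow_zero, Subgroup.card_eq_one] at hj
    exact (le_of_eq hj).trans bot_le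
  have hrK : (r : K) ≠ 0 := fun h => hQK (by obtain ⟨j, hj⟩ := hrQ; rw [hj, Nat.cast_mul, h, zero_mul])
  have := subgroupOf_normal_of_le (hc.q_rad (χ := χ))
  letI : CommGroup (Q ⧸ R.subgroupOf Q) :=
    { (inferInstance : Group (Q ⧸ R.subgroupOf Q)) with
      mul_comm := mk_comm fun x hx y hy => hc.z_le_rad (hc.derived x hx y hy) }
  let X := (Subgroup.normalizer (Q : Set Γ) ⊓ Subgroup.normalizer (R : Set Γ) : Subgroup Γ)
  let U := Additive (Q ⧸ R.subgroupOf Q)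
  let Ψ : X →* AddMonoid.End U :=
    { toFun := fun g =>
        { toFun := fun v => Additive.ofMul (sectAct Q R g v.toMul)
          map_zero' := congrArg Additive.ofMul (map_one (sectAct Q R g))
          map_add' := fun v w => congrArg Additive.ofMul (map_mul (sectAct Q R g) _ _) }
      map_one' := AddMonoidHom.ext fun v => by
        show Additive.ofMul (sectAct Q R 1 v.toMul) = v
        rw [map_one]; rfl
      map_mul' := fun g h => AddMonoidHom.ext fun v => by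
        show Additive.ofMul (sectAct Q R (g * h) v.toMul) = _
        rw [map_mul]; rfl }
  let mk : Q → U := fun x => Additive.ofMul (QuotientGroup.mk x)
  have hmk : ∀ u : U, ∃ x : Q, mk x = u := fun u => by
    obtain ⟨x, hx⟩ := QuotientGroup.mk_surjective u.toMul
    exact ⟨x, congrArg Additive.ofMul hx⟩
  choose rep hrep using hmk
  have hwd : ∀ (x x' : Q) (y : Γ), y ∈ Q → mk x = mk x' → pair χ (x : Γ) y = pair χ (x' : Γ) y := by
    intro x x' y hy h
    have h0 : x⁻¹ * x' ∈ R.subgroupOf Q := QuotientGroup.eq.mp (congrArg Additive.toMul h)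
    have h1 : (x : Γ)⁻¹ * x' ∈ R := h0
    have h2 : pair χ ((x : Γ) * ((x : Γ)⁻¹ * x')) y = pair χ (x : Γ) y * pair χ ((x : Γ)⁻¹ * x') y :=
      hc.pair_mul x.2 h1.1 hy
    rw [mul_inv_cancel_left, h1.2 y hy, mul_one] at h2
    exact h2.symm
  let B : U → U → Kˣ := fun u v => pair χ (rep u : Γ) (rep v : Γ)
  have hB : ∀ x y : Q, B (mk x) (mk y) = pair χ (x : Γ) y := fun x y => by
    show pair χ (rep (mk x) : Γ) (rep (mk y) : Γ) = _
    rw [hwd _ x _ (rep (mk y)).2 (hrep _), hc.pair_swap (rep (mk y)).2 x.2, hwd _ y _ x.2 (hrep _),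
      ← hc.pair_swap y.2 x.2]
  have hmk' : ∀ x y : Q, mk (x * y) = mk x + mk y := fun _ _ => rfl
  have hisom : ∀ (g : X), (g : Γ) ∈ charStab Z χ → ∀ u v, B (Ψ g u) (Ψ g v) = B u v := by
    intro g hg u v
    conv_lhs => rw [← hrep u, ← hrep v]
    show B (mk ⟨_, conj_mem g.2.1 (rep u).2⟩) (mk ⟨_, conj_mem g.2.1 (rep v).2⟩) = _
    rw [hB]
    exact hc.pair_conj hg (rep u).2 (rep v).2
  have hΨ1 : ∀ (g : X) (x : Q), Ψ g (mk x) = mk x ↔ (g : Γ) * x * (g : Γ)⁻¹ * (x : Γ)⁻¹ ∈ R := fun g x =>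
    ⟨fun h => (mk_eq_mk_iff hc.q_rad _ _).mp (congrArg Additive.toMul h),
     fun h => congrArg Additive.ofMul ((mk_eq_mk_iff hc.q_rad _ _).mpr h)⟩
  have hr' : ∀ u : U, r • u = 0 := fun u => by
    obtain ⟨x, rfl⟩ : ∃ x, mk x = u := ⟨_, hrep u⟩
    apply Additive.toMul.injective
    show (QuotientGroup.mk x : Q ⧸ R.subgroupOf Q) ^ r = 1
    rw [← QuotientGroup.mk_pow, QuotientGroup.eq_one_iff]
    exact hc.z_le_rad (hexp x x.2)
  have hUc : Nat.card U ≤ (q - 1) ^ 2 := by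
    rw [Nat.card_congr Additive.toMul]; exact hb
  let σ' : X := ⟨σ, hσQ, hσR⟩
  refine hne fun x hx => hc.fix_rad x hx fun s hs => ?_
  let s' : X := ⟨s, hc.sQ hs, hc.s_rad hs⟩
  have key : Ψ s' = 1 := by
    refine no_isometry (L := K) hq hrK hr' B (fun u u' v => ?_) (fun u v => hc.pair_swap (rep u).2 (rep v).2)
      (fun u hu => ?_) (Ψ σ') (Ψ s') ?_ (fun u hu => ?_) (hisom σ' hσχ) (hisom s' (hc.s_stab hs)) ?_
      (n := Nat.card S) ?_ hqS hUc
    · conv_lhs => rw [← hrep u, ← hrep u', ← hrep v, ← hmk', hB]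
      rw [Subgroup.coe_mul, hc.pair_mul (rep u).2 (rep u').2 (rep v).2]
    · rw [← hrep u]
      apply Additive.toMul.injective
      show (QuotientGroup.mk (rep u) : Q ⧸ R.subgroupOf Q) = 1
      rw [QuotientGroup.eq_one_iff]
      refine ⟨(rep u).2, fun y hy => ?_⟩
      show pair χ (rep u : Γ) ((⟨y, hy⟩ : Q) : Γ) = 1
      rw [← hB (rep u) ⟨y, hy⟩, hrep]
      exact hu _
    · rw [← map_pow, show σ' ^ q = 1 from Subtype.ext (by
        show σ ^ q = 1
        rw [← hσ, pow_orderOf_eq_one]), map_one]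
    · rw [← hrep u] at hu ⊢
      apply Additive.toMul.injective
      show (QuotientGroup.mk (rep u) : Q ⧸ R.subgroupOf Q) = 1
      rw [QuotientGroup.eq_one_iff]
      exact hfpf _ (rep u).2 ((hΨ1 σ' _).mp hu)
    · rw [← map_mul, ← map_mul, show s' * σ' = σ' * s' from Subtype.ext (hσS s hs).symm]
    · rw [← map_pow, show s' ^ Nat.card S = 1 from Subtype.ext (by
        show s ^ Nat.card S = 1
        exact congrArg Subtype.val (pow_card_eq_one' (x := (⟨s, hs⟩ : S)))), map_one]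
  exact (hΨ1 s' ⟨x, hx⟩).mp (by rw [key]; rfl)

end CfsgLib.FittingHeight
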