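/-
Weights in the dual of a module without fixed points of an operator group of order `pq`.
-/
import Mathlib
import Cfsg.Agent.Lib.FittingHeight.Dual
import Cfsg.Agent.Lib.FittingHeight.Ward

set_option autoImplicit false

open scoped commutatorElement IsMulCommutative
open Finset

namespace CfsgLib.FittingHeight

universe u v w

variable {Γ : Type u} [Group Γ] [Finite Γ]

/-- A group of order `pq` with a normal element of order `q`, whose other elements have order `p` and move it. -/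
structure PQGroup (A : Subgroup Γ) (σ : Γ) (p q : ℕ) : Prop where
  pPrime : p.Prime
  qPrime : q.Prime
  ne : p ≠ q
  card : Nat.card A = p * q
  mem : σ ∈ A
  order : orderOf σ = q
  norm : ∀ a ∈ A, a * σ * a⁻¹ ∈ Subgroup.zpowers σ
  out : ∀ a ∈ A, a ∉ Subgroup.zpowers σ → orderOf a = p
  free : ∀ a ∈ A, a ∉ Subgroup.zpowers σ → a * σ ≠ σ * a

variable {A : Subgroup Γ} {σ : Γ} {p q : ℕ}

theorem PQGroup.normalizes (h : PQGroup A σ p q) : A ≤ Subgroup.normalizer (Subgroup.zpowers σ : Set Γ) := by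
  intro a ha
  have key : ∀ a ∈ A, ∀ y ∈ Subgroup.zpowers σ, a * y * a⁻¹ ∈ Subgroup.zpowers σ := by
    intro a ha y hy
    obtain ⟨i, rfl⟩ := Subgroup.mem_zpowers_iff.mp hy
    rw [← conj_zpow]
    exact zpow_mem (h.norm a ha) i
  rw [Subgroup.mem_normalizer_iff]
  exact fun x => ⟨key a ha x, fun h' => by simpa [mul_assoc] using key a⁻¹ (A.inv_mem ha) _ h'⟩

theorem PQGroup.zpowers_eq (h : PQGroup A σ p q) {z : Γ} (hz : z ∈ Subgroup.zpowers σ) (hz1 : z ≠ 1) :
    Subgroup.zpowers z = Subgroup.zpowers σ := by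
  refine Subgroup.eq_of_le_of_card_ge (Subgroup.zpowers_le.mpr hz) (le_of_eq ?_)
  rw [Nat.card_zpowers, Nat.card_zpowers, h.order]
  have := Fact.mk h.qPrime
  refine (orderOf_eq_prime ?_ hz1).symm
  obtain ⟨i, rfl⟩ := Subgroup.mem_zpowers_iff.mp hz
  rw [← h.order, ← zpow_natCast, ← zpow_mul, mul_comm, zpow_mul, zpow_natCast, pow_orderOf_eq_one, one_zpow]

theorem PQGroup.le_of_mem (h : PQGroup A σ p q) {a : Γ} (ha : a ∈ A) (ha' : a ∉ Subgroup.zpowers σ) {H : Subgroup Γ}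
    (hσ : σ ∈ H) (haH : a ∈ H) : A ≤ H := by
  have h1 : q ∣ Nat.card (A ⊓ H : Subgroup Γ) := h.order ▸ Subgroup.orderOf_dvd_natCard _ ⟨h.mem, hσ⟩
  have h2 : p ∣ Nat.card (A ⊓ H : Subgroup Γ) := h.out a ha ha' ▸ Subgroup.orderOf_dvd_natCard _ ⟨ha, haH⟩
  have h3 : Nat.card A ∣ Nat.card (A ⊓ H : Subgroup Γ) := by
    rw [h.card]
    exact ((Nat.coprime_primes h.pPrime h.qPrime).mpr h.ne).mul_dvd_of_dvd_of_dvd h2 h1
  exact (Subgroup.eq_of_le_of_card_ge inf_le_left (Nat.le_of_dvd Nat.card_pos h3)).ge.trans inf_le_right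

theorem PQGroup.fixed (h : PQGroup A σ p q) {a : Γ} (ha : a ∈ A) (ha' : a ∉ Subgroup.zpowers σ) {x : Γ}
    (hσ : σ * x = x * σ) (hax : a * x = x * a) : ∀ b ∈ A, b * x = x * b := fun b hb =>
  Subgroup.mem_centralizer_singleton_iff.mp
    (h.le_of_mem ha ha' (H := Subgroup.centralizer ({x} : Set Γ)) (Subgroup.mem_centralizer_singleton_iff.mpr hσ)
      (Subgroup.mem_centralizer_singleton_iff.mpr hax) hb)

theorem PQGroup.free_pow (h : PQGroup A σ p q) {a : Γ} (ha : a ∈ A) (ha' : a ∉ Subgroup.zpowers σ) :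
    ∀ z ∈ Subgroup.zpowers σ, a * z * a⁻¹ = z → z = 1 := by
  intro z hz hc
  by_contra hz1
  apply h.free a ha ha'
  have h1 : a ∈ Subgroup.centralizer ({z} : Set Γ) :=
    Subgroup.mem_centralizer_singleton_iff.mpr (mul_inv_eq_iff_eq_mul.mp hc)
  obtain ⟨i, hi⟩ := Subgroup.mem_zpowers_iff.mp ((h.zpowers_eq hz hz1).ge (Subgroup.mem_zpowers σ))
  rw [← hi]
  exact ((show Commute a z from mul_inv_eq_iff_eq_mul.mp hc).zpow_right i).eq

variable {E : Subgroup Γ} {K : Type v} [Field K] {W : Type w} [AddCommGroup W] [Module K W] [DistribMulAction Γ W]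
  [SMulCommClass Γ K W] {χ : E →* Kˣ}

/-- A nonzero weight is stabilised by some non-identity operator; if `σ` moves it, by one of order `p` killing it. -/
theorem PQGroup.exists_stab [IsMulCommutative E] (h : PQGroup A σ p q) (hAE : A ≤ Subgroup.normalizer (E : Set Γ))
    (hE : ((Nat.card E : ℕ) : K) ≠ 0) (hA : ∀ f : W, avg A f = 0) (hw : ∃ f ∈ wt K W χ, f ≠ 0)
    (hσ : σ ∉ charStab E χ) :
    ∃ τ ∈ A, τ ∉ Subgroup.zpowers σ ∧ τ ∈ charStab E χ ∧ ∀ f ∈ wt K W χ, avg (Subgroup.zpowers τ) f = 0 := by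
  have hkey : ∀ f ∈ wt K W χ, avg (A ⊓ charStab E χ) f = 0 := fun f hf => avg_inf_charStab hE hAE hf (hA f)
  obtain ⟨f₀, hf₀, hf0⟩ := hw
  obtain ⟨τ, hτ, hτ1⟩ : ∃ τ ∈ A ⊓ charStab E χ, τ ≠ 1 := by
    by_contra hno
    push Not at hno
    apply hf0
    have h1 := hkey f₀ hf₀
    rw [avg_fixed _ (fun b hb => by rw [hno b hb, one_smul]),
      Subgroup.card_eq_one.mpr ((Subgroup.eq_bot_iff_forall _).mpr hno), one_smul] at h1
    exact h1
  have hτσ : τ ∉ Subgroup.zpowers σ := fun hz =>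
    hσ (Subgroup.zpowers_le.mpr hτ.2 ((h.zpowers_eq hz hτ1).ge (Subgroup.mem_zpowers σ)))
  refine ⟨τ, hτ.1, hτσ, hτ.2, fun f hf => ?_⟩
  have hle : A ⊓ charStab E χ ≤ Subgroup.zpowers τ := by
    intro y hy
    by_contra hyτ
    have hyσ : y ∉ Subgroup.zpowers σ := fun hz => by
      rcases eq_or_ne y 1 with rfl | hy1
      · exact hyτ (Subgroup.one_mem _)
      · exact hσ (Subgroup.zpowers_le.mpr hy.2 ((h.zpowers_eq hz hy1).ge (Subgroup.mem_zpowers σ)))
    have hq : ¬ q ∣ Nat.card (A ⊓ charStab E χ : Subgroup Γ) := by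
      intro hd
      have := Fact.mk h.qPrime
      obtain ⟨z, hz⟩ := exists_prime_orderOf_dvd_card' q hd
      have hz1 : (z : Γ) ≠ 1 := fun e => h.qPrime.one_lt.ne (by rw [← hz, ← Subgroup.orderOf_coe, e, orderOf_one])
      have hzσ : (z : Γ) ∈ Subgroup.zpowers σ := by
        by_contra hz'
        exact h.ne (by rw [← h.out z z.2.1 hz', Subgroup.orderOf_coe, hz])
      exact hσ (Subgroup.zpowers_le.mpr z.2.2 ((h.zpowers_eq hzσ hz1).ge (Subgroup.mem_zpowers σ)))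
    have hd : Nat.card (A ⊓ charStab E χ : Subgroup Γ) ∣ p * q :=
      h.card ▸ Subgroup.card_dvd_of_le inf_le_left
    have hp' := (Nat.Coprime.dvd_of_dvd_mul_right ((h.qPrime.coprime_iff_not_dvd.mpr hq).symm) hd)
    have he : Subgroup.zpowers τ = A ⊓ charStab E χ := Subgroup.eq_of_le_of_card_ge (Subgroup.zpowers_le.mpr hτ)
      (by rw [Nat.card_zpowers, h.out τ hτ.1 hτσ]; exact Nat.le_of_dvd h.pPrime.pos hp')
    exact hyτ (he.ge hy)
  rw [← le_antisymm hle (Subgroup.zpowers_le.mpr hτ)]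
  exact hkey f hf

variable {t : ℕ} {M : Type w} [AddCommGroup M] [DistribMulAction Γ M]

/-- Elements fixing the fixed points of `σ` fix the weights moved by `σ`. -/
theorem PQGroup.smul_eq_self [IsMulCommutative E] (h : PQGroup A σ p q) (hAE : A ≤ Subgroup.normalizer (E : Set Γ))
    (hE : ((Nat.card E : ℕ) : K) ≠ 0) {χ : E →* Kˣ} (hσ : σ ∉ charStab E χ) {x : Γ} (hxσ : σ * x = x * σ)
    (hxM : ∀ m : M, σ • m = m → x • m = m) (hxE : ∀ e ∈ E, x * e = e * x) {f : Dual M K}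
    (hf : f ∈ wt K (Dual M K) χ) : x • f = f := by
  set B := Subgroup.zpowers σ
  have hxB : x ∈ Subgroup.normalizer (B : Set Γ) := by
    rw [Subgroup.mem_normalizer_iff]
    intro y
    have key : ∀ z ∈ B, x * z * x⁻¹ = z := fun z hz => by
      obtain ⟨i, rfl⟩ := Subgroup.mem_zpowers_iff.mp hz
      rw [((show Commute σ x from hxσ).zpow_left i).symm.eq, mul_inv_cancel_right]
    refine ⟨fun hy => by rw [key y hy]; exact hy, fun hy => ?_⟩
    have h1 := key _ hy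
    have h2 : x * y * x⁻¹ = y := mul_left_cancel (mul_right_cancel h1)
    rwa [h2] at hy
  have hg : x • f - f ∈ wt K (Dual M K) χ := by
    refine Submodule.sub_mem _ ?_ hf
    intro e
    rw [← mul_smul, ← hxE e e.2, mul_smul, hf e, smul_comm]
  have h1 : avg B (x • f - f) = 0 := by
    rw [avg_sub, avg_conj B hxB, Dual.smul_avg_eq B hxB (fun m hm => hxM m (hm σ (Subgroup.mem_zpowers σ))) f, sub_self]
  have hbot : B ⊓ charStab E χ = ⊥ := by
    refine (Subgroup.eq_bot_iff_forall _).mpr fun y hy => ?_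
    by_contra hy1
    exact hσ (Subgroup.zpowers_le.mpr hy.2 ((h.zpowers_eq hy.1 hy1).ge (Subgroup.mem_zpowers σ)))
  have h2 := avg_inf_charStab hE (Subgroup.zpowers_le.mpr (hAE h.mem)) hg h1
  rw [hbot, avg_fixed _ (fun b hb => by rw [Subgroup.mem_bot.mp hb, one_smul]), Subgroup.card_bot, one_smul] at h2
  exact sub_eq_zero.mp h2

/-- A weight moved by an element fixing the fixed points of `σ` and stable under `σ` is killed by the `σ`-sum. -/
theorem avg_eq_zero_of_moved {χ : E →* Kˣ} (hσ : σ ∈ charStab E χ) {x : E} (hxσ : σ * (x : Γ) = x * σ)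
    (hxM : ∀ m : M, σ • m = m → (x : Γ) • m = m) (hx : χ x ≠ 1) :
    ∀ f ∈ wt K (Dual M K) χ, avg (Subgroup.zpowers σ) f = (0 : Dual M K) := by
  intro f hf
  set B := Subgroup.zpowers σ
  have hBx : (x : Γ) ∈ Subgroup.normalizer (B : Set Γ) := by
    rw [Subgroup.mem_normalizer_iff]
    intro y
    have key : ∀ z ∈ B, (x : Γ) * z * (x : Γ)⁻¹ = z := fun z hz => by
      obtain ⟨i, rfl⟩ := Subgroup.mem_zpowers_iff.mp hz
      rw [((show Commute σ x from hxσ).zpow_left i).symm.eq, mul_inv_cancel_right]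
    refine ⟨fun hy => by rw [key y hy]; exact hy, fun hy => ?_⟩
    have h1 := key _ hy
    have h2 : (x : Γ) * y * (x : Γ)⁻¹ = y := mul_left_cancel (mul_right_cancel h1)
    rwa [h2] at hy
  have hmem : avg B f ∈ wt K (Dual M K) χ := by
    have := Fintype.ofFinite B
    rw [avg_eq]
    exact Submodule.sum_mem _ fun b _ => smul_mem_wt (Subgroup.zpowers_le.mpr hσ b.2) hf
  have h1 := Dual.smul_avg_eq B hBx (fun m hm => hxM m (hm σ (Subgroup.mem_zpowers σ))) f
  rw [hmem x] at h1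
  have h2 : ((χ x : K) - 1) • avg B f = 0 := by rw [sub_smul, one_smul, h1, sub_self]
  exact (smul_eq_zero.mp h2).resolve_left fun h => hx (Units.ext (sub_eq_zero.mp h))

/-- Conjugate weights. -/
theorem exists_conj_weight (χ : E →* Kˣ) {g : Γ} (hg : g ∈ Subgroup.normalizer (E : Set Γ)) :
    ∃ χ' : E →* Kˣ, (∀ e : E, χ' e = χ ⟨g * e * g⁻¹, conj_mem hg e.2⟩) ∧
      (∀ f ∈ wt K W χ, g⁻¹ • f ∈ wt K W χ') ∧
      (∀ a ∈ charStab E χ', g * a * g⁻¹ ∈ charStab E χ) := by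
  let χ' : E →* Kˣ :=
    { toFun := fun e => χ ⟨g * e * g⁻¹, conj_mem hg e.2⟩
      map_one' := by rw [← map_one χ]; exact congrArg χ (Subtype.ext (by simp))
      map_mul' := fun x y => by rw [← map_mul]; exact congrArg χ (Subtype.ext (by simp [mul_assoc])) }
  refine ⟨χ', fun e => rfl, fun f hf e => ?_, fun a ha => ?_⟩
  · calc (e : Γ) • g⁻¹ • f = g⁻¹ • (g * e * g⁻¹) • f := by simp [mul_smul]
      _ = _ := by rw [hf ⟨g * e * g⁻¹, conj_mem hg e.2⟩, smul_comm]; rfl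
  · obtain ⟨ha1, ha2⟩ := ha
    have hn : g * a * g⁻¹ ∈ Subgroup.normalizer (E : Set Γ) := mul_mem (mul_mem hg ha1) (inv_mem hg)
    refine (mem_charStab hn).mpr fun e => ?_
    have h1 := ha2 ⟨g⁻¹ * e * g, conj_mem_inv hg e.2⟩
    change χ _ = χ _ at h1
    simpa [mul_assoc] using h1

/-- A character fixed by `S` is trivial on `[E, S]`. -/
theorem eq_one_of_stab {S : Subgroup Γ} (hES : ⁅E, S⁆ = E) {χ : E →* Kˣ} (hS : S ≤ charStab E χ) : χ = 1 := by
  refine MonoidHom.ext fun e => ?_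
  have hker : E ≤ χ.ker.map E.subtype := by
    conv_lhs => rw [← hES]
    rw [Subgroup.commutator_le]
    intro x hx s hs
    obtain ⟨hsn, hs'⟩ := hS hs
    refine ⟨⟨x, hx⟩ * ⟨s * x⁻¹ * s⁻¹, conj_mem hsn (E.inv_mem hx)⟩, ?_, by simp [commutatorElement_def, mul_assoc]⟩
    show _ ∈ χ.ker
    rw [MonoidHom.mem_ker, map_mul, hs' ⟨x⁻¹, E.inv_mem hx⟩, ← map_mul,
      show (⟨x, hx⟩ * ⟨x⁻¹, E.inv_mem hx⟩ : E) = 1 from Subtype.ext (mul_inv_cancel x), map_one]
  obtain ⟨y, hy, hye⟩ := hker e.2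
  rw [show e = y from Subtype.ext hye.symm]
  exact hy

end CfsgLib.FittingHeight
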