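/-
A group acted on without fixed points by the symmetric group of degree three, faithfully acting on a module
without fixed points, is abelian.
-/
import Mathlib
import Cfsg.Agent.Lib.FittingHeight.Pairing
import Cfsg.Agent.Lib.FittingHeight.FrobeniusWeights
import Cfsg.Agent.Lib.FittingHeight.Central

set_option autoImplicit false

open scoped commutatorElement IsMulCommutative
open Finset

namespace CfsgLib.FittingHeight

universe u v w

variable {Γ : Type u} [Group Γ] [Finite Γ] {N : Type v} [CommGroup N]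

/-- A homomorphism that is invariant under `b` and trivial on the fixed points of `b` is trivial. -/
theorem eq_one_of_invariant {H : Subgroup Γ} {b : Γ} (hbH : b ∈ Subgroup.normalizer (H : Set Γ))
    (hcop : (orderOf b).Coprime (Nat.card H)) (f : H →* N)
    (hinv : ∀ h : H, f ⟨b * h * b⁻¹, conj_mem hbH h.2⟩ = f h)
    (hfix : ∀ h : H, b * (h : Γ) = h * b → f h = 1) (h : H) : f h = 1 := by
  obtain ⟨x, hx, c, hc, hxc⟩ := coprime_decomp (Subgroup.zpowers_le.mpr hbH)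
    (by rw [Nat.card_zpowers]; exact hcop) (Or.inl inferInstance) h.2
  have hker : ⁅H, Subgroup.zpowers b⁆ ≤ f.ker.map H.subtype := by
    rw [Subgroup.commutator_le]
    intro y hy g hg
    obtain ⟨n, rfl⟩ := mem_powers_iff_mem_zpowers.mpr hg
    show ⁅y, b ^ n⁆ ∈ _
    have hbn : b ^ n ∈ Subgroup.normalizer (H : Set Γ) := pow_mem hbH n
    refine ⟨⟨y, hy⟩ * ⟨b ^ n * y⁻¹ * (b ^ n)⁻¹, conj_mem hbn (H.inv_mem hy)⟩, ?_,
      by simp [commutatorElement_def, mul_assoc]⟩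
    show _ ∈ f.ker
    have hn : ∀ (m : ℕ) (z : H) (hz : b ^ m * z * (b ^ m)⁻¹ ∈ H), f ⟨_, hz⟩ = f z := by
      intro m
      induction m with
      | zero => intro z hz; exact congrArg f (Subtype.ext (by simp))
      | succ m ih =>
        intro z hz
        have hz' : b ^ m * z * (b ^ m)⁻¹ ∈ H := conj_mem (pow_mem hbH m) z.2
        rw [← ih z hz', ← hinv ⟨_, hz'⟩]
        exact congrArg f (Subtype.ext (by
          show b ^ (m + 1) * (z : Γ) * (b ^ (m + 1))⁻¹ = b * (b ^ m * z * (b ^ m)⁻¹) * b⁻¹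
          rw [pow_succ']; group))
    rw [MonoidHom.mem_ker, map_mul, hn n ⟨y⁻¹, H.inv_mem hy⟩, ← map_mul,
      show (⟨y, hy⟩ * ⟨y⁻¹, H.inv_mem hy⟩ : H) = 1 from Subtype.ext (mul_inv_cancel y), map_one]
  obtain ⟨x', hx', hxx⟩ := hker hx
  have hc' : f ⟨c, hc.1⟩ = 1 := hfix ⟨c, hc.1⟩ (Subgroup.mem_centralizer_iff.mp hc.2 b (Subgroup.mem_zpowers b))
  rw [show h = x' * ⟨c, hc.1⟩ from Subtype.ext (by rw [hxc, ← hxx]; rfl), map_mul, hc', mul_one]
  exact hx'

/-- The product over an orbit of length three of a homomorphism trivial on fixed points. -/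
theorem orbit_prod {H : Subgroup Γ} {b : Γ} (hbH : b ∈ Subgroup.normalizer (H : Set Γ)) (hb3 : orderOf b = 3)
    (hcop : Nat.Coprime 3 (Nat.card H)) (f : H →* N) (hfix : ∀ h : H, b * (h : Γ) = h * b → f h = 1) (h : H) :
    f h * f ⟨b * h * b⁻¹, conj_mem hbH h.2⟩ * f ⟨b * (b * h * b⁻¹) * b⁻¹, conj_mem hbH (conj_mem hbH h.2)⟩ = 1 := by
  let F : H →* N :=
    { toFun := fun h => f h * f ⟨b * h * b⁻¹, conj_mem hbH h.2⟩ *
        f ⟨b * (b * h * b⁻¹) * b⁻¹, conj_mem hbH (conj_mem hbH h.2)⟩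
      map_one' := by
        rw [show (⟨b * ((1 : H) : Γ) * b⁻¹, conj_mem hbH (1 : H).2⟩ : H) = 1 from Subtype.ext (by simp),
          show (⟨b * (b * ((1 : H) : Γ) * b⁻¹) * b⁻¹, conj_mem hbH (conj_mem hbH (1 : H).2)⟩ : H) = 1 from
            Subtype.ext (by simp), map_one, one_mul, one_mul]
      map_mul' := fun x y => by
        rw [show (⟨b * ((x * y : H) : Γ) * b⁻¹, conj_mem hbH (x * y).2⟩ : H) =
            ⟨b * x * b⁻¹, conj_mem hbH x.2⟩ * ⟨b * y * b⁻¹, conj_mem hbH y.2⟩ from Subtype.ext (by simp [mul_assoc]),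
          show (⟨b * (b * ((x * y : H) : Γ) * b⁻¹) * b⁻¹, conj_mem hbH (conj_mem hbH (x * y).2)⟩ : H) =
            ⟨b * (b * x * b⁻¹) * b⁻¹, conj_mem hbH (conj_mem hbH x.2)⟩ *
              ⟨b * (b * y * b⁻¹) * b⁻¹, conj_mem hbH (conj_mem hbH y.2)⟩ from Subtype.ext (by simp [mul_assoc]),
          map_mul, map_mul, map_mul]
        rw [mul_mul_mul_comm (f x) (f y), mul_mul_mul_comm] }
  refine eq_one_of_invariant hbH (hb3.symm ▸ hcop) F (fun x => ?_) (fun x hx => ?_) h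
  · show f _ * f _ * f _ = f x * f _ * f _
    have e : b * (b * (b * (x : Γ) * b⁻¹) * b⁻¹) * b⁻¹ = x := by
      have h3 : b * b * b = 1 := by rw [← pow_three', ← hb3, pow_orderOf_eq_one]
      calc b * (b * (b * (x : Γ) * b⁻¹) * b⁻¹) * b⁻¹ = (b * b * b) * x * (b * b * b)⁻¹ := by group
        _ = _ := by rw [h3]; simp
    rw [show (⟨b * (b * (b * (x : Γ) * b⁻¹) * b⁻¹) * b⁻¹, conj_mem hbH (conj_mem hbH (conj_mem hbH x.2))⟩ : H) = x
      from Subtype.ext e, mul_comm, ← mul_assoc]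
  · show f x * f _ * f _ = 1
    rw [hfix x hx, one_mul]
    have e : b * (x : Γ) * b⁻¹ = x := by rw [hx, mul_inv_cancel_right]
    rw [show (⟨b * (x : Γ) * b⁻¹, conj_mem hbH x.2⟩ : H) = x from Subtype.ext e,
      show (⟨b * (b * (x : Γ) * b⁻¹) * b⁻¹, conj_mem hbH (conj_mem hbH x.2)⟩ : H) = x from Subtype.ext ((congrArg (fun y => b * y * b⁻¹) e).trans e),
      hfix x hx, mul_one]

theorem normalizer_lcs {R : Subgroup Γ} {g : Γ} (hg : g ∈ Subgroup.normalizer (R : Set Γ)) (n : ℕ) :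
    g ∈ Subgroup.normalizer (R.lowerCentralSeries n : Set Γ) := by
  have hmap : (R.lowerCentralSeries n).map (MulAut.conj g).toMonoidHom = R.lowerCentralSeries n := by
    rw [Subgroup.map_lowerCentralSeries]
    congr 1
    ext x
    constructor
    · rintro ⟨y, hy, rfl⟩; exact conj_mem hg hy
    · intro hx
      exact ⟨g⁻¹ * x * g, conj_mem_inv hg hx, by simp [mul_assoc]⟩
  rw [Subgroup.mem_normalizer_iff]
  intro x
  constructor
  · intro hx; exact hmap.le ⟨x, hx, rfl⟩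
  · intro hx
    obtain ⟨y, hy, he⟩ := hmap.ge hx
    exact (MulAut.conj g).injective he ▸ hy

set_option maxHeartbeats 1600000 in
/-- The configuration for the symmetric group of degree three is abelian. -/
theorem derived_core {M : Type w} [AddCommGroup M] [Finite M] [DistribMulAction Γ M] {R A : Subgroup Γ} {σ : Γ}
    {l t : ℕ} (hA : PQGroup A σ 2 3) (hl : l.Prime) (hl5 : 5 ≤ l) [Fact t.Prime] (hM : ∀ m : M, t • m = 0)
    (hRl : IsPGroup l R) (hRt : ¬ t ∣ Nat.card R) (hAt : ¬ t ∣ Nat.card A)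
    (hAR : A ≤ Subgroup.normalizer (R : Set Γ)) (hfaith : ∀ x ∈ R, (∀ v : M, x • v = v) → x = 1)
    (hfpfM : ∀ v : M, (∀ a ∈ A, a • v = v) → v = 0)
    (hnilM : ∀ x ∈ R, σ * x = x * σ → ∀ v : M, σ • v = v → x • v = v)
    (hab : ∀ x ∈ R, σ * x = x * σ → ∀ y ∈ R, σ * y = y * σ → x * y = y * x) :
    ∀ x ∈ R, ∀ y ∈ R, x * y = y * x := by
  classical
  have := Fact.mk hl
  by_contra hnab
  push Not at hnab
  obtain ⟨x₀, hx₀, y₀, hy₀, hxy₀⟩ := hnab
  have hRn := hRl.isNilpotent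
  -- the last term of the lower central series
  have hex : ∃ n, R.lowerCentralSeries n = ⊥ := (Subgroup.isNilpotent_iff_lowerCentralSeries R).mp hRn
  obtain ⟨m, hm1, hm2⟩ : ∃ m, R.lowerCentralSeries (m + 1) ≠ ⊥ ∧ R.lowerCentralSeries (m + 2) = ⊥ := by
    have h1 : R.lowerCentralSeries 1 ≠ ⊥ := fun h => hxy₀ (commutatorElement_eq_one_iff_mul_comm.mp
      (Subgroup.mem_bot.mp (h ▸ (Subgroup.lowerCentralSeries_succ R 0 ▸ Subgroup.commutator_mem_commutator hx₀ hy₀ :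
        ⁅x₀, y₀⁆ ∈ R.lowerCentralSeries 1))))
    obtain ⟨n, hn, hmin⟩ : ∃ n, R.lowerCentralSeries n = ⊥ ∧ ∀ k < n, R.lowerCentralSeries k ≠ ⊥ :=
      ⟨Nat.find hex, Nat.find_spec hex, fun k hk => Nat.find_min hex hk⟩
    have hn2 : 2 ≤ n := by
      by_contra h
      exact h1 (le_bot_iff.mp ((R.lowerCentralSeries_antitone (show n ≤ 1 by omega)).trans hn.le))
    exact ⟨n - 2, hmin _ (by omega), by rw [show n - 2 + 2 = n by omega]; exact hn⟩
  set Z := R.lowerCentralSeries (m + 1) with hZ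
  set Y := R.lowerCentralSeries m with hY
  have hZR : Z ≤ R := Subgroup.lowerCentralSeries_le_self R _
  have hYR : Y ≤ R := Subgroup.lowerCentralSeries_le_self R _
  have hZY : Z = ⁅Y, R⁆ := Subgroup.lowerCentralSeries_succ R m
  have hZc : ∀ z ∈ Z, ∀ x ∈ R, z * x = x * z := fun z hz x hx => by
    have h : ⁅z, x⁆ ∈ R.lowerCentralSeries (m + 2) := by
      rw [Subgroup.lowerCentralSeries_succ]; exact Subgroup.commutator_mem_commutator hz hx
    rw [hm2, Subgroup.mem_bot] at h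
    exact commutatorElement_eq_one_iff_mul_comm.mp h
  have hRY : ∀ x ∈ R, ∀ y ∈ Y, ⁅x, y⁆ ∈ Z := fun x hx y hy => by
    rw [hZY, Subgroup.commutator_comm]; exact Subgroup.commutator_mem_commutator hx hy
  have : IsMulCommutative Z := ⟨⟨fun x y => Subtype.ext (hZc x x.2 y (hZR y.2))⟩⟩
  have hAY : A ≤ Subgroup.normalizer (Y : Set Γ) := fun a ha => normalizer_lcs (hAR ha) m
  have hAZ : A ≤ Subgroup.normalizer (Z : Set Γ) := fun a ha => normalizer_lcs (hAR ha) (m + 1)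
  have hRYn : R ≤ Subgroup.normalizer (Y : Set Γ) := fun a ha => normalizer_lcs (Subgroup.le_normalizer ha) m
  have hσR := hAR hA.mem
  have hσY := hAY hA.mem
  have hσZ := hAZ hA.mem
  have hcop3 : ∀ H ≤ R, Nat.Coprime 3 (Nat.card H) := fun H hH => by
    obtain ⟨j, hj⟩ := IsPGroup.iff_card.mp hRl
    have h1 := Subgroup.card_dvd_of_le hH
    rw [hj] at h1
    exact (((Nat.coprime_primes Nat.prime_three hl).mpr (by omega)).pow_right j).coprime_dvd_right h1
  have hcop2 : Nat.Coprime 2 (Nat.card R) := by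
    obtain ⟨j, hj⟩ := IsPGroup.iff_card.mp hRl
    rw [hj]
    exact ((Nat.coprime_primes Nat.prime_two hl).mpr (by omega)).pow_right j
  -- the field and the dual
  let K := AlgebraicClosure (ZMod t)
  have : CharP K t := charP_of_injective_algebraMap' (ZMod t) t
  have hcast : ∀ n : ℕ, ¬ t ∣ n → (n : K) ≠ 0 := fun n hn => by rwa [Ne, CharP.cast_eq_zero_iff K t]
  have h3K : ((3 : ℕ) : K) ≠ 0 := hcast 3 fun h => hAt (hA.card ▸ h.mul_left 2)
  have hZt : ¬ t ∣ Nat.card Z := fun h => hRt (h.trans (Subgroup.card_dvd_of_le hZR))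
  have hZK : ((Nat.card Z : ℕ) : K) ≠ 0 := hcast _ hZt
  have hYK : ((Nat.card Y : ℕ) : K) ≠ 0 := hcast _ fun h => hRt (h.trans (Subgroup.card_dvd_of_le hYR))
  have havg : ∀ f : Dual M K, avg A f = 0 := Dual.avg_eq_zero A hfpfM
  -- a weight not trivial on the pairing
  obtain ⟨x₁, hx₁, y₁, hy₁, hxy₁⟩ : ∃ x ∈ R, ∃ y ∈ Y, ⁅x, y⁆ ≠ 1 := by
    by_contra h
    push Not at h
    apply hm1
    rw [hZY, Subgroup.commutator_comm, eq_bot_iff, Subgroup.commutator_le]
    exact fun x hx y hy => Subgroup.mem_bot.mpr (h x hx y hy)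
  have hz₁ := hRY x₁ hx₁ y₁ hy₁
  obtain ⟨χ, hχ, hw⟩ := exists_wt (K := K) hM hZt (x := (⟨_, hz₁⟩ : Z)) (by
    by_contra h
    push Not at h
    exact hxy₁ (hfaith _ (hZR hz₁) h))
  obtain ⟨f₀, hf₀, hf0⟩ := hw
  let B : Γ → Γ → Kˣ := fun x y => pair χ x y
  have hB : ∀ x y, ∀ h : ⁅x, y⁆ ∈ Z, B x y = χ ⟨_, h⟩ := fun x y h => pair_eq χ h
  have hBl : ∀ x ∈ R, ∀ x' ∈ R, ∀ y ∈ Y, B (x * x') y = B x y * B x' y := by
    intro x hx x' hx' y hy
    rw [hB _ _ (hRY _ hx _ hy), hB _ _ (hRY _ hx' _ hy), hB _ _ (hRY _ (R.mul_mem hx hx') _ hy), mul_comm, ← map_mul]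
    refine congrArg χ (Subtype.ext ?_)
    show ⁅x * x', y⁆ = ⁅x', y⁆ * ⁅x, y⁆
    calc ⁅x * x', y⁆ = x * ⁅x', y⁆ * x⁻¹ * ⁅x, y⁆ := by simp only [commutatorElement_def]; group
      _ = _ := by rw [← hZc _ (hRY _ hx' _ hy) x hx, mul_inv_cancel_right]
  have hBr : ∀ x ∈ R, ∀ y ∈ Y, ∀ y' ∈ Y, B x (y * y') = B x y * B x y' := by
    intro x hx y hy y' hy'
    rw [hB _ _ (hRY _ hx _ hy), hB _ _ (hRY _ hx _ hy'), hB _ _ (hRY _ hx _ (Y.mul_mem hy hy')), ← map_mul]
    refine congrArg χ (Subtype.ext ?_)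
    show ⁅x, y * y'⁆ = ⁅x, y⁆ * ⁅x, y'⁆
    calc ⁅x, y * y'⁆ = ⁅x, y⁆ * (y * ⁅x, y'⁆ * y⁻¹) := by simp only [commutatorElement_def]; group
      _ = _ := by rw [← hZc _ (hRY _ hx _ hy') y (hYR hy), mul_inv_cancel_right]
  have hB1 : ∀ y ∈ Y, B 1 y = 1 := fun y hy => by
    have := hBl 1 R.one_mem 1 R.one_mem y hy
    rw [one_mul] at this
    exact left_eq_mul.mp this
  have hB1' : ∀ x ∈ R, B x 1 = 1 := fun x hx => by
    have := hBr x hx 1 Y.one_mem 1 Y.one_mem
    rw [one_mul] at this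
    exact left_eq_mul.mp this
  have hBconj : ∀ a : Γ, a ∈ charStab Z χ → ∀ x y, ∀ h : ⁅x, y⁆ ∈ Z, B (a * x * a⁻¹) (a * y * a⁻¹) = B x y := by
    intro a ha x y h
    obtain ⟨hn, h'⟩ := ha
    have e : ⁅a * x * a⁻¹, a * y * a⁻¹⁆ = a * ⁅x, y⁆ * a⁻¹ := by simp only [commutatorElement_def]; group
    rw [hB _ _ (e ▸ conj_mem hn h), hB _ _ h, ← h' ⟨_, h⟩]
    exact congrArg χ (Subtype.ext e)
  let Bl : ∀ y ∈ Y, R →* Kˣ := fun y hy =>
    { toFun := fun x => B x y, map_one' := hB1 y hy, map_mul' := fun x x' => hBl x x.2 x' x'.2 y hy }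
  let Br : ∀ x ∈ R, Y →* Kˣ := fun x hx =>
    { toFun := fun y => B x y, map_one' := hB1' x hx, map_mul' := fun y y' => hBr x hx y y.2 y' y'.2 }
  have hne : B x₁ y₁ ≠ 1 := by rw [hB _ _ hz₁]; exact hχ
  by_cases hσ : σ ∈ charStab Z χ
  · -- `σ` stabilises the weight
    have hNσ : ∀ f ∈ wt K (Dual M K) χ, avg (Subgroup.zpowers σ) f = 0 := by
      by_contra hno
      apply hne
      rw [hB _ _ hz₁]
      refine eq_one_of_invariant hσZ (by rw [hA.order]; exact hcop3 Z hZR) χ (fun z => (mem_charStab hσZ).mp hσ z)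
        (fun z hz => ?_) ⟨_, hz₁⟩
      by_contra hz1
      exact hno (avg_eq_zero_of_moved hσ (x := z) hz (hnilM z (hZR z.2) hz) hz1)
    let X : Subgroup Γ := charStab Z χ
    have hRX : R ≤ X := fun x hx => mem_charStab_of_commute fun z hz => (hZc z hz x hx).symm
    let ρ : X →* Module.End K (wt K (Dual M K) χ) :=
      { toFun := fun g =>
          { toFun := fun f => ⟨(g : Γ) • (f : Dual M K), smul_mem_wt g.2 f.2⟩
            map_add' := fun f f' => Subtype.ext (smul_add _ _ _)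
            map_smul' := fun c f => Subtype.ext (smul_comm (g : Γ) c (f : Dual M K)) }
        map_one' := LinearMap.ext fun f => Subtype.ext (one_smul Γ (f : Dual M K))
        map_mul' := fun g h => LinearMap.ext fun f => Subtype.ext (mul_smul (g : Γ) h (f : Dual M K)) }
    have : Nontrivial (wt K (Dual M K) χ) := ⟨⟨f₀, hf₀⟩, 0, fun h => hf0 (congrArg Subtype.val h)⟩
    have hρ : ∀ (g : X) (hg : (g : Γ) ∈ Z), ρ g = (χ ⟨g, hg⟩ : K) • 1 := fun g hg =>
      LinearMap.ext fun f => Subtype.ext (f.2 ⟨g, hg⟩)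
    let C : Subgroup Γ :=
      { carrier := {x | x ∈ R ∧ ∀ y ∈ Y, B (σ * x * σ⁻¹) y = B x y}
        one_mem' := ⟨R.one_mem, fun y _ => by rw [mul_one, mul_inv_cancel]⟩
        mul_mem' := by
          rintro x x' ⟨hx, h⟩ ⟨hx', h'⟩
          refine ⟨R.mul_mem hx hx', fun y hy => ?_⟩
          rw [show σ * (x * x') * σ⁻¹ = (σ * x * σ⁻¹) * (σ * x' * σ⁻¹) by group,
            hBl _ (conj_mem hσR hx) _ (conj_mem hσR hx') y hy, hBl _ hx _ hx' y hy, h y hy, h' y hy]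
        inv_mem' := by
          rintro x ⟨hx, h⟩
          refine ⟨R.inv_mem hx, fun y hy => ?_⟩
          have e1 := hBl _ (conj_mem hσR (R.inv_mem hx)) _ (conj_mem hσR hx) y hy
          have e2 := hBl _ (R.inv_mem hx) _ hx y hy
          rw [show σ * x⁻¹ * σ⁻¹ * (σ * x * σ⁻¹) = 1 by group, hB1 y hy, h y hy] at e1
          rw [inv_mul_cancel, hB1 y hy, e1] at e2
          exact mul_right_cancel e2 }
    have hCR : C ≤ R := fun x hx => hx.1
    let a' : X := ⟨σ, hσ⟩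
    have ha' : orderOf a' = 3 := by rw [← hA.order]; exact (Subgroup.orderOf_coe a').symm
    have hnorm : ∀ H : Subgroup Γ, σ ∈ Subgroup.normalizer (H : Set Γ) →
        a' ∈ Subgroup.normalizer ((H.subgroupOf X : Subgroup X) : Set X) := fun H hH => by
      rw [Subgroup.mem_normalizer_iff]
      intro y
      exact Subgroup.mem_normalizer_iff.mp hH (y : Γ)
    have hcard : ∀ H : Subgroup Γ, H ≤ R → Nat.card (H.subgroupOf X) = Nat.card H := fun H hH =>
      Nat.card_congr (Subgroup.subgroupOfEquivOfLe (hH.trans hRX)).toEquiv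
    have hbound := pairing_bound ρ (Y.subgroupOf X) (R.subgroupOf X) (C.subgroupOf X) Nat.prime_three ha'
      (hnorm Y hσY) (hnorm R hσR) (by rw [hcard Y hYR]; exact hYK) h3K
      (fun x hx y hy => ⟨_, hρ _ (show ((⁅x, y⁆ : X) : Γ) ∈ Z from
        hZY ▸ Subgroup.commutator_mem_commutator hx (hYR hy))⟩)
      (fun x hx y hy => ⟨_, hρ _ (show ((⁅x, y⁆ : X) : Γ) ∈ Z from
        hZY ▸ Subgroup.commutator_mem_commutator hx hy)⟩)
      (fun f hf => by
        have h1 : ∀ g ∈ Subgroup.zpowers σ, g • (f : Dual M K) = f := fun g hg =>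
          (Subgroup.zpowers_le.mpr (show σ ∈ MulAction.stabilizer Γ (f : Dual M K) from congrArg Subtype.val hf)) hg
        have h2 := hNσ f f.2
        rw [avg_fixed _ h1, Nat.card_zpowers, hA.order, ← Nat.cast_smul_eq_nsmul K] at h2
        exact Subtype.ext ((smul_eq_zero.mp h2).resolve_left h3K))
      (fun x hx h => by
        show (x : Γ) ∈ C
        refine ⟨hx, fun y hy => ?_⟩
        have hu : σ * (x : Γ) * σ⁻¹ * (x : Γ)⁻¹ ∈ R := R.mul_mem (conj_mem hσR hx) (R.inv_mem hx)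
        have h1 := h ⟨y, hRX (hYR hy)⟩ hy
        have hz : ⁅y, σ * (x : Γ) * σ⁻¹ * (x : Γ)⁻¹⁆ ∈ Z := hZY ▸ Subgroup.commutator_mem_commutator hy hu
        rw [hρ _ (show ((⁅(⟨y, hRX (hYR hy)⟩ : X), a' * x * a'⁻¹ * x⁻¹⁆ : X) : Γ) ∈ Z from hz)] at h1
        have h2 : χ ⟨_, hz⟩ = 1 := by
          have h3 : ((χ ⟨_, hz⟩ : K) - 1) • f₀ = 0 := by
            rw [sub_smul, one_smul, sub_eq_zero]
            exact congrArg Subtype.val (LinearMap.congr_fun h1 ⟨f₀, hf₀⟩)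
          exact Units.ext (sub_eq_zero.mp ((smul_eq_zero.mp h3).resolve_right hf0))
        have h4 : B (σ * (x : Γ) * σ⁻¹ * (x : Γ)⁻¹) y = 1 := by
          rw [hB _ _ (hRY _ hu _ hy),
            show (⟨_, hRY _ hu _ hy⟩ : Z) = (⟨_, hz⟩ : Z)⁻¹ from Subtype.ext (commutatorElement_inv _ _).symm,
            map_inv, h2, inv_one]
        have h5 := hBl _ hu (x : Γ) hx y hy
        rw [inv_mul_cancel_right, h4, one_mul] at h5
        exact h5)
    rw [hcard R le_rfl, hcard C hCR] at hbound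
    have hCeq : C = R := by
      by_contra hCne
      have h1 := Subgroup.card_mul_index (C.subgroupOf R)
      rw [Nat.card_congr (Subgroup.subgroupOfEquivOfLe hCR).toEquiv] at h1
      rw [← h1, mul_comm _ (Nat.card C)] at hbound
      have h2 : (C.subgroupOf R).index ≤ 4 := Nat.le_of_mul_le_mul_left hbound Nat.card_pos
      obtain ⟨j, hj⟩ := IsPGroup.iff_card.mp hRl
      obtain ⟨i, -, hi⟩ := (Nat.dvd_prime_pow hl).mp (hj ▸ (C.subgroupOf R).index_dvd_card)
      rcases Nat.eq_zero_or_pos i with rfl | hi0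
      · rw [pow_zero, Subgroup.index_eq_one, Subgroup.subgroupOf_eq_top] at hi
        exact hCne (le_antisymm hCR hi)
      · have : l ≤ l ^ i := Nat.le_self_pow hi0.ne' l
        omega
    have hCall : ∀ x ∈ R, ∀ y ∈ Y, B (σ * x * σ⁻¹) y = B x y := fun x hx => (hCeq.ge hx).2
    apply hne
    refine eq_one_of_invariant hσY (by rw [hA.order]; exact hcop3 Y hYR) (Br x₁ hx₁) (fun y => ?_) (fun y hy => ?_) ⟨y₁, hy₁⟩
    · show B x₁ (σ * y * σ⁻¹) = B x₁ y
      rw [← hCall x₁ hx₁ _ (conj_mem hσY y.2)]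
      exact hBconj σ hσ x₁ y (hRY _ hx₁ _ y.2)
    · show B x₁ y = 1
      refine eq_one_of_invariant hσR (by rw [hA.order]; exact hcop3 R le_rfl) (Bl y y.2) (fun x => ?_) (fun x hx => ?_) ⟨x₁, hx₁⟩
      · show B (σ * x * σ⁻¹) y = B x y
        exact hCall x x.2 y y.2
      · show B x y = 1
        rw [hB _ _ (hRY _ x.2 _ y.2)]
        exact (congrArg χ (Subtype.ext (commutatorElement_eq_one_iff_mul_comm.mpr
          (hab x x.2 hx y (hYR y.2) hy)))).trans (map_one χ)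
  · -- an involution negates the weight
    obtain ⟨τ, hτ, hτ', hτs, hNτ⟩ := hA.exists_stab hAZ hZK havg ⟨f₀, hf₀, hf0⟩ hσ
    have hτ2 : orderOf τ = 2 := hA.out τ hτ hτ'
    have hneg : ∀ f ∈ wt K (Dual M K) χ, τ • f = -f := by
      intro f hf
      have := Fintype.ofFinite (Subgroup.zpowers τ)
      have h := hNτ f hf
      rw [avg_eq, ← Fintype.sum_equiv ((finCongr hτ2.symm).trans (finEquivZPowers (isOfFinOrder_of_finite τ)))
        (fun i : Fin 2 => τ ^ (i : ℕ) • f) _ (fun i => by simp [finEquivZPowers_apply]), Fin.sum_univ_two] at h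
      simp only [Fin.val_zero, Fin.val_one, pow_zero, pow_one, one_smul] at h
      exact eq_neg_of_add_eq_zero_right h
    have hRX : ∀ x ∈ R, x ∈ charStab Z χ := fun x hx => mem_charStab_of_commute fun z hz => (hZc z hz x hx).symm
    let Kχ : Subgroup Γ :=
      { carrier := {x | x ∈ R ∧ ∀ f ∈ wt K (Dual M K) χ, x • f = f}
        one_mem' := ⟨R.one_mem, fun f _ => one_smul Γ f⟩
        mul_mem' := fun {x y} hx hy => ⟨R.mul_mem hx.1 hy.1, fun f hf => by rw [mul_smul, hy.2 f hf, hx.2 f hf]⟩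
        inv_mem' := fun {x} hx => ⟨R.inv_mem hx.1, fun f hf => inv_smul_eq_iff.mpr (hx.2 f hf).symm⟩ }
    have hKn : ∀ x ∈ Kχ, ∀ g ∈ R, g * x * g⁻¹ ∈ Kχ := fun x hx g hg =>
      ⟨R.mul_mem (R.mul_mem hg hx.1) (R.inv_mem hg), fun f hf => by
        rw [mul_smul, mul_smul, hx.2 _ (smul_mem_wt (inv_mem (hRX g hg)) hf), smul_inv_smul]⟩
    have hkill : ∀ z : Z, (z : Γ) ∈ Kχ → χ z = 1 := fun z hz => by
      have h1 := hf₀ z
      rw [hz.2 f₀ hf₀] at h1
      have h2 : ((χ z : K) - 1) • f₀ = 0 := by rw [sub_smul, one_smul, ← h1, sub_self]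
      exact Units.ext (sub_eq_zero.mp ((smul_eq_zero.mp h2).resolve_right hf0))
    have hKl : ∀ x ∈ Kχ, ∀ y ∈ Y, B x y = 1 := by
      intro x hx y hy
      rw [hB _ _ (hRY _ hx.1 _ hy)]
      refine hkill _ ?_
      show ⁅x, y⁆ ∈ Kχ
      rw [show ⁅x, y⁆ = x * (y * x⁻¹ * y⁻¹) by simp only [commutatorElement_def]; group]
      exact Kχ.mul_mem hx (hKn _ (Kχ.inv_mem hx) y (hYR hy))
    have hKr : ∀ x ∈ R, ∀ y ∈ Y, y ∈ Kχ → B x y = 1 := by
      intro x hx y hy hyK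
      rw [hB _ _ (hRY _ hx _ hy)]
      refine hkill _ ?_
      show ⁅x, y⁆ ∈ Kχ
      rw [commutatorElement_def]
      exact Kχ.mul_mem (hKn _ hyK x hx) (Kχ.inv_mem hyK)
    have hfixK : ∀ x ∈ R, σ * x = x * σ → x ∈ Kχ := fun x hx h => ⟨hx, fun f hf =>
      hA.smul_eq_self hAZ hZK hσ h (hnilM x hx h) (fun e he => (hZc e he x hx).symm) hf⟩
    have hτK : ∀ x ∈ R, x * (τ * x⁻¹ * τ⁻¹) ∈ Kχ := by
      intro x hx
      refine ⟨R.mul_mem hx (conj_mem (hAR hτ) (R.inv_mem hx)), fun f hf => ?_⟩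
      have h1 : τ⁻¹ • f = -f := by
        rw [inv_smul_eq_iff, smul_neg, hneg f hf, neg_neg]
      rw [mul_smul, mul_smul, mul_smul, h1, smul_neg, smul_neg,
        hneg _ (smul_mem_wt (inv_mem (hRX x hx)) hf), neg_neg, smul_inv_smul]
    -- pairing only depends on the fixed points of `τ`
    have hdecomp : ∀ x ∈ R, ∃ u ∈ Kχ, ∃ x' ∈ R, τ * x' = x' * τ ∧ x = u * x' := by
      intro x hx
      obtain ⟨u, hu, v, hv, rfl⟩ := coprime_decomp (Subgroup.zpowers_le.mpr (hAR hτ))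
        (by rw [Nat.card_zpowers, hτ2]; exact hcop2) (Or.inl inferInstance) hx
      refine ⟨u, ?_, v, hv.1, Subgroup.mem_centralizer_iff.mp hv.2 τ (Subgroup.mem_zpowers τ), rfl⟩
      have hle : ⁅R, Subgroup.zpowers τ⁆ ≤ Kχ := by
        rw [Subgroup.commutator_le]
        intro y hy g hg
        obtain ⟨n, rfl⟩ := mem_powers_iff_mem_zpowers.mpr hg
        show ⁅y, τ ^ n⁆ ∈ Kχ
        rw [pow_eq_pow_mod (n := 2) n (by rw [← hτ2, pow_orderOf_eq_one])]
        rcases Nat.mod_two_eq_zero_or_one n with h | h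
        · rw [h, pow_zero, commutatorElement_one_right]; exact Kχ.one_mem
        · rw [h, pow_one, show ⁅y, τ⁆ = y * (τ * y⁻¹ * τ⁻¹) by simp only [commutatorElement_def]; group]
          exact hτK y hy
      exact hle hu
    apply hne
    obtain ⟨u₁, hu₁, x, hx, hxτ, rfl⟩ := hdecomp x₁ hx₁
    obtain ⟨u₂, hu₂, y, hy', hyτ, hyeq⟩ := hdecomp y₁ (hYR hy₁)
    have hτσ : ∀ z : Γ, τ * z = z * τ → τ * (σ * z * σ⁻¹) * τ⁻¹ = σ * (σ * z * σ⁻¹) * σ⁻¹ := by
      intro z hz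
      have hinv : τ * σ * τ⁻¹ = σ * σ := by
        have h1 := hA.norm τ hτ
        obtain ⟨n, hn⟩ := mem_powers_iff_mem_zpowers.mpr h1
        have hn' : σ ^ n = τ * σ * τ⁻¹ := hn
        rw [pow_eq_pow_mod (n := 3) n (by rw [← hA.order, pow_orderOf_eq_one])] at hn'
        have h3 : n % 3 < 3 := Nat.mod_lt _ (by norm_num)
        interval_cases hk : n % 3
        · rw [pow_zero] at hn'
          have h4 : σ = 1 := by simpa using hn'.symm
          have h5 := hA.order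
          rw [h4, orderOf_one] at h5
          omega
        · rw [pow_one] at hn'
          exact absurd (mul_inv_eq_iff_eq_mul.mp hn'.symm) (hA.free τ hτ hτ')
        · rw [← hn', pow_two]
      calc τ * (σ * z * σ⁻¹) * τ⁻¹ = (τ * σ * τ⁻¹) * (τ * z * τ⁻¹) * (τ * σ * τ⁻¹)⁻¹ := by group
        _ = _ := by rw [hinv, hz, mul_inv_cancel_right]; group
    have hyY : y ∈ R := hy'
    have hpair1 : B (u₁ * x) y₁ = B x y₁ := by rw [hBl _ hu₁.1 _ hx _ hy₁, hKl _ hu₁ _ hy₁, one_mul]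
    rw [hpair1]
    -- reduce to a fixed element of `Y`
    obtain ⟨w, hw, v, hv, hwv⟩ := coprime_decomp (Subgroup.zpowers_le.mpr (hAY hτ))
      (by rw [Nat.card_zpowers, hτ2]; exact hcop2.coprime_dvd_right (Subgroup.card_dvd_of_le hYR)) (Or.inl inferInstance) hy₁
    have hwY : w ∈ Y := commutator_le_of_le_normalizer (Subgroup.zpowers_le.mpr (hAY hτ)) hw
    have hwK : w ∈ Kχ := by
      have hle : ⁅Y, Subgroup.zpowers τ⁆ ≤ Kχ := by
        rw [Subgroup.commutator_le]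
        intro y hy g hg
        obtain ⟨n, rfl⟩ := mem_powers_iff_mem_zpowers.mpr hg
        show ⁅y, τ ^ n⁆ ∈ Kχ
        rw [pow_eq_pow_mod (n := 2) n (by rw [← hτ2, pow_orderOf_eq_one])]
        rcases Nat.mod_two_eq_zero_or_one n with h | h
        · rw [h, pow_zero, commutatorElement_one_right]; exact Kχ.one_mem
        · rw [h, pow_one, show ⁅y, τ⁆ = y * (τ * y⁻¹ * τ⁻¹) by simp only [commutatorElement_def]; group]
          exact hτK y (hYR hy)
      exact hle hw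
    rw [hwv, hBr x hx w hwY v hv.1, hKr x hx w hwY hwK, one_mul]
    have hvτ : τ * v = v * τ := Subgroup.mem_centralizer_iff.mp hv.2 τ (Subgroup.mem_zpowers τ)
    have hvY : v ∈ Y := hv.1
    -- `σ²` and `σ` act alike modulo the kernel
    set σx := σ * x * σ⁻¹
    set σv := σ * v * σ⁻¹
    have hσx : σx ∈ R := conj_mem hσR hx
    have hσv : σv ∈ Y := conj_mem hσY hvY
    have hσx2 : ∀ y ∈ Y, B (σ * σx * σ⁻¹) y = B σx y := by
      intro y hy
      have h1 := hKl _ (hτK σx hσx) y hy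
      rw [show σx * (τ * σx⁻¹ * τ⁻¹) = σx * (τ * σx * τ⁻¹)⁻¹ by group, hτσ x hxτ] at h1
      have h2 := hBl _ (R.mul_mem hσx (R.inv_mem (conj_mem hσR hσx))) _ (conj_mem hσR hσx) y hy
      rw [inv_mul_cancel_right, h1, one_mul] at h2
      exact h2.symm
    have hσv2 : ∀ x ∈ R, B x (σ * σv * σ⁻¹) = B x σv := by
      intro x hx
      have hmem : σv * (σ * σv * σ⁻¹)⁻¹ ∈ Y := Y.mul_mem hσv (Y.inv_mem (conj_mem hσY hσv))
      have h1 := hKr x hx _ hmem (by
        have := hτK σv (hYR hσv)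
        rwa [show σv * (τ * σv⁻¹ * τ⁻¹) = σv * (τ * σv * τ⁻¹)⁻¹ by group, hτσ v hvτ] at this)
      have h2 := hBr x hx _ hmem _ (conj_mem hσY hσv)
      rw [inv_mul_cancel_right, h1, one_mul] at h2
      exact h2.symm
    have e1 : B x v * B σx v * B σx v = 1 := by
      have h := orbit_prod hσR hA.order (hcop3 R le_rfl) (Bl v hvY) (fun h hh => hKl _ (hfixK _ h.2 hh) v hvY) ⟨x, hx⟩
      have h' : B x v * B σx v * B (σ * σx * σ⁻¹) v = 1 := h
      rwa [hσx2 v hvY] at h'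
    have e2 : B σx v * B σx σv * B σx σv = 1 := by
      have h := orbit_prod hσY hA.order (hcop3 Y hYR) (Br σx hσx)
        (fun h hh => hKr _ hσx _ h.2 (hfixK _ (hYR h.2) hh)) ⟨v, hvY⟩
      have h' : B σx v * B σx σv * B σx (σ * σv * σ⁻¹) = 1 := h
      rwa [hσv2 σx hσx] at h'
    have e3 : B x v * B σx σv * B σx σv = 1 := by
      have hz := hRY x hx v hvY
      have h := orbit_prod hσZ hA.order (hcop3 Z hZR) χ (fun h hh => hkill h (hfixK _ (hZR h.2) hh)) ⟨_, hz⟩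
      have c1 : χ ⟨σ * ⁅x, v⁆ * σ⁻¹, conj_mem hσZ hz⟩ = B σx σv := by
        rw [hB _ _ (hRY _ hσx _ hσv)]
        exact congrArg χ (Subtype.ext (by simp only [σx, σv, commutatorElement_def]; group))
      have c2 : χ ⟨σ * (σ * ⁅x, v⁆ * σ⁻¹) * σ⁻¹, conj_mem hσZ (conj_mem hσZ hz)⟩ = B σx σv := by
        rw [← hσx2 σv hσv, ← hσv2 _ (conj_mem hσR hσx), hB _ _ (hRY _ (conj_mem hσR hσx) _ (conj_mem hσY hσv))]
        exact congrArg χ (Subtype.ext (by simp only [σx, σv, commutatorElement_def]; group))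
      have c0 : χ ⟨_, hz⟩ = B x v := (hB _ _ hz).symm
      have h' : χ ⟨_, hz⟩ * χ ⟨σ * ⁅x, v⁆ * σ⁻¹, conj_mem hσZ hz⟩ *
          χ ⟨σ * (σ * ⁅x, v⁆ * σ⁻¹) * σ⁻¹, conj_mem hσZ (conj_mem hσZ hz)⟩ = 1 := h
      rwa [c0, c1, c2] at h'
    have e4 : B σx v = B x v := mul_right_cancel (mul_right_cancel (e2.trans e3.symm))
    rw [e4] at e1
    have hl3 : (B x v) ^ 3 = 1 := by rw [pow_three']; exact e1
    have hz := hRY x hx v hvY
    have hord : (B x v) ^ Nat.card Z = 1 := by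
      rw [hB _ _ hz, ← map_pow, pow_card_eq_one', map_one]
    have h := pow_gcd_eq_one.mpr ⟨hl3, hord⟩
    rwa [hcop3 Z hZR, pow_one] at h

end CfsgLib.FittingHeight
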