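/-
The configuration for an operator group of order `pq` does not occur.
-/
import Mathlib
import Cfsg.Agent.Lib.FittingHeight.Central
import Cfsg.Agent.Lib.FittingHeight.FrobeniusWeights

set_option autoImplicit false

open scoped commutatorElement IsMulCommutative
open Finset

namespace CfsgLib.FittingHeight

universe u v

variable {Γ : Type u} [Group Γ] [Finite Γ]

theorem commutator_normalized {K H₁ H₂ : Subgroup Γ} (h1 : K ≤ Subgroup.normalizer (H₁ : Set Γ))
    (h2 : K ≤ Subgroup.normalizer (H₂ : Set Γ)) : K ≤ Subgroup.normalizer ((⁅H₁, H₂⁆ : Subgroup Γ) : Set Γ) := by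
  intro k hk
  have key : ∀ k ∈ K, ∀ x ∈ ⁅H₁, H₂⁆, k * x * k⁻¹ ∈ ⁅H₁, H₂⁆ := by
    intro k hk x hx
    have hle : ⁅H₁, H₂⁆ ≤ (⁅H₁, H₂⁆ : Subgroup Γ).comap (MulAut.conj k).toMonoidHom := by
      rw [Subgroup.commutator_le]
      intro a ha b hb
      rw [Subgroup.mem_comap, map_commutatorElement]
      exact Subgroup.commutator_mem_commutator (conj_mem (h1 hk) ha) (conj_mem (h2 hk) hb)
    exact hle hx
  rw [Subgroup.mem_normalizer_iff]
  exact fun x => ⟨key k hk x, fun h => by simpa [mul_assoc] using key k⁻¹ (K.inv_mem hk) _ h⟩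

theorem commutator_ne_self {X : Subgroup Γ} (hX : Group.IsSolvable X) (hne : X ≠ ⊥) : ⁅X, X⁆ ≠ X := by
  intro he
  have : Nontrivial X := (Subgroup.nontrivial_iff_ne_bot X).mpr hne
  have h0 : commutator X = ⊤ := by
    apply Subgroup.map_injective X.subtype_injective
    rw [commutator_def, Subgroup.map_commutator, ← MonoidHom.range_eq_map, Subgroup.range_subtype, he]
  exact absurd h0 (Group.IsSolvable.commutator_lt_top_of_nontrivial (G := X)).ne

set_option maxHeartbeats 1600000 in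
/-- The configuration for an operator group of order `pq` is impossible. -/
theorem frobenius_core {M : Type v} [AddCommGroup M] [Finite M] [DistribMulAction Γ M] {Q S A : Subgroup Γ} {σ : Γ}
    {p q r t : ℕ} (hA : PQGroup A σ p q) (hr : r.Prime) [Fact t.Prime] (hM : ∀ m : M, t • m = 0)
    (hQr : IsPGroup r Q) (hSs : Group.IsSolvable S)
    (hQt : ¬ t ∣ Nat.card Q) (hAt : ¬ t ∣ Nat.card A) (hSQc : (Nat.card S).Coprime (Nat.card Q))
    (hAQc : (Nat.card A).Coprime (Nat.card Q)) (hASc : (Nat.card A).Coprime (Nat.card S))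
    (hSQ : S ≤ Subgroup.normalizer (Q : Set Γ)) (hAQ : A ≤ Subgroup.normalizer (Q : Set Γ))
    (hAS : A ≤ Subgroup.normalizer (S : Set Γ)) (hne : ¬ S ≤ Subgroup.centralizer (Q : Set Γ))
    (hSmin : ∀ S₁ ≤ S, A ≤ Subgroup.normalizer (S₁ : Set Γ) → S₁ ≠ S → S₁ ≤ Subgroup.centralizer (Q : Set Γ))
    (hQmin : ∀ Q₁ ≤ Q, S ≤ Subgroup.normalizer (Q₁ : Set Γ) → A ≤ Subgroup.normalizer (Q₁ : Set Γ) → Q₁ ≠ Q →
      Q₁ ≤ Subgroup.centralizer (S : Set Γ))
    (hfaith : ∀ x ∈ Q, (∀ v : M, x • v = v) → x = 1)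
    (hfpfS : ∀ s ∈ S, (∀ a ∈ A, a * s = s * a) → s = 1)
    (hfpfM : ∀ v : M, (∀ a ∈ A, a • v = v) → v = 0)
    (hnilM : ∀ x ∈ Q, σ * x = x * σ → ∀ v : M, σ • v = v → x • v = v)
    (hnilQ : ∀ s ∈ S, σ * s = s * σ → ∀ x ∈ Q, σ * x = x * σ → s * x = x * s) : False := by
  classical
  have := Fact.mk hr
  have hp := hA.pPrime
  have hq := hA.qPrime
  -- the field
  let K := AlgebraicClosure (ZMod t)
  have : CharP K t := charP_of_injective_algebraMap' (ZMod t) t
  have hcast : ∀ n : ℕ, ¬ t ∣ n → (n : K) ≠ 0 := fun n hn => by rwa [Ne, CharP.cast_eq_zero_iff K t]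
  have hqK : (q : K) ≠ 0 := hcast q fun h => hAt (hA.card ▸ h.mul_left p)
  have hpK : (p : K) ≠ 0 := hcast p fun h => hAt (hA.card ▸ h.mul_right q)
  have hQK : ((Nat.card Q : ℕ) : K) ≠ 0 := hcast _ hQt
  have havg : ∀ f : Dual M K, avg A f = 0 := Dual.avg_eq_zero A hfpfM
  have hQs : Group.IsSolvable Q := by have := hQr.isNilpotent; infer_instance
  have hsolv : Group.IsSolvable S ∨ Group.IsSolvable Q := Or.inl hSs
  have hQ0 : Q ≠ ⊥ := fun h => hne fun s _ => Subgroup.mem_centralizer_iff.mpr fun x hx => by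
    rw [Subgroup.mem_bot.mp (h ▸ hx : x ∈ (⊥ : Subgroup Γ))]; simp
  have hS0 : S ≠ ⊥ := fun h => hne (h ▸ bot_le)
  -- `Q = [Q, S]`
  have hQS : ⁅Q, S⁆ = Q := by
    by_contra h
    have h1 := hQmin ⁅Q, S⁆ (commutator_le_of_le_normalizer hSQ) (right_le_normalizer_commutator S Q)
      (commutator_normalized hAQ hAS) h
    have h2 : ⁅⁅Q, S⁆, S⁆ = ⊥ := Subgroup.commutator_eq_bot_iff_le_centralizer.mpr h1
    rw [coprime_commutator_commutator hSQ hSQc hsolv] at h2
    exact hne (Subgroup.le_centralizer_iff.mp (Subgroup.commutator_eq_bot_iff_le_centralizer.mp h2))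
  have hder : ⁅S, S⁆ ≤ Subgroup.centralizer (Q : Set Γ) :=
    hSmin _ (commutator_le_of_le_normalizer Subgroup.le_normalizer) (commutator_normalized hAS hAS)
      (commutator_ne_self hSs hS0)
  have hderQ : ⁅Q, Q⁆ ≤ Subgroup.centralizer (S : Set Γ) :=
    hQmin _ (commutator_le_of_le_normalizer Subgroup.le_normalizer) (commutator_normalized hSQ hSQ)
      (commutator_normalized hAQ hAQ) (commutator_ne_self hQs hQ0)
  set Z := Q ⊓ Subgroup.centralizer (S : Set Γ) with hZ
  have hZQ : Z ≤ Q := inf_le_left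
  have hZc := centralizer_central hSQ hQS hderQ
  have hAZ : A ≤ Subgroup.normalizer (Z : Set Γ) := inf_centralizer_normalized hAQ hAS
  have hQ'Z : ∀ x ∈ Q, ∀ y ∈ Q, ⁅x, y⁆ ∈ Z := fun x hx y hy =>
    ⟨commutator_le_of_le_normalizer Subgroup.le_normalizer (Subgroup.commutator_mem_commutator hx hy),
      hderQ (Subgroup.commutator_mem_commutator hx hy)⟩
  have hSZ : ∀ s ∈ S, ∀ z ∈ Z, s * z = z * s := fun s hs z hz => Subgroup.mem_centralizer_iff.mp hz.2 s hs
  have hQZ : Q ≤ Subgroup.normalizer (Z : Set Γ) := fun x hx => by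
    rw [Subgroup.mem_normalizer_iff]
    intro y
    constructor
    · intro hy; rw [← hZc y hy x hx, mul_inv_cancel_right]; exact hy
    · intro hy
      have h1 := hZc _ hy x hx
      have : x * y * x⁻¹ = y := by
        rw [inv_mul_cancel_right] at h1
        exact mul_left_cancel h1.symm
      rwa [this] at hy
  have hSZn : S ≤ Subgroup.normalizer (Z : Set Γ) := inf_centralizer_normalized hSQ Subgroup.le_normalizer
  have hQneZ : ¬ Q ≤ Z := fun h => hne (Subgroup.le_centralizer_iff.mp (h.trans inf_le_right))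
  have hpair : CentralPair Q S Z :=
    { zQ := hZQ, central := hZc, derived := hQ'Z, sQ := hSQ, sZ := hSZ, fixS := le_rfl, coprime := hSQc,
      solvable := hsolv, full := hQS }
  have hSfixZ : ∀ x ∈ Q, (∀ s ∈ S, s * x * s⁻¹ * x⁻¹ ∈ Z) → x ∈ Z := by
    intro x hx h
    obtain ⟨c, hc, hxc⟩ := CfsgLib.coprime_fixed_quotient hSQ hSQc hsolv hZQ hQZ hSZn hx h
    have h1 := Z.mul_mem (show c ∈ Z from hc) (Z.inv_mem hxc)
    simpa using h1
  -- `r`-th powers lie in `Z`
  have hexp : ∀ x ∈ Q, x ^ r ∈ Z := by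
    have := subgroupOf_normal_of_le hQZ
    letI : CommGroup (Q ⧸ Z.subgroupOf Q) :=
      { (inferInstance : Group (Q ⧸ Z.subgroupOf Q)) with mul_comm := mk_comm hQ'Z }
    set π := QuotientGroup.mk' (Z.subgroupOf Q)
    let R₁ : Subgroup Γ := ((powMonoidHom r : Q ⧸ Z.subgroupOf Q →* Q ⧸ Z.subgroupOf Q).range.comap π).map Q.subtype
    have hmem : ∀ y : Γ, y ∈ R₁ ↔ y ∈ Q ∧ ∃ x ∈ Q, y * (x ^ r)⁻¹ ∈ Z := by
      intro y
      constructor
      · rintro ⟨y, ⟨u, hu⟩, rfl⟩
        obtain ⟨x, rfl⟩ := QuotientGroup.mk'_surjective _ u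
        exact ⟨y.2, x, x.2, (mk_eq_mk_iff hQZ y (x ^ r)).mp (hu.symm.trans (map_pow π x r).symm)⟩
      · rintro ⟨hy, x, hx, h⟩
        refine ⟨⟨y, hy⟩, ⟨π ⟨x, hx⟩, ?_⟩, rfl⟩
        rw [powMonoidHom_apply, ← map_pow]
        exact ((mk_eq_mk_iff hQZ ⟨y, hy⟩ (⟨x, hx⟩ ^ r)).mpr h).symm
    have hnorm : ∀ K : Subgroup Γ, K ≤ Subgroup.normalizer (Q : Set Γ) → K ≤ Subgroup.normalizer (Z : Set Γ) →
        K ≤ Subgroup.normalizer (R₁ : Set Γ) := by
      intro K hK hKZ k hk
      have key : ∀ k ∈ K, ∀ y ∈ R₁, k * y * k⁻¹ ∈ R₁ := by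
        intro k hk y hy
        obtain ⟨hy, x, hx, h⟩ := (hmem y).mp hy
        refine (hmem _).mpr ⟨conj_mem (hK hk) hy, k * x * k⁻¹, conj_mem (hK hk) hx, ?_⟩
        have h1 := conj_mem (hKZ hk) h
        rw [conj_pow]
        convert h1 using 1
        group
      rw [Subgroup.mem_normalizer_iff]
      exact fun x => ⟨key k hk x, fun h => by simpa [mul_assoc] using key k⁻¹ (K.inv_mem hk) _ h⟩
    have hRQ : R₁ ≤ Q := fun y hy => ((hmem y).mp hy).1
    have hRne : R₁ ≠ Q := by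
      intro he
      have hsurj : Function.Surjective (powMonoidHom r : Q ⧸ Z.subgroupOf Q →* Q ⧸ Z.subgroupOf Q) := by
        intro u
        obtain ⟨y, rfl⟩ := QuotientGroup.mk'_surjective _ u
        obtain ⟨y', hy', hyy⟩ := he.ge y.2
        rw [show y = y' from Subtype.ext hyy.symm]
        exact hy'
      have hinj := Finite.injective_iff_surjective.mpr hsurj
      obtain ⟨j, hj⟩ := IsPGroup.iff_card.mp (hQr.to_quotient (Z.subgroupOf Q))
      rcases Nat.eq_zero_or_pos j with rfl | hj0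
      · rw [pow_zero, ← Subgroup.index_eq_card, Subgroup.index_eq_one, Subgroup.subgroupOf_eq_top] at hj
        exact hQneZ hj
      · obtain ⟨u, hu⟩ := exists_prime_orderOf_dvd_card' (G := Q ⧸ Z.subgroupOf Q) r (hj ▸ dvd_pow_self r hj0.ne')
        have : u = 1 := hinj (show u ^ r = (1 : Q ⧸ Z.subgroupOf Q) ^ r by rw [← hu, pow_orderOf_eq_one, one_pow])
        rw [this, orderOf_one] at hu
        exact hr.one_lt.ne hu
    intro x hx
    have h1 : R₁ ≤ Z := le_inf hRQ (hQmin R₁ hRQ (hnorm S hSQ hSZn) (hnorm A hAQ hAZ) hRne)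
    exact h1 ((hmem _).mpr ⟨Q.pow_mem hx r, x, hx, by rw [mul_inv_cancel]; exact Z.one_mem⟩)
  -- coprimality
  have hrQ : r ∣ Nat.card Q := by
    obtain ⟨j, hj⟩ := IsPGroup.iff_card.mp hQr
    rw [hj]
    exact dvd_pow_self r fun h0 => hQ0 (Subgroup.card_eq_one.mp (by rw [hj, h0, pow_zero]))
  have hrS : ¬ r ∣ Nat.card S := fun h => hr.one_lt.ne' (Nat.eq_one_of_dvd_coprimes hSQc h hrQ)
  have hqA : q ∣ Nat.card A := hA.card ▸ dvd_mul_left q p
  have hpA : p ∣ Nat.card A := hA.card ▸ dvd_mul_right p q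
  have hqr : q ≠ r := fun h => hq.one_lt.ne' (Nat.eq_one_of_dvd_coprimes hAQc hqA (h ▸ hrQ))
  have hpr : p ≠ r := fun h => hp.one_lt.ne' (Nat.eq_one_of_dvd_coprimes hAQc hpA (h ▸ hrQ))
  -- `σ` centralises `S`, or `C_S(σ)` centralises `Q`
  have hpowσ : ∀ {x : Γ}, σ * x = x * σ → ∀ a ∈ Subgroup.zpowers σ, a * x = x * a := fun {x} h a ha => by
    obtain ⟨i, rfl⟩ := Subgroup.mem_zpowers_iff.mp ha
    exact ((show Commute σ x from h).zpow_left i).eq
  have hcases : (∀ s ∈ S, σ * s = s * σ) ∨ (∀ s ∈ S, σ * s = s * σ → s ∈ Subgroup.centralizer (Q : Set Γ)) := by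
    by_cases h : S ⊓ Subgroup.centralizer (Subgroup.zpowers σ : Set Γ) = S
    · exact Or.inl fun s hs => Subgroup.mem_centralizer_iff.mp (h.ge hs).2 σ (Subgroup.mem_zpowers σ)
    · exact Or.inr fun s hs hσs => hSmin _ inf_le_left (inf_centralizer_normalized hAS hA.normalizes) h
        ⟨hs, Subgroup.mem_centralizer_iff.mpr fun a ha => hpowσ hσs a ha⟩
  have hCτ : (∀ s ∈ S, σ * s = s * σ) → ∀ τ ∈ A, τ ∉ Subgroup.zpowers σ → ∀ s ∈ S, τ * s = s * τ → s = 1 :=
    fun hI τ hτ hτ' s hs h => hfpfS s hs (hA.fixed hτ hτ' (hI s hs) h)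
  have hσQ := hAQ hA.mem
  have hσZ := hAZ hA.mem
  have hcopσQ : (Nat.card (Subgroup.zpowers σ)).Coprime (Nat.card Q) := by
    rw [Nat.card_zpowers, hA.order]; exact hAQc.coprime_dvd_left hqA
  -- in the second case some element outside `Z` is fixed by `σ`
  have hfixedQ : (∀ s ∈ S, σ * s = s * σ → s ∈ Subgroup.centralizer (Q : Set Γ)) → ∃ c ∈ Q, σ * c = c * σ ∧ c ∉ Z := by
    intro hII
    let C : Subgroup Γ :=
      { carrier := {x | x ∈ Q ∧ σ * x * σ⁻¹ * x⁻¹ ∈ Z}
        one_mem' := ⟨Q.one_mem, by simp⟩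
        mul_mem' := by
          rintro x y ⟨hx, hx'⟩ ⟨hy, hy'⟩
          refine ⟨Q.mul_mem hx hy, ?_⟩
          have h1 := Z.mul_mem (conj_mem (hQZ (conj_mem hσQ hx)) hy') hx'
          convert h1 using 1
          group
        inv_mem' := by
          rintro x ⟨hx, hx'⟩
          refine ⟨Q.inv_mem hx, ?_⟩
          have h1 := conj_mem_inv (hQZ (conj_mem hσQ hx)) (Z.inv_mem hx')
          convert h1 using 1
          group }
    obtain ⟨hCZ, -⟩ := sect_bounds hq hA.order hqr (hASc.coprime_dvd_left hqA) hrS hZQ hQZ hQ'Z hexp hSQ hSZn hσQ hσZ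
      (hAS hA.mem) hSQc hSfixZ hII hder hQneZ C (fun x => Iff.rfl)
    obtain ⟨x, hx, hxZ⟩ := SetLike.not_le_iff_exists.mp hCZ
    obtain ⟨c, hc, hxc⟩ := CfsgLib.coprime_fixed_quotient (Subgroup.zpowers_le.mpr hσQ) hcopσQ (Or.inl inferInstance)
      hZQ hQZ (Subgroup.zpowers_le.mpr hσZ) hx.1 (fun g hg => by
        obtain ⟨n, rfl⟩ := mem_powers_iff_mem_zpowers.mpr hg
        show σ ^ n * x * (σ ^ n)⁻¹ * x⁻¹ ∈ Z
        clear hg
        induction n with
        | zero => simp
        | succ n ih =>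
          have h1 := Z.mul_mem (conj_mem hσZ ih) hx.2
          convert h1 using 1
          rw [pow_succ']; group)
    refine ⟨c, hc.1, Subgroup.mem_centralizer_iff.mp hc.2 σ (Subgroup.mem_zpowers σ), fun h => hxZ ?_⟩
    have h1 := Z.mul_mem h (Z.inv_mem hxc)
    simpa using h1
  have hmove : ∀ x ∈ Q, x ≠ 1 → ∃ m : M, x • m ≠ m := fun x hx hx1 => by
    by_contra h
    push Not at h
    exact hx1 (hfaith x hx h)
  by_cases hZ1 : Z = ⊥
  · -- `Q` is abelian
    have : IsMulCommutative Q := ⟨⟨fun x y => Subtype.ext (by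
      have h1 := hQ'Z x x.2 y y.2
      rw [hZ1, Subgroup.mem_bot, commutatorElement_eq_one_iff_mul_comm] at h1
      exact h1)⟩⟩
    have hcent : ∀ g : Γ, g ∈ Subgroup.centralizer (Q : Set Γ) → ∀ χ : Q →* Kˣ, g ∈ charStab Q χ := fun g hg χ =>
      mem_charStab_of_commute fun z hz => (Subgroup.mem_centralizer_iff.mp hg z hz).symm
    rcases hcases with hI | hII
    · -- `σ` centralises `S`
      obtain ⟨x, hx, hx1⟩ : ∃ x ∈ Q, x ≠ 1 := by
        by_contra h
        push Not at h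
        exact hQ0 ((Subgroup.eq_bot_iff_forall Q).mpr h)
      obtain ⟨χ, hχx, hw⟩ := exists_wt (K := K) hM hQt (x := (⟨x, hx⟩ : Q)) (hmove x hx hx1)
      have hχ1 : χ ≠ 1 := fun h => hχx (by rw [h]; rfl)
      have hσ : σ ∉ charStab Q χ := by
        intro hσ
        apply hχ1
        let d : Q → Q := fun y => ⟨σ * y * σ⁻¹, conj_mem hσQ y.2⟩ * y⁻¹
        have hd : Function.Injective d := fun y y' h => by
          have h' : σ * (y : Γ) * σ⁻¹ * (y : Γ)⁻¹ = σ * y' * σ⁻¹ * (y' : Γ)⁻¹ := congrArg Subtype.val h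
          have h0 : (⟨σ * y * σ⁻¹, conj_mem hσQ y.2⟩ : Q) / ⟨σ * y' * σ⁻¹, conj_mem hσQ y'.2⟩ = y / y' := by
            rw [← div_eq_div_iff_div_eq_div, div_eq_mul_inv, div_eq_mul_inv]
            exact h
          have h1 : σ * (y : Γ) * σ⁻¹ / (σ * y' * σ⁻¹) = (y : Γ) / y' := congrArg Subtype.val h0
          rw [div_eq_mul_inv, div_eq_mul_inv] at h1
          have hc : σ * ((y : Γ) * (y' : Γ)⁻¹) = ((y : Γ) * (y' : Γ)⁻¹) * σ := by
            conv_rhs => rw [← h1]
            group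
          have h2 : (y : Γ) * (y' : Γ)⁻¹ ∈ Z := ⟨Q.mul_mem y.2 (Q.inv_mem y'.2), Subgroup.mem_centralizer_iff.mpr fun s hs =>
            hnilQ s hs (hI s hs) _ (Q.mul_mem y.2 (Q.inv_mem y'.2)) hc⟩
          rw [hZ1, Subgroup.mem_bot] at h2
          exact Subtype.ext (mul_inv_eq_one.mp h2)
        refine MonoidHom.ext fun y => ?_
        obtain ⟨z, rfl⟩ := (Finite.injective_iff_surjective.mp hd) y
        rw [map_mul, (mem_charStab hσQ).mp hσ z, ← map_mul, mul_inv_cancel, map_one, MonoidHom.one_apply]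
      -- stabilisers of the conjugate weights
      have hstab : ∀ s ∈ S, ∃ τ ∈ A, τ ∉ Subgroup.zpowers σ ∧ s * τ * s⁻¹ ∈ charStab Q χ := by
        intro s hs
        obtain ⟨χ', -, hw', htr⟩ := exists_conj_weight (K := K) (W := Dual M K) χ (hSQ hs)
        obtain ⟨f, hf, hf0⟩ := hw
        obtain ⟨τ, hτ, hτ', hτs, -⟩ := hA.exists_stab hAQ hQK havg (χ := χ')
          ⟨s⁻¹ • f, hw' f hf, fun h => hf0 ((smul_eq_zero_iff_eq s⁻¹).mp h)⟩ (fun h => hσ (by
            have h1 := htr σ h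
            rwa [← hI s hs, mul_inv_cancel_right] at h1))
        exact ⟨τ, hτ, hτ', htr τ hτs⟩
      obtain ⟨τ₁, hτ₁, hτ₁', hτ₁s⟩ := hstab 1 S.one_mem
      rw [one_mul, inv_one, mul_one] at hτ₁s
      have hall : ∀ s ∈ S, s * τ₁ * s⁻¹ ∈ charStab Q χ := by
        intro s hs
        obtain ⟨τ, hτ, hτ', hτs⟩ := hstab s hs
        suffices hmem : τ ∈ Subgroup.zpowers τ₁ by
          have hle : Subgroup.zpowers τ₁ ≤ Subgroup.zpowers τ := (Subgroup.eq_of_le_of_card_ge (Subgroup.zpowers_le.mpr hmem)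
            (by rw [Nat.card_zpowers, Nat.card_zpowers, hA.out _ hτ hτ', hA.out _ hτ₁ hτ₁'])).ge
          obtain ⟨i, hi⟩ := Subgroup.mem_zpowers_iff.mp (hle (Subgroup.mem_zpowers τ₁))
          rw [← hi, ← conj_zpow]
          exact zpow_mem hτs i
        by_contra hnot
        -- the commutator of the two generators
        set c := ⁅τ₁, τ⁆ with hc
        have hcσ : c ∈ Subgroup.zpowers σ := by
          have hn : ((Subgroup.zpowers σ).subgroupOf A).Normal := subgroupOf_normal_of_le hA.normalizes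
          have hidx : Nat.card (A ⧸ (Subgroup.zpowers σ).subgroupOf A) = p := by
            have h1 := ((Subgroup.zpowers σ).subgroupOf A).card_eq_card_quotient_mul_card_subgroup
            rw [Nat.card_congr (Subgroup.subgroupOfEquivOfLe (Subgroup.zpowers_le.mpr hA.mem)).toEquiv, Nat.card_zpowers,
              hA.order, hA.card] at h1
            exact (Nat.eq_of_mul_eq_mul_right hq.pos h1).symm
          have := Fact.mk hp
          have := isCyclic_of_prime_card hidx
          have h2 : QuotientGroup.mk' ((Subgroup.zpowers σ).subgroupOf A) ⁅(⟨τ₁, hτ₁⟩ : A), ⟨τ, hτ⟩⁆ = 1 := by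
            rw [map_commutatorElement, commutatorElement_eq_one_iff_mul_comm]
            exact mul_comm' _ _
          exact (QuotientGroup.eq_one_iff (⁅(⟨τ₁, hτ₁⟩ : A), (⟨τ, hτ⟩ : A)⁆)).mp h2
        have hc1 : c ≠ 1 := by
          intro h
          rw [hc, commutatorElement_eq_one_iff_mul_comm] at h
          apply hA.free τ₁ hτ₁ hτ₁'
          set H := A ⊓ Subgroup.centralizer ({τ₁} : Set Γ) with hH
          have hlt : Subgroup.zpowers τ₁ < H := lt_of_le_of_ne
            (Subgroup.zpowers_le.mpr ⟨hτ₁, Subgroup.mem_centralizer_singleton_iff.mpr rfl⟩)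
            fun e => hnot (e.ge ⟨hτ, Subgroup.mem_centralizer_singleton_iff.mpr h.symm⟩)
          have hcard : Nat.card A ≤ Nat.card H := by
            obtain ⟨k, hk⟩ := Subgroup.card_dvd_of_le hlt.le
            rw [Nat.card_zpowers, hA.out _ hτ₁ hτ₁'] at hk
            have hd := Subgroup.card_dvd_of_le (inf_le_left : H ≤ A)
            rw [hk, hA.card, Nat.mul_dvd_mul_iff_left hp.pos] at hd
            rcases (Nat.dvd_prime hq).mp hd with rfl | rfl
            · exfalso
              exact hlt.ne (Subgroup.eq_of_le_of_card_ge hlt.le (by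
                rw [hk, mul_one, Nat.card_zpowers, hA.out _ hτ₁ hτ₁']))
            · rw [hA.card, hk]
          have h1 := ((Subgroup.eq_of_le_of_card_ge inf_le_left hcard).ge hA.mem).2
          exact (Subgroup.mem_centralizer_singleton_iff.mp h1).symm
        have hu : s * (τ * s⁻¹ * τ⁻¹) ∈ S := S.mul_mem hs (conj_mem (hAS hτ) (S.inv_mem hs))
        set u := s * (τ * s⁻¹ * τ⁻¹) with hu'
        have hv : τ₁ * u * τ₁⁻¹ * u⁻¹ ∈ S := S.mul_mem (conj_mem (hAS hτ₁) hu) (S.inv_mem hu)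
        set v := τ₁ * u * τ₁⁻¹ * u⁻¹ with hv'
        have hcv : Commute c v := hpowσ (hI v hv) c hcσ
        have hg : c * v ∈ charStab Q χ := by
          have h1 : ⁅τ₁, s * τ * s⁻¹⁆ ∈ charStab Q χ := by
            rw [commutatorElement_def]
            exact mul_mem (mul_mem (mul_mem hτ₁s hτs) (inv_mem hτ₁s)) (inv_mem hτs)
          have hcw : Commute c (τ₁ * u * τ₁⁻¹) := hpowσ (hI _ (conj_mem (hAS hτ₁) hu)) c hcσ
          have e : c * v = ⁅τ₁, s * τ * s⁻¹⁆ := by
            calc c * v = (c * (τ₁ * u * τ₁⁻¹)) * u⁻¹ := by rw [hv']; group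
              _ = (τ₁ * u * τ₁⁻¹) * c * u⁻¹ := by rw [hcw.eq]
              _ = _ := by rw [hc, hu']; simp only [commutatorElement_def]; group
          rw [e]; exact h1
        have hn : c ^ Nat.card S ∈ charStab Q χ := by
          have h1 := pow_mem hg (Nat.card S)
          rwa [hcv.mul_pow, show v ^ Nat.card S = 1 from
            congrArg Subtype.val (pow_card_eq_one' (x := (⟨v, hv⟩ : S))), mul_one] at h1
        have hcn : c ^ Nat.card S ≠ 1 := by
          intro h
          have h1 : orderOf c = q := by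
            rw [← Nat.card_zpowers, hA.zpowers_eq hcσ hc1, Nat.card_zpowers, hA.order]
          have h2 := orderOf_dvd_of_pow_eq_one h
          rw [h1] at h2
          exact hq.one_lt.ne' (Nat.eq_one_of_dvd_coprimes hASc hqA h2)
        exact hσ (Subgroup.zpowers_le.mpr hn ((hA.zpowers_eq (pow_mem hcσ _) hcn).ge (Subgroup.mem_zpowers σ)))
      apply hχ1
      refine eq_one_of_stab hQS fun s hs => ?_
      let φ : S → S := fun s => ⟨τ₁ * s * τ₁⁻¹, conj_mem (hAS hτ₁) s.2⟩ * s⁻¹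
      have hφ : Function.Injective φ := fun y y' h => by
        have h' : τ₁ * (y : Γ) * τ₁⁻¹ * (y : Γ)⁻¹ = τ₁ * y' * τ₁⁻¹ * (y' : Γ)⁻¹ := congrArg Subtype.val h
        have h2 := hCτ hI τ₁ hτ₁ hτ₁' _ (S.mul_mem (S.inv_mem y'.2) y.2) (by
          have e : τ₁ * ((y' : Γ)⁻¹ * y) =
              τ₁ * (y' : Γ)⁻¹ * τ₁⁻¹ * ((τ₁ * y * τ₁⁻¹ * (y : Γ)⁻¹) * y) * τ₁ := by group
          rw [e, h']; group)
        exact Subtype.ext (inv_mul_eq_one.mp h2).symm
      obtain ⟨z, hz⟩ := (Finite.injective_iff_surjective.mp hφ) ⟨s, hs⟩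
      have h1 : τ₁ * (z : Γ) * τ₁⁻¹ * (z : Γ)⁻¹ = s := congrArg Subtype.val hz
      rw [← h1, show τ₁ * (z : Γ) * τ₁⁻¹ * (z : Γ)⁻¹ = τ₁ * ((z : Γ) * τ₁ * (z : Γ)⁻¹)⁻¹ by group]
      exact mul_mem hτ₁s (inv_mem (hall z z.2))
    · -- `C_S(σ)` centralises `Q`
      obtain ⟨c, hc, hσc, hcZ⟩ := hfixedQ hII
      have hc1 : c ≠ 1 := fun h => hcZ (h ▸ Z.one_mem)
      obtain ⟨χ, hχc, f₀, hf₀, hf0⟩ := exists_wt (K := K) hM hQt (x := (⟨c, hc⟩ : Q)) (hmove c hc hc1)
      have hσ : σ ∈ charStab Q χ := by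
        by_contra hσ
        have h1 := hA.smul_eq_self hAQ hQK hσ hσc (hnilM c hc hσc)
          (fun e he => congrArg Subtype.val (mul_comm' (⟨c, hc⟩ : Q) ⟨e, he⟩)) hf₀
        rw [hf₀ ⟨c, hc⟩] at h1
        have h2 : ((χ ⟨c, hc⟩ : K) - 1) • f₀ = 0 := by rw [sub_smul, one_smul, h1, sub_self]
        exact hχc (Units.ext (sub_eq_zero.mp ((smul_eq_zero.mp h2).resolve_right hf0)))
      have hNσ := avg_eq_zero_of_moved hσ (x := (⟨c, hc⟩ : Q)) hσc (hnilM c hc hσc) hχc
      refine hχc ?_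
      suffices h : χ = 1 by rw [h]; rfl
      refine eq_one_of_stab hQS fun s hs => ?_
      set W₀ := S ⊓ charStab Q χ with hW₀
      have hW₀n : ∀ a ∈ charStab Q χ, a ∈ Subgroup.normalizer (S : Set Γ) → a ∈ Subgroup.normalizer (W₀ : Set Γ) := by
        intro a ha haS
        rw [Subgroup.mem_normalizer_iff]
        intro y
        constructor
        · exact fun hy => ⟨conj_mem haS hy.1, (charStab Q χ).mul_mem ((charStab Q χ).mul_mem ha hy.2) ((charStab Q χ).inv_mem ha)⟩
        · intro hy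
          refine ⟨(Subgroup.mem_normalizer_iff.mp haS y).mpr hy.1, ?_⟩
          have h1 := mul_mem (mul_mem (inv_mem ha) hy.2) ha
          simpa [mul_assoc] using h1
      have hWA : ∀ (B : Subgroup Γ) (g : Γ), B ≤ charStab Q χ →
          (∀ a ∈ B, g⁻¹ * a * g ∈ charStab Q χ ∧ ∃ a' ∈ B, g⁻¹ * a * g * a'⁻¹ ∈ S) →
          ∀ a ∈ B, g⁻¹ * a * g ∈ W₀ ⊔ B := by
        intro B g hB h a ha
        obtain ⟨h1, a', ha', h2⟩ := h a ha
        have h3 : g⁻¹ * a * g * a'⁻¹ ∈ W₀ := ⟨h2, (charStab Q χ).mul_mem h1 ((charStab Q χ).inv_mem (hB ha'))⟩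
        have h4 := Subgroup.mul_mem_sup h3 ha'
        simpa using h4
      obtain ⟨χ', hχ', hw', htr⟩ := exists_conj_weight (K := K) (W := Dual M K) χ (hSQ hs)
      have hkey : ∀ b : Γ, orderOf b ∣ Nat.card A → b ∈ Subgroup.normalizer (S : Set Γ) → b ∈ charStab Q χ →
          s * b * s⁻¹ ∈ charStab Q χ → ∃ w ∈ W₀, s⁻¹ * w ∈ Subgroup.centralizer (Subgroup.zpowers b : Set Γ) := by
        intro b hb hbS hbχ hsb
        refine coprime_key (A := Subgroup.zpowers b) (K := S) (W := W₀) (Subgroup.zpowers_le.mpr hbS)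
          (by rw [Nat.card_zpowers]; exact hASc.coprime_dvd_left hb) (Or.inl inferInstance) inf_le_left
          (Subgroup.zpowers_le.mpr (hW₀n b hbχ hbS)) (S.inv_mem hs) (hWA _ _ (Subgroup.zpowers_le.mpr hbχ) fun a ha => ?_)
        rw [inv_inv]
        obtain ⟨i, rfl⟩ := Subgroup.mem_zpowers_iff.mp ha
        refine ⟨by rw [← conj_zpow]; exact zpow_mem hsb i, b ^ i, zpow_mem (Subgroup.mem_zpowers b) i, ?_⟩
        have h1 := S.mul_mem hs (conj_mem (zpow_mem hbS i) (S.inv_mem hs))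
        convert h1 using 1
        group
      by_cases hσs : σ ∈ charStab Q χ'
      · obtain ⟨w, hw, hwc⟩ := hkey σ (hA.order.symm ▸ hqA) (hAS hA.mem) hσ (htr σ hσs)
        have h1 := hII _ (S.mul_mem (S.inv_mem hs) hw.1)
          (Subgroup.mem_centralizer_iff.mp hwc σ (Subgroup.mem_zpowers σ))
        have h2 := (charStab Q χ).mul_mem hw.2 ((charStab Q χ).inv_mem (hcent _ h1 χ))
        simpa [mul_assoc] using h2
      · obtain ⟨τ, hτ, hτ', hτs, hNτ⟩ := hA.exists_stab hAQ hQK havg (χ := χ')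
          ⟨s⁻¹ • f₀, hw' f₀ hf₀, fun h => hf0 ((smul_eq_zero_iff_eq s⁻¹).mp h)⟩ hσs
        have hsτ := htr τ hτs
        -- `τ` itself stabilises the weight
        have hτχ : τ ∈ charStab Q χ := by
          have hu : s * (τ * s⁻¹ * τ⁻¹) ∈ S := S.mul_mem hs (conj_mem (hAS hτ) (S.inv_mem hs))
          set u := s * (τ * s⁻¹ * τ⁻¹) with hu'
          have hgmem : u * τ ∈ charStab Q χ := by
            convert hsτ using 1
            rw [hu']; group
          obtain ⟨w, hw, hwn⟩ := coprime_key_normalize (A := Subgroup.zpowers σ) (W := W₀)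
            (by rw [Nat.card_zpowers, hA.order]; exact (hASc.coprime_dvd_left hqA).coprime_dvd_right (Subgroup.card_dvd_of_le inf_le_left))
            (Or.inl inferInstance) (Subgroup.zpowers_le.mpr (hW₀n σ hσ (hAS hA.mem))) (k := u * τ)
            (hWA _ _ (Subgroup.zpowers_le.mpr hσ) fun a ha => by
              refine ⟨mul_mem (mul_mem (inv_mem hgmem) (Subgroup.zpowers_le.mpr hσ ha)) hgmem, τ⁻¹ * a * τ,
                conj_mem_inv (hA.normalizes hτ) ha, ?_⟩
              have haA : a ∈ A := Subgroup.zpowers_le.mpr hA.mem ha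
              have h1 := conj_mem_inv (hAS hτ) (S.mul_mem (S.inv_mem hu) (conj_mem (hAS haA) hu))
              convert h1 using 1
              group)
          have hv : u * (τ * w * τ⁻¹) ∈ S := S.mul_mem hu (conj_mem (hAS hτ) hw.1)
          set v := u * (τ * w * τ⁻¹) with hv'
          set d := τ * σ * τ⁻¹ with hd'
          have hd : d ∈ Subgroup.zpowers σ := hA.norm τ hτ
          have hvd : v * d * v⁻¹ ∈ Subgroup.zpowers σ := by
            have h1 := hwn σ (Subgroup.mem_zpowers σ)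
            convert h1 using 1
            rw [hv', hd']; group
          have hdA : d ∈ A := Subgroup.zpowers_le.mpr hA.mem hd
          have hvd' : v * d * v⁻¹ * d⁻¹ ∈ S := by
            have := S.mul_mem hv (conj_mem (hAS hdA) (S.inv_mem hv))
            convert this using 1
            group
          have h2 := Subgroup.disjoint_def.mp (Subgroup.disjoint_of_coprime_natCard hASc)
            (Subgroup.zpowers_le.mpr hA.mem (mul_mem hvd (inv_mem hd))) hvd'
          rw [mul_inv_eq_one, mul_inv_eq_iff_eq_mul] at h2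
          have hd1 : d ≠ 1 := fun h => by
            have h3 : σ = 1 := by rw [hd'] at h; simpa using h
            have h4 := hA.order
            rw [h3, orderOf_one] at h4
            exact hq.one_lt.ne h4
          obtain ⟨i, hi⟩ := Subgroup.mem_zpowers_iff.mp ((hA.zpowers_eq hd hd1).ge (Subgroup.mem_zpowers σ))
          have hσv : σ * v = v * σ := hi ▸ ((show Commute d v from h2.symm).zpow_left i).eq
          have h3 := mul_mem (inv_mem (hcent _ (hII v hv hσv) χ)) (mul_mem hgmem hw.2)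
          convert h3 using 1
          rw [hv']; group
        obtain ⟨w, hw, hwc⟩ := hkey τ (hA.out τ hτ hτ' ▸ hpA) (hAS hτ) hτχ hsτ
        exfalso
        obtain ⟨hwS, hwχ⟩ := Subgroup.mem_inf.mp hw
        set c₁ := s⁻¹ * w with hc₁
        have hc₁S : c₁ ∈ S := S.mul_mem (S.inv_mem hs) hwS
        have hsc : s = w * c₁⁻¹ := by rw [hc₁]; group
        have hτc : τ * c₁ = c₁ * τ := Subgroup.mem_centralizer_iff.mp hwc τ (Subgroup.mem_zpowers τ)
        have hNτ' : ∀ f ∈ wt K (Dual M K) χ, avg (Subgroup.zpowers τ) f = 0 := by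
          intro f hf
          have hfc : c₁ • f ∈ wt K (Dual M K) χ' := by
            intro e
            have he : c₁⁻¹ * (e : Γ) * c₁ ∈ Q := conj_mem_inv (hSQ hc₁S) e.2
            calc (e : Γ) • c₁ • f = c₁ • (c₁⁻¹ * (e : Γ) * c₁) • f := by simp [mul_smul]
              _ = _ := by
                rw [hf ⟨_, he⟩, smul_comm, hχ' e, ← (mem_charStab (hSQ hwS)).mp hwχ ⟨_, he⟩]
                congr 2
                exact congrArg χ (Subtype.ext (show w * (c₁⁻¹ * (e : Γ) * c₁) * w⁻¹ = s * (e : Γ) * s⁻¹ by rw [hc₁]; group))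
          have hcn : c₁ ∈ Subgroup.normalizer (Subgroup.zpowers τ : Set Γ) := by
            rw [Subgroup.mem_normalizer_iff]
            intro y
            have key : ∀ z ∈ Subgroup.zpowers τ, c₁ * z * c₁⁻¹ = z := fun z hz => by
              rw [← Subgroup.mem_centralizer_iff.mp hwc z hz, mul_inv_cancel_right]
            refine ⟨fun hy => by rw [key y hy]; exact hy, fun hy => ?_⟩
            have h1 := key _ hy
            have h2 : c₁ * y * c₁⁻¹ = y := mul_left_cancel (mul_right_cancel h1)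
            rwa [h2] at hy
          have h1 := hNτ _ hfc
          rw [avg_conj _ hcn] at h1
          exact (smul_eq_zero_iff_eq c₁).mp h1
        have := Fintype.ofFinite (Subgroup.zpowers σ)
        have h := card_smul_eq (Subgroup.zpowers σ) hp (hA.out τ hτ hτ') (hA.normalizes hτ) (hA.free_pow hτ hτ')
          (hNσ f₀ hf₀)
        rw [Finset.sum_eq_zero (fun z _ => by
            rw [hNτ' _ (smul_mem_wt (inv_mem (Subgroup.zpowers_le.mpr hσ z.2)) hf₀), smul_zero]),
          Nat.card_zpowers, hA.order, ← Nat.cast_smul_eq_nsmul K] at h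
        exact hf0 ((smul_eq_zero.mp h).resolve_left hqK)
  · -- `Z` is not trivial
    have : IsMulCommutative Z := ⟨⟨fun x y => Subtype.ext (hZc x x.2 y (hZQ y.2))⟩⟩
    have hZK : ((Nat.card Z : ℕ) : K) ≠ 0 := hcast _ fun h => hQt (h.trans (Subgroup.card_dvd_of_le hZQ))
    have hZt : ¬ t ∣ Nat.card Z := fun h => hQt (h.trans (Subgroup.card_dvd_of_le hZQ))
    by_cases hσc : ∀ z ∈ Z, σ * z = z * σ
    · -- `σ` centralises `Z`
      obtain ⟨z, hz, hz1⟩ : ∃ z ∈ Z, z ≠ 1 := by
        by_contra h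
        push Not at h
        exact hZ1 ((Subgroup.eq_bot_iff_forall Z).mpr h)
      obtain ⟨χ, hχz, hw⟩ := exists_wt (K := K) hM hZt (x := (⟨z, hz⟩ : Z)) (hmove z (hZQ hz) hz1)
      have hχ1 : χ ≠ 1 := fun h => hχz (by rw [h]; rfl)
      have hσ : σ ∈ charStab Z χ := mem_charStab_of_commute hσc
      have hNσ := avg_eq_zero_of_moved hσ (x := (⟨z, hz⟩ : Z)) (hσc z hz) (hnilM z (hZQ hz) (hσc z hz)) hχz
      rcases hcases with hI | hII
      · exact hpair.isometry_case hχ1 hw hq hA.order hqK hQK hQr ((hASc.coprime_dvd_left hqA).symm)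
          (hAQc.coprime_dvd_left hqA) hexp hσQ hσ hNσ hI
          (fun x hx h => ⟨hx, Subgroup.mem_centralizer_iff.mpr fun s hs => hnilQ s hs (hI s hs) x hx h⟩)
      · exact hpair.free_hh hχ1 hw hq hA.order hqK hQK hqr (hASc.coprime_dvd_left hqA) (hAQc.coprime_dvd_left hqA)
          hrS hexp hσQ (hAS hA.mem) hσ hNσ hII hder
    · push Not at hσc
      obtain ⟨z, hz, hz1⟩ := hσc
      have hd : σ * z * σ⁻¹ * z⁻¹ ∈ Z := Z.mul_mem (conj_mem hσZ hz) (Z.inv_mem hz)
      obtain ⟨χ, hχd, hw⟩ := exists_wt (K := K) hM hZt (x := (⟨_, hd⟩ : Z))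
        (hmove _ (hZQ hd) fun h => hz1 (mul_inv_eq_iff_eq_mul.mp (mul_inv_eq_one.mp h)))
      have hσ : σ ∉ charStab Z χ := fun h => hχd (by
        rw [show (⟨_, hd⟩ : Z) = ⟨σ * z * σ⁻¹, conj_mem hσZ hz⟩ * (⟨z, hz⟩)⁻¹ from rfl, map_mul,
          (mem_charStab hσZ).mp h ⟨z, hz⟩, ← map_mul, mul_inv_cancel, map_one])
      have hχ1 : χ ≠ 1 := fun h => hχd (by rw [h]; rfl)
      obtain ⟨τ, hτ, hτ', hτs, hNτ⟩ := hA.exists_stab hAZ hZK havg hw hσ
      rcases hcases with hI | hII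
      · exact hpair.free_hh hχ1 hw hp (hA.out τ hτ hτ') hpK hQK hpr (hASc.coprime_dvd_left hpA) (hAQc.coprime_dvd_left hpA)
          hrS hexp (hAQ hτ) (hAS hτ) hτs hNτ
          (fun s hs h => by rw [hCτ hI τ hτ hτ' s hs h]; exact Subgroup.one_mem _) hder
      · -- the kernel on the moved weights
        let Q₁ : Subgroup Γ :=
          { carrier := {x | x ∈ Q ∧ ∀ ψ : Z →* Kˣ, σ ∉ charStab Z ψ → ∀ f ∈ wt K (Dual M K) ψ, x • f = f}
            one_mem' := ⟨Q.one_mem, fun ψ _ f _ => one_smul Γ f⟩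
            mul_mem' := fun {x y} hx hy => ⟨Q.mul_mem hx.1 hy.1, fun ψ hψ f hf => by
              rw [mul_smul, hy.2 ψ hψ f hf, hx.2 ψ hψ f hf]⟩
            inv_mem' := fun {x} hx => ⟨Q.inv_mem hx.1, fun ψ hψ f hf => inv_smul_eq_iff.mpr (hx.2 ψ hψ f hf).symm⟩ }
        have hn : ∀ H : Subgroup Γ, H ≤ Subgroup.normalizer (Q : Set Γ) → H ≤ Subgroup.normalizer (Z : Set Γ) →
            (∀ g ∈ H, g * σ * g⁻¹ ∈ Subgroup.zpowers σ ∨ ∀ z ∈ Z, g * z = z * g) →
            H ≤ Subgroup.normalizer (Q₁ : Set Γ) := by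
          intro H hHQ hHZ hHσ g hg
          have key : ∀ g ∈ H, ∀ x ∈ Q₁, g * x * g⁻¹ ∈ Q₁ := by
            intro g hg x hx
            refine ⟨conj_mem (hHQ hg) hx.1, fun ψ hψ f hf => ?_⟩
            obtain ⟨ψ', hψ', hw', htr⟩ := exists_conj_weight (K := K) (W := Dual M K) ψ (hHZ hg)
            have hψσ : σ ∉ charStab Z ψ' := by
              intro h
              rcases hHσ g hg with h1 | h1
              · have h2 := htr σ h
                have hne1 : g * σ * g⁻¹ ≠ 1 := fun e => by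
                  have h3 : σ = 1 := by simpa using e
                  have h4 := hA.order
                  rw [h3, orderOf_one] at h4
                  exact hq.one_lt.ne h4
                exact hψ (Subgroup.zpowers_le.mpr h2 ((hA.zpowers_eq h1 hne1).ge (Subgroup.mem_zpowers σ)))
              · obtain ⟨hn', h'⟩ := h
                refine hψ ((mem_charStab hn').mpr fun e => ?_)
                have h3 := h' e
                rw [hψ', hψ'] at h3
                have e1 : ∀ z : Z, (⟨g * z * g⁻¹, conj_mem (hHZ hg) z.2⟩ : Z) = z := fun z =>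
                  Subtype.ext (by
                    show g * (z : Γ) * g⁻¹ = z
                    rw [h1 z z.2, mul_inv_cancel_right])
                rwa [e1, e1] at h3
            rw [mul_smul, mul_smul, hx.2 ψ' hψσ _ (hw' f hf), smul_inv_smul]
          rw [Subgroup.mem_normalizer_iff]
          exact fun x => ⟨key g hg x, fun h => by simpa [mul_assoc] using key g⁻¹ (H.inv_mem hg) _ h⟩
        have hQ₁ne : Q₁ ≠ Q := fun he => by
          obtain ⟨f, hf, hf0⟩ := hw
          apply hχd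
          have h1 := (he.ge (hZQ hd)).2 χ hσ f hf
          rw [hf ⟨_, hd⟩] at h1
          have h2 : ((χ ⟨_, hd⟩ : K) - 1) • f = 0 := by rw [sub_smul, one_smul, h1, sub_self]
          exact Units.ext (sub_eq_zero.mp ((smul_eq_zero.mp h2).resolve_right hf0))
        have hQ₁Z : Q₁ ≤ Z := le_inf (fun x hx => hx.1) (hQmin Q₁ (fun x hx => hx.1)
          (hn S hSQ hSZn fun s hs => Or.inr (hSZ s hs)) (hn A hAQ hAZ fun a ha => Or.inl (hA.norm a ha)) hQ₁ne)
        obtain ⟨c, hc, hσc', hcZ⟩ := hfixedQ hII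
        exact hcZ (hQ₁Z ⟨hc, fun ψ hψ f hf =>
          hA.smul_eq_self hAZ hZK hψ hσc' (hnilM c hc hσc') (fun e he => (hZc e he c hc).symm) hf⟩)

end CfsgLib.FittingHeight
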