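/-
Reduction of "Fitting height at most two" for groups with a coprime fixed-point-free operator group
to a small configuration.
-/
import Mathlib
import Cfsg.Agent.Lib.Coprime
import Cfsg.Agent.Lib.Elementary
import Cfsg.Agent.Lib.FittingHeight.Ward

set_option autoImplicit false

open scoped commutatorElement Pointwise IsMulCommutative

namespace CfsgLib.FittingHeight

universe u v

/-- Nilpotent-by-nilpotent, in terms of lower central series. -/
def HeightTwo {Γ : Type u} [Group Γ] (G : Subgroup Γ) : Prop :=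
  ∃ k m : ℕ, (G.lowerCentralSeries k).lowerCentralSeries m = ⊥

/-- The configuration to which a counterexample reduces. -/
structure Config {Γ : Type u} [Group Γ] (A G V Q S : Subgroup Γ) (r : ℕ) : Prop where
  vNormal : V.Normal
  vle : V ≤ G
  vComm : ∀ x ∈ V, ∀ y ∈ V, x * y = y * x
  vElem : ∃ t : ℕ, t.Prime ∧ ∀ x ∈ V, x ^ t = 1
  qle : Q ≤ G
  sle : S ≤ G
  rprime : r.Prime
  qGroup : IsPGroup r Q
  qCoprimeV : (Nat.card Q).Coprime (Nat.card V)
  sCoprimeQ : (Nat.card S).Coprime (Nat.card Q)
  aQ : A ≤ Subgroup.normalizer (Q : Set Γ)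
  aS : A ≤ Subgroup.normalizer (S : Set Γ)
  sQ : S ≤ Subgroup.normalizer (Q : Set Γ)
  notCent : ¬ S ≤ Subgroup.centralizer (Q : Set Γ)
  sMin : ∀ S₁ ≤ S, A ≤ Subgroup.normalizer (S₁ : Set Γ) → S₁ ≠ S → S₁ ≤ Subgroup.centralizer (Q : Set Γ)
  qMin : ∀ Q₁ ≤ Q, S ≤ Subgroup.normalizer (Q₁ : Set Γ) → A ≤ Subgroup.normalizer (Q₁ : Set Γ) → Q₁ ≠ Q →
    Q₁ ≤ Subgroup.centralizer (S : Set Γ)
  faithful : ∀ x ∈ Q, (∀ y ∈ V, x * y = y * x) → x = 1

variable {Γ : Type u} [Group Γ]

theorem card_sup_dvd [Finite Γ] (X Y : Subgroup Γ) [Y.Normal] :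
    Nat.card (X ⊔ Y : Subgroup Γ) ∣ Nat.card X * Nat.card Y := by
  have h2 : (Y.subgroupOf (X ⊔ Y)).index = Y.relIndex X := by
    show Y.relIndex (X ⊔ Y) = Y.relIndex X
    exact Subgroup.relIndex_sup_right X Y
  rw [← Subgroup.card_mul_index (Y.subgroupOf (X ⊔ Y)),
    Nat.card_congr (Subgroup.subgroupOfEquivOfLe (le_sup_right : Y ≤ X ⊔ Y)).toEquiv, h2, mul_comm]
  exact Nat.mul_dvd_mul_right ((Y.subgroupOf X).index_dvd_card) _

/-- A minimal normal subgroup inside a normal subgroup. -/
theorem exists_min_le [Finite Γ] {N : Subgroup Γ} [N.Normal] (hN : N ≠ ⊥) :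
    ∃ V : Subgroup Γ, V.Normal ∧ V ≠ ⊥ ∧ V ≤ N ∧
      ∀ W : Subgroup Γ, W.Normal → W ≤ V → W ≠ ⊥ → W = V := by
  obtain ⟨V, ⟨h1, h2, h3⟩, hmin⟩ := (Set.toFinite {V : Subgroup Γ | V.Normal ∧ V ≠ ⊥ ∧ V ≤ N}).exists_minimal
    ⟨N, inferInstance, hN, le_rfl⟩
  exact ⟨V, h1, h2, h3, fun W hW hWV hW0 => le_antisymm hWV (hmin ⟨hW, hW0, hWV.trans h3⟩ hWV)⟩

theorem normal_lcs (G : Subgroup Γ) [hG : G.Normal] : ∀ k, (G.lowerCentralSeries k).Normal
  | 0 => hG
  | k + 1 => by
    have := normal_lcs G k
    rw [Subgroup.lowerCentralSeries_succ]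
    infer_instance

/-- The reduction. -/
theorem heightTwo_of_config (A₀ : Type v) [Group A₀] [Finite A₀] [Group.IsSolvable A₀]
    (core : ∀ (Γ : Type u) [Group Γ] [Finite Γ] (ι : A₀ →* Γ) (G V Q S : Subgroup Γ) (r : ℕ),
      Function.Injective ι → G.Normal → Group.IsSolvable G → (Nat.card A₀).Coprime (Nat.card G) →
      (∀ g ∈ G, (∀ a, ι a * g = g * ι a) → g = 1) → Config ι.range G V Q S r → False) :
    ∀ (n : ℕ) (Γ : Type u) [Group Γ] [Finite Γ] (ι : A₀ →* Γ) (G : Subgroup Γ), Nat.card Γ = n →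
      Function.Injective ι → G.Normal → G ⊔ ι.range = ⊤ → Group.IsSolvable G →
      (Nat.card A₀).Coprime (Nat.card G) → (∀ g ∈ G, (∀ a, ι a * g = g * ι a) → g = 1) → HeightTwo G := by
  intro n
  induction n using Nat.strong_induction_on with
  | _ n ih =>
    intro Γ _ _ ι G hn hι hGn hGA hGs hcop hfpf
    classical
    set A := ι.range with hA
    have hAc : Nat.card A = Nat.card A₀ :=
      (Nat.card_congr (MonoidHom.ofInjective hι).toEquiv).symm
    have hAs : Group.IsSolvable A := Group.isSolvable_of_surjective (f := ι.rangeRestrict) ι.rangeRestrict_surjective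
    rcases eq_or_ne G ⊥ with rfl | hG0
    · exact ⟨0, 0, rfl⟩
    -- quotients by minimal normal subgroups inside `G`
    have hquot : ∀ V : Subgroup Γ, V.Normal → V ≠ ⊥ → V ≤ G →
        ∃ k m : ℕ, (G.lowerCentralSeries k).lowerCentralSeries m ≤ V := by
      intro V hV hV0 hVG
      set f := QuotientGroup.mk' V with hf
      have hlt : Nat.card (Γ ⧸ V) < n := by
        rw [← hn, ← V.card_mul_index, ← Subgroup.index_eq_card]
        have := (Subgroup.one_lt_card_iff_ne_bot V).mpr hV0
        have hi : 0 < V.index := Nat.pos_of_ne_zero Subgroup.index_ne_zero_of_finite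
        exact lt_mul_of_one_lt_left hi this
      have hι' : Function.Injective (f.comp ι) := by
        intro a b h
        have h1 : (ι a)⁻¹ * ι b ∈ V := QuotientGroup.eq.mp h
        have h2 : (ι a)⁻¹ * ι b ∈ A := A.mul_mem (A.inv_mem ⟨a, rfl⟩) ⟨b, rfl⟩
        have := Subgroup.disjoint_def.mp (Subgroup.disjoint_of_coprime_natCard (hAc ▸ hcop)) h2 (hVG h1)
        exact hι (inv_mul_eq_one.mp this)
      obtain ⟨k, m, hkm⟩ := ih _ hlt (Γ ⧸ V) (f.comp ι) (G.map f) rfl hι'
        (hGn.map f (QuotientGroup.mk'_surjective V))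
        (by rw [MonoidHom.range_comp, ← Subgroup.map_sup, hGA, Subgroup.map_top_of_surjective _ (QuotientGroup.mk'_surjective V)])
        (Group.isSolvable_of_surjective (f := f.subgroupMap G) (f.subgroupMap_surjective G))
        (hcop.coprime_dvd_right (Subgroup.card_map_dvd G f)) (by
          rintro _ ⟨g, hg, rfl⟩ hfix
          obtain ⟨c, hc, hcN⟩ := CfsgLib.coprime_fixed_quotient (A := A) (K := G) (N := V)
            (fun a _ => by rw [Subgroup.normalizer_eq_top_iff.mpr hGn]; trivial) (hAc ▸ hcop) (Or.inl hAs) hVG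
            (fun a _ => by rw [Subgroup.normalizer_eq_top_iff.mpr hV]; trivial)
            (fun a _ => by rw [Subgroup.normalizer_eq_top_iff.mpr hV]; trivial) hg (by
              rintro _ ⟨a, rfl⟩
              rw [← QuotientGroup.eq_one_iff, ← QuotientGroup.mk'_apply, ← hf, map_mul, map_mul, map_mul, map_inv, map_inv,
                show f (ι a) * f g = f g * f (ι a) from hfix a]
              group)
          have hc1 : c = 1 := hfpf c hc.1 fun a => Subgroup.mem_centralizer_iff.mp hc.2 _ ⟨a, rfl⟩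
          rw [hc1, mul_one] at hcN
          exact (QuotientGroup.eq_one_iff g).mpr (inv_mem_iff.mp hcN))
      refine ⟨k, m, ?_⟩
      rw [← QuotientGroup.ker_mk' V, ← hf, ← Subgroup.map_eq_bot_iff, Subgroup.map_lowerCentralSeries,
        Subgroup.map_lowerCentralSeries]
      exact hkm
    obtain ⟨V, hV, hV0, hVG, hVmin⟩ := exists_min_le hG0
    obtain ⟨k₁, m₁, hk₁⟩ := hquot V hV hV0 hVG
    have hanti : ∀ {k k' m m' : ℕ}, k ≤ k' → m ≤ m' →
        (G.lowerCentralSeries k').lowerCentralSeries m' ≤ (G.lowerCentralSeries k).lowerCentralSeries m :=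
      fun {k k' m m'} hk hm => ((G.lowerCentralSeries k').lowerCentralSeries_antitone hm).trans
        (Subgroup.lowerCentralSeries_mono m (G.lowerCentralSeries_antitone hk))
    -- uniqueness of `V`
    by_cases huniq : ∀ W : Subgroup Γ, W.Normal → W ≠ ⊥ → W ≤ G → V ≤ W
    swap
    · push Not at huniq
      obtain ⟨W, hW, hW0, hWG, hVW⟩ := huniq
      obtain ⟨k₂, m₂, hk₂⟩ := hquot W hW hW0 hWG
      refine ⟨max k₁ k₂, max m₁ m₂, eq_bot_iff.mpr fun x hx => ?_⟩
      have h1 : x ∈ V ⊓ W :=
        ⟨hk₁ (hanti (le_max_left _ _) (le_max_left _ _) hx), hk₂ (hanti (le_max_right _ _) (le_max_right _ _) hx)⟩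
      by_cases h0 : V ⊓ W = ⊥
      · exact h0 ▸ h1
      · exact absurd ((hVmin _ (Subgroup.normal_inf_normal V W) inf_le_left h0).ge.trans inf_le_right) hVW
    -- the nilpotent residual
    obtain ⟨k₀, hk₀, hstab⟩ : ∃ k, k₁ ≤ k ∧ G.lowerCentralSeries (k + 1) = G.lowerCentralSeries k := by
      obtain ⟨N, ⟨k, hk, rfl⟩, hmin⟩ :=
        (Set.toFinite {N : Subgroup Γ | ∃ k, k₁ ≤ k ∧ G.lowerCentralSeries k = N}).exists_minimal ⟨_, k₁, le_rfl, rfl⟩
      exact ⟨k, hk, le_antisymm (G.lowerCentralSeries_antitone (Nat.le_succ k))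
        (hmin ⟨k + 1, by omega, rfl⟩ (G.lowerCentralSeries_antitone (Nat.le_succ k)))⟩
    set N := G.lowerCentralSeries k₀ with hN
    have hNn : N.Normal := normal_lcs G k₀
    have hNG : N ≤ G := Subgroup.lowerCentralSeries_le_self G k₀
    have hNk : N.lowerCentralSeries m₁ ≤ V := le_trans (hanti hk₀ le_rfl) hk₁
    by_cases hNnil : ∃ m, N.lowerCentralSeries m = ⊥
    · obtain ⟨m, hm⟩ := hNnil; exact ⟨k₀, m, hm⟩
    exfalso
    have hN0 : N ≠ ⊥ := fun h => hNnil ⟨0, h⟩
    have hVN : V ≤ N := huniq N hNn hN0 hNG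
    have hNs : Group.IsSolvable N :=
      Group.isSolvable_of_isSolvable_injective (f := Subgroup.inclusion hNG) (Subgroup.inclusion_injective _)
    have hVs : Group.IsSolvable V :=
      Group.isSolvable_of_isSolvable_injective (f := Subgroup.inclusion hVG) (Subgroup.inclusion_injective _)
    obtain ⟨hVab, t, ht, hVexp⟩ := CfsgLib.minimal_normal_elementary (N := V) hV0 hVs
      fun M hM hMV => (em (M = ⊥)).imp id (hVmin M hM hMV)
    have := Fact.mk ht
    have hVt : IsPGroup t V := fun x => ⟨1, Subtype.ext (by simpa using hVexp x x.2)⟩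
    have hVcomm : ∀ x ∈ V, ∀ y ∈ V, x * y = y * x := fun x hx y hy =>
      congrArg Subtype.val (mul_comm' (⟨x, hx⟩ : V) ⟨y, hy⟩)
    -- the quotient `N / V`
    set Vn := V.subgroupOf N with hVn
    have hVnn : Vn.Normal := hV.subgroupOf N
    have hNVnil : Group.IsNilpotent (N ⧸ Vn) := by
      rw [Subgroup.nilpotent_iff_lowerCentralSeries]
      refine ⟨m₁, ?_⟩
      rw [← Subgroup.map_top_of_surjective _ (QuotientGroup.mk'_surjective Vn), ← Subgroup.map_lowerCentralSeries,
        Subgroup.map_eq_bot_iff, QuotientGroup.ker_mk']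
      intro x hx
      exact hNk (Subgroup.top_subtype_lowerCentralSeries N m₁ ▸ ⟨x, hx, rfl⟩)
    -- a Sylow subgroup times `V` is normal
    have hSylV : ∀ (l : ℕ) [Fact l.Prime] (R : Sylow l N),
        ((R : Subgroup N).map N.subtype ⊔ V).Normal := by
      intro l _ R
      have hRV : ((R : Subgroup N) ⊔ Vn).Normal := by
        have hn1 := Sylow.normal_of_normalizerCondition Group.normalizerCondition_of_isNilpotent
          (R.mapSurjective (f := QuotientGroup.mk' Vn) (QuotientGroup.mk'_surjective Vn))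
        have := hn1.comap (QuotientGroup.mk' Vn)
        rwa [Sylow.coe_mapSurjective, Subgroup.comap_map_eq, QuotientGroup.ker_mk'] at this
      have heq : ((R : Subgroup N) ⊔ Vn).map N.subtype = (R : Subgroup N).map N.subtype ⊔ V := by
        rw [Subgroup.map_sup, hVn, Subgroup.map_subgroupOf_eq_of_le hVN]
      refine ⟨fun x hx g => ?_⟩
      rw [← heq] at hx ⊢
      obtain ⟨y, hy, rfl⟩ := hx
      let c : MulAut N := MulAut.conjNormal g
      obtain ⟨m, hm⟩ := MulAction.exists_smul_eq N R (R.mapSurjective (f := c.toMonoidHom) c.surjective)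
      have hinc : ((R : Subgroup N) ⊔ Vn).map c.toMonoidHom ≤ (R : Subgroup N) ⊔ Vn := by
        rw [Subgroup.map_sup]
        refine sup_le ?_ ?_
        · rw [show (R : Subgroup N).map c.toMonoidHom = ↑(R.mapSurjective (f := c.toMonoidHom) c.surjective) from rfl, ← hm, Sylow.coe_subgroup_smul]
          intro z hz
          obtain ⟨w, hw, rfl⟩ := hz
          exact hRV.conj_mem w (Subgroup.mem_sup_left hw) m
        · refine le_trans ?_ le_sup_right
          rintro _ ⟨w, hw, rfl⟩
          exact hV.conj_mem (w : Γ) hw g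
      exact ⟨c y, hinc ⟨y, hy, rfl⟩, MulAut.conjNormal_apply g y⟩
    have hAN : ∀ (K : Subgroup Γ), K.Normal → A ≤ Subgroup.normalizer (K : Set Γ) := fun K hK a _ => by
      rw [Subgroup.normalizer_eq_top_iff.mpr hK]; trivial
    have hcopN : (Nat.card A).Coprime (Nat.card N) :=
      hAc ▸ hcop.coprime_dvd_right (Subgroup.card_dvd_of_le hNG)
    -- some Sylow subgroup of `N` moves `V`
    obtain ⟨r, hr, R₀, hRA, hrt, hRne⟩ : ∃ r : ℕ, ∃ _ : Fact r.Prime, ∃ R₀ : Sylow r N,
        A ≤ Subgroup.normalizer ((R₀ : Subgroup N).map N.subtype : Set Γ) ∧ r ≠ t ∧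
        ¬ (R₀ : Subgroup N).map N.subtype ≤ Subgroup.centralizer (V : Set Γ) := by
      by_contra hno
      push Not at hno
      apply hNnil
      have hnil : Group.IsNilpotent N := by
        refine ((Group.isNilpotent_of_finite_tfae (G := N)).out 0 3).mpr fun l hl R => ?_
        by_cases hlt : l = t
        · subst hlt
          have hVR : Vn ≤ R :=
            (hVt.of_equiv (Subgroup.subgroupOfEquivOfLe hVN).symm).le_sylow_of_normal R
          have hn1 := Sylow.normal_of_normalizerCondition Group.normalizerCondition_of_isNilpotent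
            (R.mapSurjective (f := QuotientGroup.mk' Vn) (QuotientGroup.mk'_surjective Vn))
          have := hn1.comap (QuotientGroup.mk' Vn)
          rwa [Sylow.coe_mapSurjective, Subgroup.comap_map_eq, QuotientGroup.ker_mk', sup_eq_left.mpr hVR] at this
        · haveI : Fact l.Prime := hl
          obtain ⟨R', hR'⟩ := CfsgLib.coprime_exists_invariant_sylow (A := A) (K := N) (hAN N hNn) hcopN (Or.inl hAs) l
          have hcent := hno l hl R' hR' hlt
          obtain ⟨m, rfl⟩ := MulAction.exists_smul_eq N R' R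
          have hcentR : ∀ w ∈ ((m • R' : Sylow l N) : Subgroup N), ∀ z ∈ Vn, w * z = z * w := by
            intro w hw z hz
            rw [Sylow.coe_subgroup_smul] at hw
            obtain ⟨y, hy, rfl⟩ := hw
            have hz' : (m⁻¹ * z * m : N) ∈ Vn := by simpa using hVnn.conj_mem z hz m⁻¹
            have h1 := Subgroup.mem_centralizer_iff.mp (hcent ⟨y, hy, rfl⟩) _ hz'
            have h2 : (m⁻¹ * z * m) * y = y * (m⁻¹ * z * m) := Subtype.ext h1
            show (m * y * m⁻¹) * z = z * (m * y * m⁻¹)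
            calc (m * y * m⁻¹) * z = m * (y * (m⁻¹ * z * m)) * m⁻¹ := by group
              _ = m * ((m⁻¹ * z * m) * y) * m⁻¹ := by rw [h2]
              _ = _ := by group
          have hRV : (((m • R' : Sylow l N) : Subgroup N) ⊔ Vn).Normal := by
            have hn1 := Sylow.normal_of_normalizerCondition Group.normalizerCondition_of_isNilpotent
              ((m • R').mapSurjective (f := QuotientGroup.mk' Vn) (QuotientGroup.mk'_surjective Vn))
            have := hn1.comap (QuotientGroup.mk' Vn)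
            rwa [Sylow.coe_mapSurjective, Subgroup.comap_map_eq, QuotientGroup.ker_mk'] at this
          refine ⟨fun y hy g => ?_⟩
          obtain ⟨a, ha, b, hb, hab⟩ := Subgroup.mem_sup_of_normal_right.mp (hRV.conj_mem y (Subgroup.mem_sup_left hy) g)
          have hord : ∃ j, orderOf (g * y * g⁻¹) = l ^ j := by
            obtain ⟨j, hj⟩ := IsPGroup.iff_orderOf.mp (m • R' : Sylow l N).isPGroup' ⟨y, hy⟩
            exact ⟨j, by rw [← MulAut.conj_apply, MulEquiv.orderOf_eq]; rwa [Subgroup.orderOf_mk] at hj⟩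
          have hb1 : b = 1 := by
            obtain ⟨j, hj⟩ := hord
            obtain ⟨i, hi⟩ := IsPGroup.iff_orderOf.mp (hVt.of_equiv (Subgroup.subgroupOfEquivOfLe hVN).symm) ⟨b, hb⟩
            rw [Subgroup.orderOf_mk] at hi
            obtain ⟨j', hj'⟩ := IsPGroup.iff_orderOf.mp (m • R' : Sylow l N).isPGroup' ⟨a, ha⟩
            rw [Subgroup.orderOf_mk] at hj'
            have hcab : Commute a b := hcentR a ha b hb
            have hco : (orderOf a).Coprime (orderOf b) := by
              rw [hi, hj']; exact ((Nat.coprime_primes hl.out ht).mpr hlt).pow _ _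
            have h3 := hcab.orderOf_mul_eq_mul_orderOf_of_coprime hco
            rw [hab, hj, hj', hi] at h3
            have hi0 : i = 0 := by
              by_contra h0
              have h4 : t ∣ l ^ j := h3 ▸ (dvd_pow_self t h0).mul_left _
              exact hlt ((Nat.prime_dvd_prime_iff_eq ht hl.out).mp (ht.dvd_of_dvd_pow h4)).symm
            rw [hi0, pow_zero] at hi
            exact orderOf_eq_one_iff.mp hi
          rw [← hab, hb1, mul_one]
          exact ha
      exact (Subgroup.isNilpotent_iff_lowerCentralSeries N).mp hnil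
    set R := (R₀ : Subgroup N).map N.subtype with hR
    have hRN : R ≤ N := Subgroup.map_subtype_le _
    have hRG : R ≤ G := hRN.trans hNG
    have hRr : IsPGroup r R := R₀.isPGroup'.map _
    have hRVn : (R ⊔ V).Normal := hSylV r R₀
    have hRVco : (Nat.card R).Coprime (Nat.card V) := by
      obtain ⟨i, hi⟩ := IsPGroup.iff_card.mp hRr
      obtain ⟨j, hj⟩ := IsPGroup.iff_card.mp hVt
      rw [hi, hj]
      exact ((Nat.coprime_primes hr.out ht).mpr hrt).pow _ _
    set L := G ⊓ Subgroup.normalizer (R : Set Γ) with hL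
    have hGnorm : ∀ X : Subgroup Γ, G ≤ Subgroup.normalizer (X : Set Γ) → A ≤ Subgroup.normalizer (X : Set Γ) → X.Normal :=
      fun X h1 h2 => Subgroup.normalizer_eq_top_iff.mp (top_unique (hGA ▸ sup_le h1 h2))
    have hAL : A ≤ Subgroup.normalizer (L : Set Γ) := by
      have key : ∀ a ∈ A, ∀ x ∈ L, a * x * a⁻¹ ∈ L := fun a ha x hx =>
        ⟨hGn.conj_mem x hx.1 a, Subgroup.mul_mem _ (Subgroup.mul_mem _ (hRA ha) hx.2) (Subgroup.inv_mem _ (hRA ha))⟩
      intro a ha
      rw [Subgroup.mem_normalizer_iff]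
      exact fun x => ⟨key a ha x, fun h => by simpa [mul_assoc] using key a⁻¹ (A.inv_mem ha) _ h⟩
    -- the Frattini argument
    have hfrat : ∀ g ∈ G, ∃ w ∈ V, ∃ c ∈ L, w * c = g := by
      intro g hg
      set U := R ⊔ V
      have hRU : R ≤ U := le_sup_left
      have hidx : ¬ r ∣ (R.subgroupOf U).index := by
        intro hd
        have h1 := Subgroup.card_mul_index (R.subgroupOf U)
        rw [Nat.card_congr (Subgroup.subgroupOfEquivOfLe hRU).toEquiv] at h1
        have h2 : Nat.card U ∣ Nat.card R * Nat.card V := card_sup_dvd R V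
        rw [← h1] at h2
        have h3 : r ∣ Nat.card V := hd.trans (Nat.dvd_of_mul_dvd_mul_left Nat.card_pos h2)
        obtain ⟨j, hj⟩ := IsPGroup.iff_card.mp hVt
        rw [hj] at h3
        exact hrt ((Nat.prime_dvd_prime_iff_eq hr.out ht).mp (hr.out.dvd_of_dvd_pow h3))
      let P : Sylow r U := (hRr.of_equiv (Subgroup.subgroupOfEquivOfLe hRU).symm).toSylow hidx
      let c : MulAut U := MulAut.conjNormal g
      obtain ⟨u, hu⟩ := MulAction.exists_smul_eq U P (P.mapSurjective (f := c.toMonoidHom) c.surjective)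
      have hconj : ∀ x ∈ R, (u : Γ)⁻¹ * (g * x * g⁻¹) * u ∈ R := by
        intro x hx
        have h1 : c ⟨x, hRU hx⟩ ∈ ((u • P : Sylow r U) : Subgroup U) := by
          rw [hu]; exact ⟨⟨x, hRU hx⟩, hx, rfl⟩
        rw [Sylow.coe_subgroup_smul] at h1
        obtain ⟨y, hy, hy'⟩ := h1
        have h2 : (u : Γ) * y * (u : Γ)⁻¹ = g * x * g⁻¹ := by
          have := congrArg Subtype.val hy'
          simpa [c, MulAut.conjNormal_apply] using this
        rw [← h2]
        have hyR : (y : Γ) ∈ R := hy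
        simpa [mul_assoc] using hyR
      have hN' : (u : Γ)⁻¹ * g ∈ Subgroup.normalizer (R : Set Γ) := by
        have hle : R.map (MulAut.conj ((u : Γ)⁻¹ * g)).toMonoidHom ≤ R := by
          rintro _ ⟨x, hx, rfl⟩
          show (u : Γ)⁻¹ * g * x * ((u : Γ)⁻¹ * g)⁻¹ ∈ R
          simpa [mul_assoc] using hconj x hx
        have heq : R.map (MulAut.conj ((u : Γ)⁻¹ * g)).toMonoidHom = R :=
          Subgroup.eq_of_le_of_card_ge hle (Subgroup.card_map_of_injective (MulAut.conj _).injective).ge
        rw [Subgroup.mem_normalizer_iff]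
        intro x
        refine ⟨fun hx => hle ⟨x, hx, rfl⟩, fun hx => ?_⟩
        obtain ⟨y, hy, he⟩ := heq.ge hx
        exact (MulAut.conj ((u : Γ)⁻¹ * g)).injective he ▸ hy
      obtain ⟨w, hw, z, hz, hwz⟩ := Subgroup.mem_sup_of_normal_left.mp (show (u : Γ) ∈ V ⊔ R from sup_comm R V ▸ u.2)
      refine ⟨w, hw, z * ((u : Γ)⁻¹ * g), ⟨G.mul_mem (hRG hz) (G.mul_mem (inv_mem ?_) hg), mul_mem (Subgroup.le_normalizer hz) hN'⟩, ?_⟩
      · exact (sup_le hRG hVG) u.2
      · rw [← mul_assoc, hwz, mul_inv_cancel_left]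
    have hRVdisj : ∀ x ∈ R, x ∈ V → x = 1 := fun x hx hx' =>
      Subgroup.disjoint_def.mp (Subgroup.disjoint_of_coprime_natCard hRVco) hx hx'
    -- `L` meets `V` trivially
    have hLV : ∀ x ∈ L, x ∈ V → x = 1 := by
      intro x hxL hxV
      set X := V ⊓ Subgroup.centralizer (R : Set Γ) with hX
      have hXn : X.Normal := by
        have : X = V ⊓ Subgroup.centralizer ((R ⊔ V : Subgroup Γ) : Set Γ) := by
          refine le_antisymm ?_ (inf_le_inf_left V (Subgroup.centralizer_le (le_sup_left : R ≤ R ⊔ V)))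
          intro y hy
          refine ⟨hy.1, Subgroup.le_centralizer_iff.mp (sup_le ?_ ?_) (Subgroup.mem_zpowers y)⟩
          · exact fun z hz => Subgroup.mem_centralizer_iff.mpr fun w hw => by
              obtain ⟨i, rfl⟩ := Subgroup.mem_zpowers_iff.mp hw
              exact ((show Commute y z from (Subgroup.mem_centralizer_iff.mp hy.2 z hz).symm).zpow_left i).eq
          · exact fun z hz => Subgroup.mem_centralizer_iff.mpr fun w hw => by
              obtain ⟨i, rfl⟩ := Subgroup.mem_zpowers_iff.mp hw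
              exact ((show Commute y z from hVcomm y hy.1 z hz).zpow_left i).eq
        rw [this]
        infer_instance
      have hxX : x ∈ X := by
        refine ⟨hxV, Subgroup.mem_centralizer_iff.mpr fun z hz => ?_⟩
        have h1 : x * z * x⁻¹ * z⁻¹ ∈ V := by
          rw [show x * z * x⁻¹ * z⁻¹ = x * (z * x⁻¹ * z⁻¹) by group]
          exact V.mul_mem hxV (hV.conj_mem _ (V.inv_mem hxV) z)
        have h2 : x * z * x⁻¹ * z⁻¹ ∈ R :=
          R.mul_mem ((Subgroup.mem_normalizer_iff.mp hxL.2 z).mp hz) (R.inv_mem hz)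
        have h3 := hRVdisj _ h2 h1
        rw [mul_inv_eq_one, mul_inv_eq_iff_eq_mul] at h3
        exact h3.symm
      by_contra hx1
      have hXV : X = V := hVmin X hXn inf_le_left fun h => hx1 (Subgroup.mem_bot.mp (h ▸ hxX))
      exact hRne (Subgroup.le_centralizer_iff.mp (hXV.ge.trans inf_le_right))
    -- `V` is self-centralising in `G`
    have hLfaith : ∀ x ∈ L, (∀ y ∈ V, x * y = y * x) → x = 1 := by
      set K := L ⊓ Subgroup.centralizer (V : Set Γ) with hK
      have hLK : ∀ g ∈ L ⊔ V ⊔ A, ∀ y ∈ K, g * y * g⁻¹ ∈ K := by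
        have hle : L ⊔ V ⊔ A ≤ Subgroup.normalizer (K : Set Γ) := by
          have hN1 : ∀ g : Γ, g ∈ Subgroup.normalizer (L : Set Γ) → g ∈ Subgroup.normalizer (K : Set Γ) := by
            intro g hg
            have key : ∀ g ∈ Subgroup.normalizer (L : Set Γ), ∀ y ∈ K, g * y * g⁻¹ ∈ K := fun g hg y hy =>
              ⟨(Subgroup.mem_normalizer_iff.mp hg y).mp hy.1, (inferInstance : (Subgroup.centralizer (V : Set Γ)).Normal).conj_mem y hy.2 g⟩
            rw [Subgroup.mem_normalizer_iff]
            exact fun y => ⟨key g hg y, fun h => by simpa [mul_assoc] using key g⁻¹ (inv_mem hg) _ h⟩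
          refine sup_le (sup_le (fun g hg => hN1 g (Subgroup.le_normalizer hg)) fun w hw => ?_) fun a ha => hN1 a (hAL ha)
          rw [Subgroup.mem_normalizer_iff]
          intro y
          constructor
          · intro hy
            rw [Subgroup.mem_centralizer_iff.mp hy.2 w hw, mul_inv_cancel_right]
            exact hy
          · intro hy
            have h1 := Subgroup.mem_centralizer_iff.mp hy.2 w hw
            have : y = w * y * w⁻¹ := by
              calc y = w⁻¹ * ((w * y * w⁻¹) * w) := by group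
                _ = w⁻¹ * (w * (w * y * w⁻¹)) := by rw [h1]
                _ = _ := by group
            rw [this]; exact hy
        exact fun g hg y hy => (Subgroup.mem_normalizer_iff.mp (hle hg) y).mp hy
      have hKn : K.Normal := ⟨fun y hy g => hLK g (by
        have hg : g ∈ G ⊔ A := hGA ▸ Subgroup.mem_top g
        refine (sup_le ?_ le_sup_right : G ⊔ A ≤ L ⊔ V ⊔ A) hg
        intro x hx
        obtain ⟨w, hw, c, hc, rfl⟩ := hfrat x hx
        exact Subgroup.mem_sup_left (mul_mem (Subgroup.mem_sup_right hw) (Subgroup.mem_sup_left hc))) y hy⟩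
      intro x hx hcx
      by_contra hx1
      have hxK : x ∈ K := ⟨hx, Subgroup.mem_centralizer_iff.mpr fun y hy => (hcx y hy).symm⟩
      have hle := huniq K hKn (fun h => hx1 (Subgroup.mem_bot.mp (h ▸ hxK))) (inf_le_left.trans inf_le_left)
      exact hV0 ((Subgroup.eq_bot_iff_forall V).mpr fun y hy => hLV y (hle hy).1 hy)
    have hRL : R ≤ L := le_inf hRG Subgroup.le_normalizer
    have hcopL : (Nat.card A).Coprime (Nat.card L) :=
      hAc ▸ hcop.coprime_dvd_right (Subgroup.card_dvd_of_le inf_le_left)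
    have hRnL : ∀ g ∈ L, g ∈ Subgroup.normalizer (R : Set Γ) := fun g hg => hg.2
    -- some coprime Sylow subgroup of `L` moves `R`
    obtain ⟨l, hl, S₀, hSA, hlr, hSne⟩ : ∃ l : ℕ, ∃ _ : Fact l.Prime, ∃ S₀ : Sylow l L,
        A ≤ Subgroup.normalizer ((S₀ : Subgroup L).map L.subtype : Set Γ) ∧ l ≠ r ∧
        ¬ (S₀ : Subgroup L).map L.subtype ≤ Subgroup.centralizer (R : Set Γ) := by
      by_contra hno
      push Not at hno
      set C := (Subgroup.centralizer (R : Set Γ)).subgroupOf L with hC
      have hCn : C.Normal := by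
        refine ⟨fun c hc g => ?_⟩
        rw [hC, Subgroup.mem_subgroupOf, Subgroup.mem_centralizer_iff] at hc ⊢
        intro z hz
        have h1 := hc _ ((Subgroup.mem_normalizer_iff.mp (inv_mem (hRnL g g.2)) z).mp hz)
        simp only [inv_inv, Subgroup.coe_mul, Subgroup.coe_inv] at h1 ⊢
        calc z * ((g : Γ) * c * (g : Γ)⁻¹) = g * (((g : Γ)⁻¹ * z * g) * c) * (g : Γ)⁻¹ := by group
          _ = g * (c * ((g : Γ)⁻¹ * z * g)) * (g : Γ)⁻¹ := by rw [h1]
          _ = _ := by group
      obtain ⟨P⟩ := Sylow.nonempty (p := r) (G := L)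
      have htop : (P : Subgroup L) ⊔ C = ⊤ := by
        refine Subgroup.index_eq_one.mp ?_
        by_contra hne1
        obtain ⟨l, hl, hld⟩ := Nat.exists_prime_and_dvd hne1
        have := Fact.mk hl
        by_cases hlr : l = r
        · subst hlr
          exact P.not_dvd_index (hld.trans (Subgroup.index_dvd_of_le le_sup_left))
        · obtain ⟨T, hT⟩ := CfsgLib.coprime_exists_invariant_sylow (A := A) (K := L) hAL hcopL (Or.inl hAs) l
          have hTC : (T : Subgroup L) ≤ C := fun x hx => hno l ⟨hl⟩ T hT hlr ⟨x, hx, rfl⟩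
          exact T.not_dvd_index (hld.trans (Subgroup.index_dvd_of_le (hTC.trans le_sup_right)))
      set P' := (P : Subgroup L).map L.subtype with hP'
      -- the iterated commutators
      let T : ℕ → Subgroup Γ := fun j => Nat.rec R (fun _ X => ⁅X, L⁆) j
      have hT0 : T 0 = R := rfl
      have hTs : ∀ j, T (j + 1) = ⁅T j, L⁆ := fun _ => rfl
      have hTR : ∀ j, T j ≤ R := by
        intro j
        induction j with
        | zero => exact le_rfl
        | succ j ihj =>
          rw [hTs]
          exact (Subgroup.commutator_mono ihj le_rfl).trans (CfsgLib.commutator_le_of_le_normalizer fun g hg => hg.2)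
      have hTP : ∀ j, T j ≤ P'.lowerCentralSeries j := by
        intro j
        induction j with
        | zero =>
          intro x hx
          have hxr : IsPGroup r (R.subgroupOf L) := hRr.of_equiv (Subgroup.subgroupOfEquivOfLe hRL).symm
          have hRn : (R.subgroupOf L).Normal :=
            (Subgroup.normal_subgroupOf_iff_le_normalizer hRL).mpr fun g hg => hg.2
          exact ⟨⟨x, hRL hx⟩, hxr.le_sylow_of_normal P hx, rfl⟩
        | succ j ihj =>
          rw [hTs, Subgroup.lowerCentralSeries_succ, Subgroup.commutator_le]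
          intro x hx g hg
          have hg' : (⟨g, hg⟩ : L) ∈ (P : Subgroup L) ⊔ C := htop ▸ Subgroup.mem_top _
          obtain ⟨a, ha, b, hb, hab⟩ := Subgroup.mem_sup_of_normal_right.mp hg'
          have hgab : (a : Γ) * b = g := congrArg Subtype.val hab
          have hxb : (b : Γ) * x⁻¹ * (b : Γ)⁻¹ = x⁻¹ := by
            have h : x⁻¹ * (b : Γ) = b * x⁻¹ := Subgroup.mem_centralizer_iff.mp hb x⁻¹ (inv_mem (hTR j hx))
            rw [← h, mul_inv_cancel_right]
          have heq : ⁅x, g⁆ = ⁅x, (a : Γ)⁆ := by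
            rw [← hgab, commutatorElement_def, commutatorElement_def]
            calc x * ((a : Γ) * b) * x⁻¹ * ((a : Γ) * b)⁻¹ = x * a * ((b : Γ) * x⁻¹ * (b : Γ)⁻¹) * (a : Γ)⁻¹ := by group
              _ = _ := by rw [hxb]
          rw [heq]
          exact Subgroup.commutator_mem_commutator (ihj hx) ⟨a, ha, rfl⟩
      obtain ⟨j₀, hj₀⟩ := (Subgroup.isNilpotent_iff_lowerCentralSeries P').mp (P.isPGroup'.map L.subtype).isNilpotent
      -- the part of `N` prime to `r`
      obtain ⟨D, ⟨hDn, hVD, hDN, hDr⟩, hDmax⟩ := (Set.toFinite {D : Subgroup Γ | D.Normal ∧ V ≤ D ∧ D ≤ N ∧ ¬ r ∣ Nat.card D}).exists_maximal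
        ⟨V, hV, le_rfl, hVN, fun h => by
          obtain ⟨j, hj⟩ := IsPGroup.iff_card.mp hVt
          rw [hj] at h
          exact hrt ((Nat.prime_dvd_prime_iff_eq hr.out ht).mp (hr.out.dvd_of_dvd_pow h))⟩
      have hND : N ≤ R ⊔ D := by
        have hle : ((R ⊔ D).subgroupOf N) = ⊤ := by
          refine Subgroup.index_eq_one.mp ?_
          by_contra hne1
          obtain ⟨i, hi, hid⟩ := Nat.exists_prime_and_dvd hne1
          have := Fact.mk hi
          by_cases hir : i = r
          · subst hir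
            exact R₀.not_dvd_index (hid.trans (Subgroup.index_dvd_of_le fun x hx => Subgroup.mem_sup_left ⟨x, hx, rfl⟩))
          · obtain ⟨T'⟩ := Sylow.nonempty (p := i) (G := N)
            set X := (T' : Subgroup N).map N.subtype ⊔ V with hX
            have hXn : X.Normal := hSylV i T'
            have hnew : D ⊔ X ≤ D := by
              refine hDmax ⟨Subgroup.sup_normal D X, hVD.trans le_sup_left, sup_le hDN (sup_le (Subgroup.map_subtype_le _) hVN), ?_⟩ le_sup_left
              intro hd
              rcases hr.out.dvd_mul.mp (hd.trans (card_sup_dvd D X)) with h | h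
              · exact hDr h
              · rcases hr.out.dvd_mul.mp (h.trans (card_sup_dvd _ V)) with h | h
                · obtain ⟨j, hj⟩ := IsPGroup.iff_card.mp (T'.isPGroup'.map N.subtype)
                  rw [hj] at h
                  exact hir ((Nat.prime_dvd_prime_iff_eq hr.out hi).mp (hr.out.dvd_of_dvd_pow h)).symm
                · obtain ⟨j, hj⟩ := IsPGroup.iff_card.mp hVt
                  rw [hj] at h
                  exact hrt ((Nat.prime_dvd_prime_iff_eq hr.out ht).mp (hr.out.dvd_of_dvd_pow h))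
            exact T'.not_dvd_index (hid.trans (Subgroup.index_dvd_of_le fun x hx =>
              Subgroup.mem_sup_right (hnew (Subgroup.mem_sup_right (Subgroup.mem_sup_left ⟨x, hx, rfl⟩)))))
        exact Subgroup.subgroupOf_eq_top.mp hle
      have hstep : ∀ j, N ≤ T j ⊔ D := by
        intro j
        induction j with
        | zero => exact hND
        | succ j ihj =>
          have h1 : N ≤ ⁅T j ⊔ D, G⁆ := by
            conv_lhs => rw [← hstab, Subgroup.lowerCentralSeries_succ]
            exact Subgroup.commutator_mono ihj le_rfl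
          refine h1.trans ?_
          set π := QuotientGroup.mk' D
          have hGm : G.map π ≤ L.map π := by
            rintro _ ⟨g, hg, rfl⟩
            obtain ⟨w, hw, c, hc, rfl⟩ := hfrat g hg
            exact ⟨c, hc, by simp [π, (QuotientGroup.eq_one_iff w).mpr (hVD hw)]⟩
          have hTm : (T j ⊔ D).map π = (T j).map π := by
            rw [Subgroup.map_sup, (Subgroup.map_eq_bot_iff D).mpr (QuotientGroup.ker_mk' D).ge, sup_bot_eq]
          have h2 : (⁅T j ⊔ D, G⁆).map π ≤ (T (j + 1)).map π := by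
            rw [Subgroup.map_commutator, hTm, hTs, Subgroup.map_commutator]
            exact Subgroup.commutator_mono le_rfl hGm
          refine (Subgroup.map_le_iff_le_comap.mp h2).trans ?_
          rw [Subgroup.comap_map_eq, QuotientGroup.ker_mk']
      have hRD : R ≤ D := by
        have h1 := hstep j₀
        have h2 : T j₀ = ⊥ := le_bot_iff.mp (hj₀ ▸ hTP j₀)
        rw [h2, bot_sup_eq] at h1
        exact hRN.trans h1
      have hR1 : R ≠ ⊥ := fun h => hRne (h ▸ bot_le)
      obtain ⟨i, hi⟩ := IsPGroup.iff_card.mp hRr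
      have hi0 : i ≠ 0 := fun h => hR1 (Subgroup.card_eq_one.mp (by rw [hi, h, pow_zero]))
      exact hDr ((hi ▸ dvd_pow_self r hi0).trans (Subgroup.card_dvd_of_le hRD))
    -- choose a minimal pair
    set S₁ := (S₀ : Subgroup L).map L.subtype with hS₁
    obtain ⟨S, ⟨hSS₁, hSAn, Q₀, hQ₀R, hQ₀A, hQ₀S, hQ₀ne⟩, hSmin⟩ := (Set.toFinite {S : Subgroup Γ | S ≤ S₁ ∧
        A ≤ Subgroup.normalizer (S : Set Γ) ∧ ∃ Q : Subgroup Γ, Q ≤ R ∧ A ≤ Subgroup.normalizer (Q : Set Γ) ∧
          S ≤ Subgroup.normalizer (Q : Set Γ) ∧ ¬ S ≤ Subgroup.centralizer (Q : Set Γ)}).exists_minimal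
      ⟨S₁, le_rfl, hSA, R, le_rfl, hRA, fun g hg => hRnL g (Subgroup.map_subtype_le _ hg), hSne⟩
    obtain ⟨Q, ⟨hQR, hQA, hQS, hQne⟩, hQmin⟩ := (Set.toFinite {Q : Subgroup Γ | Q ≤ R ∧
        A ≤ Subgroup.normalizer (Q : Set Γ) ∧ S ≤ Subgroup.normalizer (Q : Set Γ) ∧
          ¬ S ≤ Subgroup.centralizer (Q : Set Γ)}).exists_minimal ⟨Q₀, hQ₀R, hQ₀A, hQ₀S, hQ₀ne⟩
    have hSl : IsPGroup l S := (S₀.isPGroup'.map L.subtype).to_le hSS₁
    have hSL : S ≤ L := hSS₁.trans (Subgroup.map_subtype_le _)
    refine core Γ ι G V Q S r hι hGn hGs hcop hfpf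
      { vNormal := hV
        vle := hVG
        vComm := hVcomm
        vElem := ⟨t, ht, hVexp⟩
        qle := hQR.trans hRG
        sle := hSL.trans inf_le_left
        rprime := hr.out
        qGroup := hRr.to_le hQR
        qCoprimeV := hRVco.coprime_dvd_left (Subgroup.card_dvd_of_le hQR)
        sCoprimeQ := ?_
        aQ := hQA
        aS := hSAn
        sQ := hQS
        notCent := hQne
        sMin := ?_
        qMin := ?_
        faithful := fun x hx h => hLfaith x (hRL (hQR hx)) h }
    · obtain ⟨i, hi⟩ := IsPGroup.iff_card.mp hSl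
      obtain ⟨j, hj⟩ := IsPGroup.iff_card.mp (hRr.to_le hQR)
      rw [hi, hj]
      exact ((Nat.coprime_primes hl.out hr.out).mpr hlr).pow _ _
    · intro S₂ hS₂ hA₂ hne
      by_contra hc
      exact hne (le_antisymm hS₂ (hSmin ⟨hS₂.trans hSS₁, hA₂, Q, hQR, hQA, hS₂.trans hQS, hc⟩ hS₂))
    · intro Q₁ hQ₁ hS₁' hA₁ hne
      by_contra hc
      exact hne (le_antisymm hQ₁ (hQmin ⟨hQ₁.trans hQR, hA₁, hS₁', fun h => hc (Subgroup.le_centralizer_iff.mp h)⟩ hQ₁))

end CfsgLib.FittingHeight
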